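import Mathlib
import Cfsg.Agent.Lib.Helper10.BR0

/-!
# S0999 (Brauer–Reynolds), piece BR-N7 `index_p_of` (job board, for helper10)
-/

set_option autoImplicit false

namespace Cfsg.Agent.Lib.Helper10.BR

open Cfsg
open Cfsg.Agent.Lib.Helper83 (trivIrr)
open scoped ComplexConjugate

section T

variable {G : Type*} [Group G] [Fintype G] {p e t : ℕ} {P : Subgroup G} {ε : ℤ} {x₀ : ℕ}
  {A B Y D : Finset (IrrCharacter G)}

/-- BR-N7 -/
theorem index_p_of (h : Tab G p e t P ε x₀ A B Y D) (he : e = 2) (τ : G)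
    (hτ2 : orderOf τ = 2)
    (hz : Nat.card (Subgroup.centralizer ({τ} : Set G)) = p - 1)
    (hconj : ∀ g ∈ Subgroup.centralizer ({τ} : Set G), g ≠ 1 → IsConj τ g) :
    ∃ H : Subgroup G, H.index = p := by
  classical
  have hp5 := h.hp5
  have hcardG := h.cardG
  obtain ⟨Z, hZ⟩ : ∃ Z : Subgroup G, Z = Subgroup.centralizer ({τ} : Set G) := ⟨_, rfl⟩
  rw [← hZ] at hz hconj
  have hmemZ : ∀ g : G, g ∈ Z ↔ τ * g = g * τ := by
    intro g
    rw [hZ, Subgroup.mem_centralizer_iff]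
    constructor
    · intro hg
      exact hg τ rfl
    · intro hg x hx
      rw [Set.mem_singleton_iff] at hx
      rw [hx]
      exact hg
  have hττ : τ * τ = 1 := by rw [← pow_two, ← hτ2, pow_orderOf_eq_one]
  have hτne : τ ≠ 1 := by
    intro h1
    rw [h1, orderOf_one] at hτ2
    omega
  have hτZ : τ ∈ Z := (hmemZ τ).2 rfl
  -- exponent two
  have hsq : ∀ g ∈ Z, g * g = 1 := by
    intro g hg
    by_cases h1 : g = 1
    · rw [h1, one_mul]
    · obtain ⟨c, hc⟩ := isConj_iff.mp (hconj g hg h1)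
      have e1 : c * τ * c⁻¹ * (c * τ * c⁻¹) = c * (τ * τ) * c⁻¹ := by group
      rw [← hc, e1, hττ, mul_one, mul_inv_cancel]
  have hinv : ∀ g ∈ Z, g⁻¹ = g := fun g hg => inv_eq_of_mul_eq_one_left (hsq g hg)
  have hcomm : ∀ a ∈ Z, ∀ b ∈ Z, a * b = b * a := by
    intro a ha b hb
    have h1 := hinv (a * b) (Z.mul_mem ha hb)
    rw [mul_inv_rev, hinv a ha, hinv b hb] at h1
    exact h1.symm
  -- an element conjugating `τ` into `Z` normalizes `Z`
  have hnorm : ∀ c : G, c * τ * c⁻¹ ∈ Z → c ∈ Subgroup.normalizer (Z : Set G) := by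
    intro c hc
    obtain ⟨Zσ, hZσ⟩ : ∃ Zσ : Subgroup G, Zσ = Subgroup.centralizer ({c * τ * c⁻¹} : Set G) :=
      ⟨_, rfl⟩
    have hmemσ : ∀ g : G, g ∈ Zσ ↔ c * τ * c⁻¹ * g = g * (c * τ * c⁻¹) := by
      intro g
      rw [hZσ, Subgroup.mem_centralizer_iff]
      constructor
      · intro hg
        exact hg _ rfl
      · intro hg x hx
        rw [Set.mem_singleton_iff] at hx
        rw [hx]
        exact hg
    have hle : Z ≤ Zσ := by
      intro z hz'
      rw [hmemσ]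
      exact hcomm _ hc _ hz'
    have hiff : ∀ g : G, g ∈ Z ↔ c * g * c⁻¹ ∈ Zσ := by
      intro g
      rw [hmemZ, hmemσ]
      constructor
      · intro hg
        have e1 : c * τ * c⁻¹ * (c * g * c⁻¹) = c * (τ * g) * c⁻¹ := by group
        have e2 : c * g * c⁻¹ * (c * τ * c⁻¹) = c * (g * τ) * c⁻¹ := by group
        rw [e1, e2, hg]
      · intro hg
        have e1 : τ * g = c⁻¹ * (c * τ * c⁻¹ * (c * g * c⁻¹)) * c := by group
        have e2 : g * τ = c⁻¹ * (c * g * c⁻¹ * (c * τ * c⁻¹)) * c := by group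
        rw [e1, e2, hg]
    have hcard : Nat.card Zσ = Nat.card Z := by
      refine (Nat.card_congr ?_).symm
      exact Equiv.subtypeEquiv (MulAut.conj c).toEquiv (fun g => hiff g)
    have heq : Z = Zσ := Subgroup.eq_of_le_of_card_ge hle (le_of_eq hcard)
    rw [Subgroup.mem_normalizer_iff]
    intro g
    have := hiff g
    rw [← heq] at this
    exact this
  obtain ⟨N, hN⟩ : ∃ N : Subgroup G, N = Subgroup.normalizer (Z : Set G) := ⟨_, rfl⟩
  rw [← hN] at hnorm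
  have hZN : Z ≤ N := by
    rw [hN]
    exact Subgroup.le_normalizer
  have hNmem : ∀ a ∈ N, ∀ g : G, g ∈ Z ↔ a * g * a⁻¹ ∈ Z := by
    intro a ha
    rw [hN, Subgroup.mem_normalizer_iff] at ha
    exact ha
  -- representatives
  have hrep : ∀ x : {x : ↥Z // x ≠ 1}, ∃ c : G, c * τ * c⁻¹ = (x.1 : G) := by
    intro x
    have hx1 : (x.1 : G) ≠ 1 := fun h1 => x.2 (Subtype.ext h1)
    exact isConj_iff.mp (hconj x.1.1 x.1.2 hx1)
  choose rep hrepeq using hrep
  have hrepN : ∀ x, rep x ∈ N := by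
    intro x
    apply hnorm
    rw [hrepeq]
    exact x.1.2
  have hzτ : ∀ z ∈ Z, z * τ * z⁻¹ = τ := by
    intro z hz'
    rw [← (hmemZ z).1 hz', mul_assoc, mul_inv_cancel, mul_one]
  obtain ⟨f, hf⟩ : ∃ f : {x : ↥Z // x ≠ 1} × ↥Z → ↥N, ∀ y, ((f y : ↥N) : G) = rep y.1 * y.2 :=
    ⟨fun y => ⟨rep y.1 * y.2, N.mul_mem (hrepN y.1) (hZN y.2.2)⟩, fun y => rfl⟩
  have hconjf : ∀ y, ((f y : ↥N) : G) * τ * ((f y : ↥N) : G)⁻¹ = ((y.1.1 : ↥Z) : G) := by
    intro y
    rw [hf, mul_inv_rev]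
    have e1 : rep y.1 * ↑y.2 * τ * ((y.2 : G)⁻¹ * (rep y.1)⁻¹) =
        rep y.1 * (↑y.2 * τ * (y.2 : G)⁻¹) * (rep y.1)⁻¹ := by group
    rw [e1, hzτ _ y.2.2, hrepeq]
  have hbij : Function.Bijective f := by
    constructor
    · intro y y' hyy
      have h1 : ((y.1.1 : ↥Z) : G) = ((y'.1.1 : ↥Z) : G) := by
        rw [← hconjf y, ← hconjf y', hyy]
      have h2 : y.1 = y'.1 := Subtype.ext (Subtype.ext h1)
      have h3 : rep y.1 * (y.2 : G) = rep y'.1 * (y'.2 : G) := by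
        rw [← hf, ← hf, hyy]
      rw [h2] at h3
      have h4 : (y.2 : G) = (y'.2 : G) := mul_left_cancel h3
      exact Prod.ext h2 (Subtype.ext h4)
    · intro a
      have hσZ : (a : G) * τ * (a : G)⁻¹ ∈ Z := (hNmem a.1 a.2 τ).1 hτZ
      have hσne : (⟨(a : G) * τ * (a : G)⁻¹, hσZ⟩ : ↥Z) ≠ 1 := by
        intro h1
        have h2 : (a : G) * τ * (a : G)⁻¹ = 1 := congrArg Subtype.val h1
        apply hτne
        have e1 : τ = (a : G)⁻¹ * ((a : G) * τ * (a : G)⁻¹) * (a : G) := by group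
        rw [e1, h2, mul_one, inv_mul_cancel]
      obtain ⟨x, hx⟩ : ∃ x : {x : ↥Z // x ≠ 1}, ((x.1 : ↥Z) : G) = (a : G) * τ * (a : G)⁻¹ :=
        ⟨⟨⟨(a : G) * τ * (a : G)⁻¹, hσZ⟩, hσne⟩, rfl⟩
      have h5 : rep x * τ * (rep x)⁻¹ = (a : G) * τ * (a : G)⁻¹ := by rw [hrepeq, hx]
      have hzZ : (rep x)⁻¹ * (a : G) ∈ Z := by
        rw [hmemZ]
        have h6 : rep x * τ = (a : G) * τ * (a : G)⁻¹ * rep x := by
          rw [← h5]
          group
        have e1 : τ * ((rep x)⁻¹ * (a : G)) = (rep x)⁻¹ * (rep x * τ) * (rep x)⁻¹ * (a : G) := by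
          group
        rw [e1, h6]
        group
      refine ⟨(x, ⟨_, hzZ⟩), ?_⟩
      apply Subtype.ext
      rw [hf]
      show rep x * ((rep x)⁻¹ * (a : G)) = a
      group
  have hcardN : Nat.card N = (p - 1 - 1) * (p - 1) := by
    rw [← Nat.card_congr (Equiv.ofBijective f hbij), Nat.card_prod, hz]
    congr 1
    rw [Nat.card_eq_fintype_card]
    have := Set.card_ne_eq (1 : ↥Z)
    rw [← Nat.card_eq_fintype_card, ← Nat.card_eq_fintype_card, hz] at this
    rw [← this, Nat.card_eq_fintype_card]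
    rfl
  refine ⟨N, ?_⟩
  have h1 := Subgroup.index_mul_card N
  rw [hcardN, hcardG, he] at h1
  have hpos : 0 < (p - 1 - 1) * (p - 1) := by
    apply Nat.mul_pos <;> omega
  have e2 : p * (p - 1) * (p - 2) = p * ((p - 1 - 1) * (p - 1)) := by
    have : p - 1 - 1 = p - 2 := by omega
    rw [this]
    ring
  rw [e2] at h1
  exact Nat.eq_of_mul_eq_mul_right hpos h1

end T

end Cfsg.Agent.Lib.Helper10.BR
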