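import Mathlib
import Cfsg.Agent.Lib.Helper25.InvPrune

/-!
# Involution classes, piece CP (helper54, for helper25): soundness of the pruned enumeration of
the Weyl group
-/

set_option autoImplicit false

namespace Cfsg.Agent.Lib.Helper25

open Cfsg Cfsg.Lie Matrix
open Cfsg.Agent.Lib.Helper24

theorem cp_getD_map_range (n : ℕ) (f : ℕ → ℕ) (i : ℕ) (hi : i < n) :
    ((List.range n).map f).getD i 0 = f i := by
  simp [List.getD, hi]

/-- a word in letters `< m` does not change the coroot coordinates `≥ m` -/
theorem cp_coord (D : ChevalleyDatum)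
    (hD : D ∈ [chevG2, chevB2, chevD4, chevF4, chevE6, chevE7, chevE8]) (m : ℕ) (y : List ℕ)
    (hy : ∀ i ∈ y, i < D.rank) (hym : ∀ i ∈ y, i < m) (r : ℕ) (hr : r < D.nroots) (k : ℕ)
    (hmk : m ≤ k) (hk : k < D.rank) : corootC D (wPi D y r) k = corootC D r k := by
  induction y with
  | nil => rfl
  | cons i y ih =>
    have hy' : ∀ j ∈ y, j < D.rank := fun j hj => hy j (by simp [hj])
    have hi : i < D.rank := hy i (by simp)
    have him : i < m := hym i (by simp)
    rw [wPi_cons, coroot_reflect_ne D hD i hi _ (wPi_lt D hD y hy' r hr) k hk (by omega)]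
    exact ih hy' (fun j hj => hym j (by simp [hj]))

/-- pruning is sound -/
theorem cp_not_bad (D : ChevalleyDatum)
    (hD : D ∈ [chevG2, chevB2, chevD4, chevF4, chevE6, chevE7, chevE8]) (j : ℕ) (y p : List ℕ)
    (hy : ∀ i ∈ y, i < D.rank) (hyj : ∀ i ∈ y, i < j) (hp : ∀ i ∈ p, i < D.rank)
    (tup : List ℕ) (htup : tup = (List.range D.rank).map (fun i => wPi D p (D.simple i)))
    (hcond : ∀ i < D.rank, D.IsNegRoot (wPi D (y ++ p) (D.simple i)) ∨
      wPi D (y ++ p) (D.simple i) = D.simple i) : pruneBad D j tup = false := by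
  have hD' : D ∈ chevList := hD
  by_contra hbad
  rw [Bool.not_eq_false] at hbad
  unfold pruneBad at hbad
  simp only [List.any_eq_true, List.mem_range, Bool.and_eq_true, decide_eq_true_eq] at hbad
  obtain ⟨i, hi, ⟨hpos, k₁, hk₁, hjk₁, hne₁⟩, k₂, hk₂, hjk₂, hne₂⟩ := hbad
  have hget : tup.getD i 0 = wPi D p (D.simple i) := by
    rw [htup]
    exact cp_getD_map_range D.rank (fun i => wPi D p (D.simple i)) i hi
  rw [hget] at hpos hne₁ hne₂
  have hr : wPi D p (D.simple i) < D.nroots := wPi_lt D hD p hp _ (simple_lt D hD' i hi)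
  have hnot : ¬ inSpan D j (wPi D p (D.simple i)) := fun h => hne₁ (h k₁ hjk₁ hk₁)
  obtain ⟨hpos', -⟩ := wPi_pos_of_not_inSpan D hD j y hy hyj _ hpos hnot
  have hlt : wPi D y (wPi D p (D.simple i)) < D.nroots := wPi_lt D hD y hy _ hr
  rcases hcond i hi with hneg | heq
  · rw [wPi_append] at hneg
    exact (sign_facts D hD _ hlt).2.1 ⟨hpos', hneg⟩
  · rw [wPi_append] at heq
    have h1 := cp_coord D hD j y hy hyj _ hr k₂ hjk₂ hk₂
    rw [heq, corootC_simple D hD' i hi k₂ hk₂] at h1
    exact hne₂ h1.symm

theorem cp_posChkAll_append (D : ChevalleyDatum) (A B : List LevelData) (k : ℕ) :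
    posChkAll D k (A ++ B) = (posChkAll D k A && posChkAll D (k + A.length) B) := by
  induction A generalizing k with
  | nil => simp [posChkAll]
  | cons L A ih =>
    simp only [List.cons_append, posChkAll, List.length_cons, ih (k + 1), Bool.and_assoc]
    congr 3
    omega

theorem cp_letters (D : ChevalleyDatum) (A : List LevelData) (k : ℕ)
    (h : posChkAll D k A = true) : ∀ v ∈ allWords A, ∀ i ∈ v, i < k + A.length := by
  induction A generalizing k with
  | nil =>
    intro v hv i hi
    simp only [allWords, List.mem_singleton] at hv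
    subst hv
    simp at hi
  | cons L A ih =>
    intro v hv i hi
    simp only [posChkAll, Bool.and_eq_true] at h
    obtain ⟨hL, hrest⟩ := h
    unfold posChk at hL
    simp only [List.all_eq_true, List.mem_range, Bool.and_eq_true, decide_eq_true_eq] at hL
    simp only [allWords, List.mem_flatMap, List.mem_map, List.mem_range] at hv
    obtain ⟨x, ⟨c, hc, rfl⟩, v', hv', rfl⟩ := hv
    simp only [List.length_cons]
    rcases List.mem_append.1 hi with h1 | h1
    · have := (hL c hc).1.1 i h1
      omega
    · have := ih (k + 1) hrest v' hv' i h1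
      omega

theorem cp_allWords_snoc (A : List LevelData) (L : LevelData) :
    ∀ v ∈ allWords (A ++ [L]), ∃ a ∈ allWords A, ∃ c < L.n, v = a ++ wd L.words c := by
  induction A with
  | nil =>
    intro v hv
    simp only [List.nil_append, allWords, List.mem_flatMap, List.mem_map, List.mem_range,
      List.mem_singleton] at hv
    obtain ⟨x, ⟨c, hc, rfl⟩, v', rfl, rfl⟩ := hv
    exact ⟨[], by simp [allWords], c, hc, by simp⟩
  | cons L0 A ih =>
    intro v hv
    simp only [List.cons_append, allWords, List.mem_flatMap, List.mem_map, List.mem_range] at hv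
    obtain ⟨x, ⟨c0, hc0, rfl⟩, v', hv', rfl⟩ := hv
    obtain ⟨a, ha, c, hc, rfl⟩ := ih v' hv'
    refine ⟨wd L0.words c0 ++ a, ?_, c, hc, by rw [List.append_assoc]⟩
    simp only [allWords, List.mem_flatMap, List.mem_map, List.mem_range]
    exact ⟨wd L0.words c0, ⟨c0, hc0, rfl⟩, a, ha, rfl⟩

theorem cp_main (D : ChevalleyDatum)
    (hD : D ∈ [chevG2, chevB2, chevD4, chevF4, chevE6, chevE7, chevE8]) :
    ∀ (preRev : List LevelData) (tup word : List ℕ),
      posChkAll D 0 preRev.reverse = true →
      (∀ i ∈ word, i < D.rank) →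
      tup = (List.range D.rank).map (fun i => wPi D word (D.simple i)) →
      ∀ a ∈ allWords preRev.reverse, (∀ i ∈ a, i < D.rank) →
        (∀ i < D.rank, D.IsNegRoot (wPi D (a ++ word) (D.simple i)) ∨
          wPi D (a ++ word) (D.simple i) = D.simple i) →
        a ++ word ∈ pruneSearch D preRev tup word := by
  have hD' : D ∈ chevList := hD
  intro preRev
  induction preRev with
  | nil =>
    intro tup word _ hword htup a ha hav hcond
    simp only [List.reverse_nil, allWords, List.mem_singleton] at ha
    subst ha
    have hbad := cp_not_bad D hD 0 [] word (by simp) (by simp) hword tup htup hcond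
    rw [pruneSearch, if_neg (by rw [hbad]; exact Bool.false_ne_true)]
    simp
  | cons L rest ih =>
    intro tup word hchk hword htup a ha hav hcond
    rw [List.reverse_cons] at hchk ha
    have hletters := cp_letters D _ 0 hchk a ha
    rw [cp_posChkAll_append, Bool.and_eq_true] at hchk
    obtain ⟨hchk1, -⟩ := hchk
    obtain ⟨a', ha', c, hc, rfl⟩ := cp_allWords_snoc rest.reverse L a ha
    have hbad := cp_not_bad D hD (rest.length + 1) (a' ++ wd L.words c) word hav
      (fun i hi => by
        have := hletters i hi
        simpa using this) hword tup htup hcond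
    rw [pruneSearch, if_neg (by rw [hbad]; exact Bool.false_ne_true)]
    rw [List.mem_flatMap]
    refine ⟨wd L.words c, List.mem_map.2 ⟨c, List.mem_range.2 hc, rfl⟩, ?_⟩
    have hx : ∀ i ∈ wd L.words c, i < D.rank := fun i hi => hav i (List.mem_append.2 (Or.inr hi))
    have ha'v : ∀ i ∈ a', i < D.rank := fun i hi => hav i (List.mem_append.2 (Or.inl hi))
    have hword' : ∀ i ∈ wd L.words c ++ word, i < D.rank := by
      intro i hi
      rcases List.mem_append.1 hi with h | h
      · exact hx i h
      · exact hword i h
    have htup' : tup.map (wPiF D (wd L.words c)) =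
        (List.range D.rank).map (fun i => wPi D (wd L.words c ++ word) (D.simple i)) := by
      rw [htup, List.map_map]
      apply List.map_congr_left
      intro i hi
      have hi' : i < D.rank := List.mem_range.1 hi
      show wPiF D (wd L.words c) (wPi D word (D.simple i)) = _
      rw [wPiF_eq D hD _ hx _ (wPi_lt D hD word hword _ (simple_lt D hD' i hi')), wPi_append]
    have hcond' : ∀ i < D.rank,
        D.IsNegRoot (wPi D (a' ++ (wd L.words c ++ word)) (D.simple i)) ∨
          wPi D (a' ++ (wd L.words c ++ word)) (D.simple i) = D.simple i := by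
      intro i hi
      rw [← List.append_assoc]
      exact hcond i hi
    have := ih (tup.map (wPiF D (wd L.words c))) (wd L.words c ++ word) hchk1 hword' htup' a' ha'
      ha'v hcond'
    rw [List.append_assoc]
    exact this

theorem pruneSearch_sound (D : ChevalleyDatum)
    (hD : D ∈ [chevG2, chevB2, chevD4, chevF4, chevE6, chevE7, chevE8]) (levels : List LevelData)
    (hlen : levels.length = D.rank) (hpos : posChkAll D 0 levels = true) :
    ∀ v ∈ allWords levels, (∀ i ∈ v, i < D.rank) →
      (∀ i < D.rank, D.IsNegRoot (wPi D v (D.simple i)) ∨ wPi D v (D.simple i) = D.simple i) →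
      v ∈ pruneSearch D levels.reverse ((List.range D.rank).map D.simple) [] := by
  intro v hv hvv hcond
  have h := cp_main D hD levels.reverse ((List.range D.rank).map D.simple) []
    (by rw [List.reverse_reverse]; exact hpos) (by simp) rfl v
    (by rw [List.reverse_reverse]; exact hv) hvv
    (by rw [List.append_nil]; exact hcond)
  rw [List.append_nil] at h
  exact h

end Cfsg.Agent.Lib.Helper25
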