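import Mathlib
import Cfsg.Agent.S4343
import Cfsg.Agent.S0144
import Cfsg.Agent.Lib.Helper11.S983Defs
import Cfsg.Agent.Lib.Helper11.S496Route
import Cfsg.Agent.Lib.Helper23.Syl
import Cfsg.Agent.Lib.Helper23.Syl2

/-!
# S0983, piece T3 (helper54, for helper11): the number of Sylow `p`-subgroups of a simple group
with `p ^ a ∥ |G|`, `2 ≤ a`, survives the numeric filter `candsPow`.
-/

set_option autoImplicit false

namespace Cfsg.Agent.S983

open Subgroup Cfsg.Agent.Lib.Helper23

variable {G : Type*} [Group G] [Finite G]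

/-- piece T3 -/
theorem mem_candsPow [IsSimpleGroup G] (hG : ¬ IsMulCommutative G) {N p a m : ℕ} [Fact p.Prime]
    (h : Nat.card G = N) (hN : N = p ^ a * m) (hm : ¬ p ∣ m) (ha : 2 ≤ a) :
    Nat.card (Sylow p G) ∈ candsPow N p a := by
  subst hN
  have hpp : p.Prime := Fact.out
  have hpa : 0 < p ^ a := pow_pos hpp.pos a
  have hm0 : m ≠ 0 := by rintro rfl; exact hm (dvd_zero p)
  have hdiv : p ^ a * m / p ^ a = m := Nat.mul_div_cancel_left m hpa
  have hm1 : m ≠ 1 := by
    rintro rfl
    exact Cfsg.Agent.S496.solv_false hG p 2 a 0 hpp Nat.prime_two (by rw [h]; simp)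
  obtain ⟨P⟩ : Nonempty (Sylow p G) := inferInstance
  have hPc : Nat.card (P : Subgroup G) = p ^ a := sylow_card_of_eq h hm P
  have hd_dvd : Nat.card (Sylow p G) ∣ m := card_sylow_dvd_of_eq h hm
  have hd_le : Nat.card (Sylow p G) ≤ m := Nat.le_of_dvd (Nat.pos_of_ne_zero hm0) hd_dvd
  have hd_mod : Nat.card (Sylow p G) % p = 1 := by
    rw [card_sylow_mod p, Nat.mod_eq_of_lt hpp.one_lt]
  have hd_ne : Nat.card (Sylow p G) ≠ 1 := simple_sylow_card_ne_one h hm (by omega) hm1
  have hidx : Nat.card (Sylow p G) = (normalizer ((P : Subgroup G) : Set G)).index :=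
    Sylow.card_eq_index_normalizer P
  have hNtop : normalizer ((P : Subgroup G) : Set G) ≠ ⊤ := by
    intro ht
    apply hd_ne
    rw [hidx, ht, Subgroup.index_top]
  have hemb : 2 * (p ^ a * m) ∣ (Nat.card (Sylow p G)).factorial := by
    have h1 := simple_two_mul_card_dvd_factorial hG (normalizer ((P : Subgroup G) : Set G)) hNtop
    rwa [← hidx, h] at h1
  have hp2 : p ^ 2 ≤ Nat.card (Sylow p G) := by
    by_contra hlt
    push Not at hlt
    have hpdvd : p ∣ Nat.card G := by
      rw [h]
      exact Dvd.dvd.mul_right (dvd_pow_self p (by omega)) m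
    have h1 : Nat.card (P : Subgroup G) = p := Cfsg.Agent.S4343.result hG p hpdvd hlt P
    have h2 : p ^ a = p := hPc.symm.trans h1
    have h3 : p ^ 2 ≤ p ^ a := Nat.pow_le_pow_right hpp.pos ha
    have h4 : p < p ^ 2 := by nlinarith [hpp.one_lt]
    omega
  have hlast : a = 2 → Nat.card (Sylow p G) ≠ m := by
    intro ha2 hdm
    subst ha2
    have h1 := card_normalizer_sylow_mul P
    rw [hdm, h] at h1
    have hNc : Nat.card (normalizer ((P : Subgroup G) : Set G)) = p ^ 2 :=
      Nat.eq_of_mul_eq_mul_right (Nat.pos_of_ne_zero hm0) h1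
    have hle : (P : Subgroup G) ≤ normalizer ((P : Subgroup G) : Set G) := le_normalizer
    have heq : (P : Subgroup G) = normalizer ((P : Subgroup G) : Set G) :=
      Subgroup.eq_of_le_of_card_ge hle (by rw [hNc, hPc])
    have hcomm : IsMulCommutative (P : Subgroup G) :=
      IsPGroup.isMulCommutative_of_card_eq_prime_sq hPc
    have hPC : (P : Subgroup G) ≤ centralizer ((P : Subgroup G) : Set G) :=
      Subgroup.le_centralizer _
    have hPbot : (P : Subgroup G) ≠ ⊥ := by
      intro hb
      rw [hb, Subgroup.card_bot] at hPc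
      have h5 : 1 < p ^ 2 := Nat.one_lt_pow (by norm_num) hpp.one_lt
      omega
    have hNC : normalizer ((P : Subgroup G) : Set G) ≤ centralizer ((P : Subgroup G) : Set G) := by
      intro x hx
      rw [← heq] at hx
      exact hPC hx
    exact simple_not_normalizer_le_centralizer hG P hPbot hNC
  unfold candsPow
  rw [List.mem_filter, List.mem_range, hdiv]
  refine ⟨by omega, ?_⟩
  simp only [Bool.and_eq_true, Bool.or_eq_true, decide_eq_true_eq]
  refine ⟨hd_mod, hd_ne, hd_dvd, Or.inr hemb, hp2, ?_⟩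
  by_cases ha2 : a = 2
  · exact Or.inr (hlast ha2)
  · exact Or.inl ha2

end Cfsg.Agent.S983
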