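import Mathlib
import Cfsg.Agent.Lib.Helper19.DkK

set_option autoImplicit false

namespace Cfsg.Agent.Lib.Helper54

open Matrix Cfsg.Agent.S0809 Cfsg.Agent.Lib.Helper19.Dk

section DkMax

variable {F : Type*} [Field F]

theorem dkm_lift (L : Subgroup (P2 F)) (a : P2 F) (ha : a ∈ L) :
    ∃ a₁ ∈ Lof L, prj F a₁ = a :=
  exists_lift L ⟨a, ha⟩

/-- abelian case of Dickson's list -/
theorem dkm_comm (L : Subgroup (P2 F)) (x : S2 F) (hx : tr x ^ 2 ≠ 4)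
    (hall : ∀ g ∈ Lof L, g * x = x * g) (a b : P2 F) (ha : a ∈ L) (hb : b ∈ L) :
    a * b = b * a := by
  obtain ⟨a₁, haL, rfl⟩ := dkm_lift L a ha
  obtain ⟨b₁, hbL, rfl⟩ := dkm_lift L b hb
  rw [← map_mul, ← map_mul,
    comm_trans a₁ x b₁ (not_isSc_of_tr x hx) (hall a₁ haL) (hall b₁ hbL)]

/-- dihedral case of Dickson's list: squares commute -/
theorem dkm_sq_comm [Finite F] (L : Subgroup (P2 F)) (x : S2 F) (hx : tr x ^ 2 ≠ 4)
    (hcard : Nat.card (Lof L) = 2 * cA (Lof L) x) (a b : P2 F) (ha : a ∈ L) (hb : b ∈ L) :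
    (a * a) * (b * b) = (b * b) * (a * a) := by
  have hle : cenL (Lof L) x ≤ Lof L := inf_le_left
  have hidx : ((cenL (Lof L) x).subgroupOf (Lof L)).index = 2 := by
    have h1 := Subgroup.card_mul_index ((cenL (Lof L) x).subgroupOf (Lof L))
    have h2 : Nat.card ((cenL (Lof L) x).subgroupOf (Lof L)) = cA (Lof L) x :=
      Nat.card_congr (Subgroup.subgroupOfEquivOfLe hle).toEquiv
    rw [h2, hcard] at h1
    have hpos : 0 < cA (Lof L) x := Nat.card_pos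
    have h3 : cA (Lof L) x * ((cenL (Lof L) x).subgroupOf (Lof L)).index = cA (Lof L) x * 2 := by
      rw [h1]; ring
    exact Nat.eq_of_mul_eq_mul_left hpos h3
  have key : ∀ g ∈ Lof L, (g * g) * x = x * (g * g) := by
    intro g hg
    have := Subgroup.mul_self_mem_of_index_two hidx (⟨g, hg⟩ : Lof L)
    rw [Subgroup.mem_subgroupOf] at this
    exact (mem_cenL.1 this).2
  obtain ⟨a₁, haL, rfl⟩ := dkm_lift L a ha
  obtain ⟨b₁, hbL, rfl⟩ := dkm_lift L b hb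
  have h := comm_trans (a₁ * a₁) x (b₁ * b₁) (not_isSc_of_tr x hx) (key a₁ haL) (key b₁ hbL)
  simp only [← map_mul]
  rw [h]

/-- the commutator of two elements of a conjugate of the Borel subgroup is unipotent -/
theorem dkm_bor_comm (g a b : S2 F) (ha : (g * a * g⁻¹) 1 0 = 0) (hb : (g * b * g⁻¹) 1 0 = 0) :
    ∃ c : F, a * b * a⁻¹ * b⁻¹ = g⁻¹ * uu c * g := by
  obtain ⟨A, hA⟩ : ∃ A : Bor F, (A : S2 F) = g * a * g⁻¹ := ⟨⟨g * a * g⁻¹, ha⟩, rfl⟩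
  obtain ⟨B, hB⟩ : ∃ B : Bor F, (B : S2 F) = g * b * g⁻¹ := ⟨⟨g * b * g⁻¹, hb⟩, rfl⟩
  have hk : chi F (A * B * A⁻¹ * B⁻¹) = 1 := by
    rw [map_mul, map_mul, map_mul, map_inv, map_inv, mul_comm (chi F A) (chi F B)]
    simp
  have h10 : ((A * B * A⁻¹ * B⁻¹ : Bor F) : S2 F) 1 0 = 0 := (A * B * A⁻¹ * B⁻¹).2
  have h00 : ((A * B * A⁻¹ * B⁻¹ : Bor F) : S2 F) 0 0 = 1 := by
    have h : ((chi F (A * B * A⁻¹ * B⁻¹) : Fˣ) : F) = 1 := by rw [hk]; rfl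
    rw [chi_val] at h
    exact h
  have e := eq_uu_of_bor _ h10 h00
  have e2 : ((A * B * A⁻¹ * B⁻¹ : Bor F) : S2 F) = g * (a * b * a⁻¹ * b⁻¹) * g⁻¹ := by
    rw [Subgroup.coe_mul, Subgroup.coe_mul, Subgroup.coe_mul, Subgroup.coe_inv, Subgroup.coe_inv,
      hA, hB]
    group
  rw [e2] at e
  refine ⟨(g * (a * b * a⁻¹ * b⁻¹) * g⁻¹ : S2 F) 0 1, ?_⟩
  rw [← e]
  group

/-- Borel case: commutators have order dividing `p` -/
theorem dkm_bor_pow (p : ℕ) [Fact p.Prime] [CharP F p] (L : Subgroup (P2 F)) (g : S2 F)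
    (hg : ∀ ℓ ∈ Lof L, (g * ℓ * g⁻¹) 1 0 = 0) (a b : P2 F) (ha : a ∈ L) (hb : b ∈ L) :
    (a * b * a⁻¹ * b⁻¹) ^ p = 1 := by
  obtain ⟨a₁, haL, rfl⟩ := dkm_lift L a ha
  obtain ⟨b₁, hbL, rfl⟩ := dkm_lift L b hb
  obtain ⟨c, hc⟩ := dkm_bor_comm g a₁ b₁ (hg a₁ haL) (hg b₁ hbL)
  rw [← map_inv, ← map_inv, ← map_mul, ← map_mul, ← map_mul, ← map_pow, hc]
  have h : (g⁻¹ * uu c * g) ^ p = 1 := by
    have h1 : g⁻¹ * uu c * g = g⁻¹ * uu c * g⁻¹⁻¹ := by rw [inv_inv]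
    rw [h1, conj_pow, pow_char_of_tr p (uu c) (tr_uu c)]
    group
  rw [h, map_one]

/-- Borel case: commutators commute -/
theorem dkm_bor_cc (L : Subgroup (P2 F)) (g : S2 F)
    (hg : ∀ ℓ ∈ Lof L, (g * ℓ * g⁻¹) 1 0 = 0) (a b c d : P2 F) (ha : a ∈ L) (hb : b ∈ L)
    (hc : c ∈ L) (hd : d ∈ L) :
    (a * b * a⁻¹ * b⁻¹) * (c * d * c⁻¹ * d⁻¹) = (c * d * c⁻¹ * d⁻¹) * (a * b * a⁻¹ * b⁻¹) := by
  obtain ⟨a₁, haL, rfl⟩ := dkm_lift L a ha
  obtain ⟨b₁, hbL, rfl⟩ := dkm_lift L b hb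
  obtain ⟨c₁, hcL, rfl⟩ := dkm_lift L c hc
  obtain ⟨d₁, hdL, rfl⟩ := dkm_lift L d hd
  obtain ⟨s, hs⟩ := dkm_bor_comm g a₁ b₁ (hg a₁ haL) (hg b₁ hbL)
  obtain ⟨t, ht⟩ := dkm_bor_comm g c₁ d₁ (hg c₁ hcL) (hg d₁ hdL)
  simp only [← map_inv, ← map_mul]
  rw [hs, ht]
  have h1 : g⁻¹ * uu s * g * (g⁻¹ * uu t * g) = g⁻¹ * (uu s * uu t) * g := by group
  have h2 : g⁻¹ * uu t * g * (g⁻¹ * uu s * g) = g⁻¹ * (uu t * uu s) * g := by group
  rw [h1, h2, uu_mul, uu_mul, add_comm]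

/-- the order of the unipotent part divides `q` -/
theorem dkm_unip_dvd [Fintype F] (L : Subgroup (S2 F)) (hZ : Subgroup.center (S2 F) ≤ L)
    (x₀ : S2 F) (hx₀ : x₀ ∈ L) (hsc : ¬ IsSc x₀) (h4 : tr x₀ ^ 2 = 4) (q' : ℕ)
    (hcA : cA L x₀ = Nat.card (Subgroup.center (S2 F)) * q') : q' ∣ Fintype.card F := by
  obtain ⟨x₁, hx₁L, hsc₁, htr₁, hcomm⟩ := exists_tr_two L hZ x₀ hx₀ hsc h4
  have D := ctd L hZ
  have hn0 : x₀ ∉ Subgroup.center (S2 F) := fun h => hsc ((isSc_iff_center _).2 h)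
  have hn1 : x₁ ∉ Subgroup.center (S2 F) := fun h => hsc₁ ((isSc_iff_center _).2 h)
  have hA : cA L x₀ = cA L x₁ := cA_of_comm D hn0 hn1 hcomm
  obtain ⟨g, b, hb, hgb⟩ := exists_conj_uu x₁ htr₁ hsc₁
  have hZ' := center_le_map L hZ (MulAut.conj g)
  have hconj : ∀ y : S2 F, (MulAut.conj g) y = g * y * g⁻¹ := fun y => by simp
  have h1 : cA L x₁ = cA (L.map (MulAut.conj g).toMonoidHom) (uu b) := by
    rw [← hgb, ← hconj, cA_map]
  have h2 := cA_uu (L.map (MulAut.conj g).toMonoidHom) hZ' b hb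
  have h3 : q' = Nat.card (BB (L.map (MulAut.conj g).toMonoidHom)) := by
    have hz : 0 < Nat.card (Subgroup.center (S2 F)) := Nat.card_pos
    have h5 : Nat.card (Subgroup.center (S2 F)) * q'
        = Nat.card (Subgroup.center (S2 F)) *
          Nat.card (BB (L.map (MulAut.conj g).toMonoidHom)) := by
      rw [← hcA, hA, h1, h2]
    exact Nat.eq_of_mul_eq_mul_left hz h5
  rw [h3, ← Nat.card_eq_fintype_card]
  exact AddSubgroup.card_addSubgroup_dvd_card _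

/-- A coarse form of Dickson's list for a subgroup `L` of `PSL₂(F)`. -/
theorem dkm_cases [Fintype F] (p : ℕ) [Fact p.Prime] [CharP F p] (L : Subgroup (P2 F)) :
    (∀ a ∈ L, ∀ b ∈ L, (a * a) * (b * b) = (b * b) * (a * a)) ∨
    ((∀ a ∈ L, ∀ b ∈ L, (a * b * a⁻¹ * b⁻¹) ^ p = 1) ∧
      (∀ a ∈ L, ∀ b ∈ L, ∀ c ∈ L, ∀ d ∈ L, (a * b * a⁻¹ * b⁻¹) * (c * d * c⁻¹ * d⁻¹)
        = (c * d * c⁻¹ * d⁻¹) * (a * b * a⁻¹ * b⁻¹))) ∨
    Nat.card L = 12 ∨ Nat.card L = 24 ∨ Nat.card L = 60 ∨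
    (∃ q' k : ℕ, 3 ≤ q' ∧ q' ∣ Fintype.card F ∧ Nat.card L = k * q' * (1 + q') ∧
      (k = q' - 1 ∨ 2 * k = q' - 1)) := by
  have hout := main_cases p (Lof L) (center_le_Lof L)
  have hz : 0 < Nat.card (Subgroup.center (S2 F)) := Nat.card_pos
  have hcard := card_Lof L
  unfold Outcome at hout
  rcases hout with h | ⟨x, hx, hss, hall⟩ | ⟨x, hx, hss, hcard'⟩ | ⟨g, hg⟩ |
    ⟨hc, -⟩ | ⟨hc, -⟩ | ⟨hc, -⟩ |
    ⟨x₀, hx₀, hsc, h4, q', k, hq3, hcA, hcN, hc, hk⟩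
  · left
    obtain ⟨-, h1⟩ := out_triv L h
    have hbot := Subgroup.eq_bot_of_card_eq L h1
    intro a ha b hb
    rw [hbot, Subgroup.mem_bot] at ha hb
    rw [ha, hb]
  · left
    intro a ha b hb
    have c : Commute a b := dkm_comm L x hss hall a b ha hb
    exact ((c.mul_left c).mul_right (c.mul_left c)).eq
  · left
    exact fun a ha b hb => dkm_sq_comm L x hss hcard' a b ha hb
  · right; left
    exact ⟨fun a ha b hb => dkm_bor_pow p L g hg a b ha hb,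
      fun a ha b hb c hc d hd => dkm_bor_cc L g hg a b c d ha hb hc hd⟩
  · right; right; left
    rw [hcard] at hc
    exact Nat.eq_of_mul_eq_mul_left hz (by rw [hc]; ring)
  · right; right; right; left
    rw [hcard] at hc
    exact Nat.eq_of_mul_eq_mul_left hz (by rw [hc]; ring)
  · right; right; right; right; left
    rw [hcard] at hc
    exact Nat.eq_of_mul_eq_mul_left hz (by rw [hc]; ring)
  · right; right; right; right; right
    refine ⟨q', k, hq3, dkm_unip_dvd (Lof L) (center_le_Lof L) x₀ hx₀ hsc h4 q' hcA, ?_, hk⟩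
    rw [hcard] at hc
    exact Nat.eq_of_mul_eq_mul_left hz (by rw [hc]; ring)

/-- The last case of `dkm_cases` with `q' = q` is the whole group. -/
theorem dkm_top [Fintype F] (p : ℕ) [Fact p.Prime] [CharP F p] (L : Subgroup (P2 F)) (k : ℕ)
    (hc : Nat.card L = k * Fintype.card F * (1 + Fintype.card F))
    (hk : k = Fintype.card F - 1 ∨ 2 * k = Fintype.card F - 1) : L = ⊤ := by
  have hP := card_P2 (F := F)
  have hz := z_gcd (F := F) p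
  have hq2 : 2 ≤ Fintype.card F := Fintype.one_lt_card
  have hle : Nat.card L ≤ Nat.card (P2 F) := Subgroup.card_le_card_group L
  have hGpos : 0 < Nat.card (P2 F) := Nat.card_pos
  apply Subgroup.eq_top_of_card_eq
  obtain ⟨m, hm⟩ : ∃ m, Fintype.card F = m + 2 := ⟨Fintype.card F - 2, by omega⟩
  rw [hm] at hc hk hP hz
  have e1 : m + 2 - 1 = m + 1 := by omega
  have e4 : (m + 2) ^ 2 - 1 = (m + 1) * (m + 3) := by
    have : (m + 2) ^ 2 = (m + 1) * (m + 3) + 1 := by ring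
    omega
  rw [e1] at hk hz hP
  rw [e4] at hP
  rw [← hz] at hP
  by_cases h2 : (2 : F) = 0
  · rw [center_card_one h2] at hP
    have hev := q_even p h2
    rw [hm] at hev
    rcases hk with hk | hk
    · rw [hc, hk]; rw [one_mul] at hP; rw [hP]; ring
    · exfalso
      obtain ⟨r, hr⟩ := hev
      omega
  · rw [center_card_two h2] at hP
    rcases hk with hk | hk
    · exfalso
      have h3 : Nat.card L = 2 * Nat.card (P2 F) := by rw [hc, hk, hP]; ring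
      omega
    · have h3 : 2 * Nat.card L = 2 * Nat.card (P2 F) := by
        rw [hc, hP]
        calc 2 * (k * (m + 2) * (1 + (m + 2))) = (2 * k) * (m + 2) * (1 + (m + 2)) := by ring
          _ = (m + 2) * ((m + 1) * (m + 3)) := by rw [hk]; ring
      omega

end DkMax

section Transfer

variable {G X : Type*} [Group G] [Group X]

theorem dkm_tr_sq (H : Subgroup G) (e : H ≃* X)
    (h : ∀ a ∈ H, ∀ b ∈ H, (a * a) * (b * b) = (b * b) * (a * a)) (x y : X) :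
    (x * x) * (y * y) = (y * y) * (x * x) := by
  have h1 := h (e.symm x) (e.symm x).2 (e.symm y) (e.symm y).2
  have h2 : (e.symm x * e.symm x) * (e.symm y * e.symm y)
      = (e.symm y * e.symm y) * (e.symm x * e.symm x) := Subtype.ext h1
  simpa using congrArg e h2

theorem dkm_tr_pow (H : Subgroup G) (e : H ≃* X) (n : ℕ)
    (h : ∀ a ∈ H, ∀ b ∈ H, (a * b * a⁻¹ * b⁻¹) ^ n = 1) (x y : X) :
    (x * y * x⁻¹ * y⁻¹) ^ n = 1 := by
  have h1 := h (e.symm x) (e.symm x).2 (e.symm y) (e.symm y).2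
  have h2 : (e.symm x * e.symm y * (e.symm x)⁻¹ * (e.symm y)⁻¹) ^ n = 1 := Subtype.ext h1
  simpa using congrArg e h2

theorem dkm_tr_cc (H : Subgroup G) (e : H ≃* X)
    (h : ∀ a ∈ H, ∀ b ∈ H, ∀ c ∈ H, ∀ d ∈ H, (a * b * a⁻¹ * b⁻¹) * (c * d * c⁻¹ * d⁻¹)
        = (c * d * c⁻¹ * d⁻¹) * (a * b * a⁻¹ * b⁻¹)) (x y z w : X) :
    (x * y * x⁻¹ * y⁻¹) * (z * w * z⁻¹ * w⁻¹) = (z * w * z⁻¹ * w⁻¹) * (x * y * x⁻¹ * y⁻¹) := by
  have h1 := h (e.symm x) (e.symm x).2 (e.symm y) (e.symm y).2 (e.symm z) (e.symm z).2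
    (e.symm w) (e.symm w).2
  have h2 : (e.symm x * e.symm y * (e.symm x)⁻¹ * (e.symm y)⁻¹)
      * (e.symm z * e.symm w * (e.symm z)⁻¹ * (e.symm w)⁻¹)
      = (e.symm z * e.symm w * (e.symm z)⁻¹ * (e.symm w)⁻¹)
      * (e.symm x * e.symm y * (e.symm x)⁻¹ * (e.symm y)⁻¹) := Subtype.ext h1
  simpa using congrArg e h2

theorem dkm_comm_of_pow [Finite X] (p : ℕ) (hcop : Nat.Coprime p (Nat.card X))
    (h : ∀ x y : X, (x * y * x⁻¹ * y⁻¹) ^ p = 1) (x y : X) : x * y = y * x := by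
  have h1 : orderOf (x * y * x⁻¹ * y⁻¹) ∣ p := orderOf_dvd_of_pow_eq_one (h x y)
  have h2 : orderOf (x * y * x⁻¹ * y⁻¹) ∣ Nat.card X := orderOf_dvd_natCard _
  have h3 : orderOf (x * y * x⁻¹ * y⁻¹) ∣ 1 := by
    have := Nat.dvd_gcd h1 h2
    rwa [hcop] at this
  have h4 : x * y * x⁻¹ * y⁻¹ = 1 := orderOf_eq_one_iff.1 (Nat.dvd_one.1 h3)
  have h5 : x * y * x⁻¹ = y := mul_inv_eq_one.1 h4
  exact mul_inv_eq_iff_eq_mul.1 h5

end Transfer

end Cfsg.Agent.Lib.Helper54
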