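import Mathlib
import Cfsg.Agent.Lib.Helper40.SL2Gen
import Cfsg.Agent.Lib.Helper57.SL23

/-!
# `p'`-subgroups of `SL₂(F)` normalized by a `p`-element (helper54)

`F` a field of odd characteristic `p`, `a ∈ SL₂(F)` a `p`-element normalizing a finite subgroup
`R` of order prime to `p` which it does not centralize.  Then `p = 3`, `R ≅ Q₈`,
`R⟨a⟩ ≅ SL₂(3)`.  Elementary trace argument:
every element of the coset `R a^j` (`a^j ≠ 1`) has trace `± 2`.
-/

set_option autoImplicit false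

namespace Cfsg.Agent.Lib.Helper54

open Matrix Cfsg.Agent.Lib.Helper40

section sl2tr

variable {F : Type*} [Field F]

/-- the trace of an element of `SL₂(F)` -/
def tr2 (g : SpecialLinearGroup (Fin 2) F) : F := g 0 0 + g 1 1

/-- `-1 ∈ SL₂(F)` -/
def negOne (F : Type*) [Field F] : SpecialLinearGroup (Fin 2) F :=
  ⟨!![-1, 0; 0, -1], by simp [det_fin_two_of]⟩

@[simp] theorem negOne_00 : negOne F 0 0 = -1 := rfl
@[simp] theorem negOne_01 : negOne F 0 1 = 0 := rfl
@[simp] theorem negOne_10 : negOne F 1 0 = 0 := rfl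
@[simp] theorem negOne_11 : negOne F 1 1 = -1 := rfl

theorem one_00 : (1 : SpecialLinearGroup (Fin 2) F) 0 0 = 1 := by simp
theorem one_01 : (1 : SpecialLinearGroup (Fin 2) F) 0 1 = 0 := by simp
theorem one_10 : (1 : SpecialLinearGroup (Fin 2) F) 1 0 = 0 := by simp
theorem one_11 : (1 : SpecialLinearGroup (Fin 2) F) 1 1 = 1 := by simp

theorem negOne_mul_self : negOne F * negOne F = 1 := by
  apply sl2_ext' <;> simp [sl2_mul_00, sl2_mul_01, sl2_mul_10, sl2_mul_11]

theorem negOne_comm (g : SpecialLinearGroup (Fin 2) F) : negOne F * g = g * negOne F := by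
  apply sl2_ext' <;> simp [sl2_mul_00, sl2_mul_01, sl2_mul_10, sl2_mul_11]

theorem negOne_ne_one (h2 : (2 : F) ≠ 0) : negOne F ≠ 1 := by
  intro h
  have h1 : negOne F 0 0 = (1 : SpecialLinearGroup (Fin 2) F) 0 0 := by rw [h]
  rw [negOne_00, one_00] at h1
  apply h2
  linear_combination (-1 : F) * h1

theorem negOne_inv : (negOne F)⁻¹ = negOne F :=
  inv_eq_of_mul_eq_one_left negOne_mul_self

theorem tr2_one : tr2 (1 : SpecialLinearGroup (Fin 2) F) = 2 := by
  rw [tr2, one_00, one_11]; norm_num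

theorem tr2_negOne : tr2 (negOne F) = -2 := by
  rw [tr2, negOne_00, negOne_11]; norm_num

theorem tr2_negOne_mul (g : SpecialLinearGroup (Fin 2) F) : tr2 (negOne F * g) = - tr2 g := by
  simp only [tr2, sl2_mul_00, sl2_mul_11, negOne_00, negOne_01, negOne_10, negOne_11]; ring

theorem tr2_mul_comm (g h : SpecialLinearGroup (Fin 2) F) : tr2 (g * h) = tr2 (h * g) := by
  simp only [tr2, sl2_mul_00, sl2_mul_11]; ring

theorem tr2_conj (a x : SpecialLinearGroup (Fin 2) F) : tr2 (a * x * a⁻¹) = tr2 x := by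
  rw [tr2_mul_comm, ← mul_assoc, inv_mul_cancel, one_mul]

/-- trace zero means square `-1` -/
theorem mul_self_of_tr2_zero (g : SpecialLinearGroup (Fin 2) F) (h : tr2 g = 0) :
    g * g = negOne F := by
  have hd := sl2_det' g
  unfold tr2 at h
  apply sl2_ext' <;> simp only [sl2_mul_00, sl2_mul_01, sl2_mul_10, sl2_mul_11, negOne_00,
    negOne_01, negOne_10, negOne_11]
  · linear_combination g 0 0 * h - hd
  · linear_combination g 0 1 * h
  · linear_combination g 1 0 * h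
  · linear_combination g 1 1 * h - hd

/-- elements of trace zero whose product has trace zero anticommute -/
theorem anticomm_of_tr2 (g h : SpecialLinearGroup (Fin 2) F) (hg : tr2 g = 0) (hh : tr2 h = 0)
    (hgh : tr2 (g * h) = 0) : g * h = negOne F * (h * g) := by
  unfold tr2 at hg hh hgh
  rw [sl2_mul_00, sl2_mul_11] at hgh
  apply sl2_ext' <;> simp only [sl2_mul_00, sl2_mul_01, sl2_mul_10, sl2_mul_11, negOne_00,
    negOne_01, negOne_10, negOne_11]
  · linear_combination hgh - h 1 1 * hg + g 0 0 * hh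
  · linear_combination g 0 1 * hh + h 0 1 * hg
  · linear_combination g 1 0 * hh + h 1 0 * hg
  · linear_combination hgh + h 1 1 * hg - g 0 0 * hh

/-- unipotent elements: `(g^k) = 1 + k (g - 1)` entrywise -/
theorem unip_pow (g : SpecialLinearGroup (Fin 2) F) (hg : tr2 g = 2) (k : ℕ) :
    (g ^ k) 0 0 = 1 + k * (g 0 0 - 1) ∧ (g ^ k) 0 1 = k * g 0 1 ∧ (g ^ k) 1 0 = k * g 1 0 ∧
      (g ^ k) 1 1 = 1 + k * (g 1 1 - 1) := by
  have hd := sl2_det' g
  unfold tr2 at hg
  induction k with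
  | zero => simp
  | succ k ih =>
    obtain ⟨h00, h01, h10, h11⟩ := ih
    rw [pow_succ]
    simp only [sl2_mul_00, sl2_mul_01, sl2_mul_10, sl2_mul_11, h00, h01, h10, h11]
    push_cast
    refine ⟨?_, ?_, ?_, ?_⟩
    · linear_combination (-(k : F)) * hd + (k : F) * g 0 0 * hg
    · linear_combination (k : F) * g 0 1 * hg
    · linear_combination (k : F) * g 1 0 * hg
    · linear_combination (-(k : F)) * hd + (k : F) * g 1 1 * hg

theorem tr2_mul_unip_pow (y g : SpecialLinearGroup (Fin 2) F) (hg : tr2 g = 2) (k : ℕ) :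
    tr2 (y * g ^ k) = tr2 y + k * (tr2 (y * g) - tr2 y) := by
  obtain ⟨h00, h01, h10, h11⟩ := unip_pow g hg k
  simp only [tr2, sl2_mul_00, sl2_mul_11, h00, h01, h10, h11]
  ring

theorem unip_pow_char (p : ℕ) [CharP F p] (g : SpecialLinearGroup (Fin 2) F) (hg : tr2 g = 2) :
    g ^ p = 1 := by
  obtain ⟨h00, h01, h10, h11⟩ := unip_pow g hg p
  have hp : ((p : ℕ) : F) = 0 := CharP.cast_eq_zero F p
  apply sl2_ext'
  · rw [h00, hp, one_00]; ring
  · rw [h01, hp, one_01]; ring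
  · rw [h10, hp, one_10]; ring
  · rw [h11, hp, one_11]; ring

/-- a `p`-element of `SL₂(F)` has trace `2` -/
theorem tr2_eq_two_of_pow (p : ℕ) [Fact p.Prime] [CharP F p] (g : SpecialLinearGroup (Fin 2) F)
    (k : ℕ) (hg : g ^ p ^ k = 1) : tr2 g = 2 := by
  have hg' : (g : Matrix (Fin 2) (Fin 2) F) ^ p ^ k = 1 := by
    have := congrArg (fun x : SpecialLinearGroup (Fin 2) F => (x : Matrix (Fin 2) (Fin 2) F)) hg
    simpa using this
  have h1 : ((g : Matrix (Fin 2) (Fin 2) F) - 1) ^ p ^ k = 0 := by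
    rw [sub_pow_char_pow_of_commute p k (Commute.one_right _), one_pow, hg', sub_self]
  have h2 : ((g : Matrix (Fin 2) (Fin 2) F) - 1).det = 0 := by
    have : ((g : Matrix (Fin 2) (Fin 2) F) - 1).det ^ p ^ k = 0 := by
      rw [← det_pow, h1, Matrix.det_zero]
    exact pow_eq_zero_iff (pow_ne_zero _ (Fact.out : p.Prime).ne_zero) |>.mp this
  have hd := sl2_det' g
  rw [det_fin_two] at h2
  simp only [Matrix.sub_apply, Matrix.one_apply_eq, Matrix.one_apply_ne, ne_eq, zero_ne_one,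
    one_ne_zero, not_false_eq_true, sub_zero] at h2
  unfold tr2
  linear_combination hd - h2

/-- an element commuting with a nontrivial unipotent element has trace `± 2` -/
theorem tr2_of_comm_unip (g u : SpecialLinearGroup (Fin 2) F) (hu : tr2 u = 2) (hu1 : u ≠ 1)
    (hc : g * u = u * g) : tr2 g = 2 ∨ tr2 g = -2 := by
  have hdu := sl2_det' u
  have hdg := sl2_det' g
  unfold tr2 at hu
  have e00 := sl2_mul_00 g u
  have e01 := sl2_mul_01 g u
  have e10 := sl2_mul_10 g u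
  have e11 := sl2_mul_11 g u
  rw [hc, sl2_mul_00] at e00
  rw [hc, sl2_mul_01] at e01
  rw [hc, sl2_mul_10] at e10
  rw [hc, sl2_mul_11] at e11
  have key : (g 0 0 - g 1 1) ^ 2 + 4 * (g 0 1 * g 1 0) = 0 := by
    by_cases hb : u 0 1 = 0
    · by_cases hcc : u 1 0 = 0
      · exfalso
        apply hu1
        have h1 : (u 0 0 - 1) ^ 2 = 0 := by
          linear_combination (-1 : F) * hdu + u 0 0 * hu - u 0 1 * hcc
        have h2 : u 0 0 = 1 := by
          have := pow_eq_zero_iff (two_ne_zero) |>.mp h1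
          linear_combination this
        apply sl2_ext'
        · rw [h2, one_00]
        · rw [hb, one_01]
        · rw [hcc, one_10]
        · rw [one_11]; linear_combination hu - h2
      · have : u 1 0 ^ 2 * ((g 0 0 - g 1 1) ^ 2 + 4 * (g 0 1 * g 1 0)) = 0 := by
          linear_combination (u 1 0 * (g 0 0 - g 1 1) + g 1 0 * (u 0 0 - u 1 1)) * e10
            + 4 * g 1 0 * u 1 0 * e11 + g 1 0 ^ 2 * (u 0 0 + u 1 1 + 2) * hu
            - 4 * g 1 0 ^ 2 * hdu
        exact (mul_eq_zero.mp this).resolve_left (pow_ne_zero _ hcc)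
    · have : u 0 1 ^ 2 * ((g 0 0 - g 1 1) ^ 2 + 4 * (g 0 1 * g 1 0)) = 0 := by
        linear_combination (-(u 0 1 * (g 0 0 - g 1 1) + g 0 1 * (u 0 0 - u 1 1))) * e01
          + 4 * g 0 1 * u 0 1 * e00 + g 0 1 ^ 2 * (u 0 0 + u 1 1 + 2) * hu
          - 4 * g 0 1 ^ 2 * hdu
      exact (mul_eq_zero.mp this).resolve_left (pow_ne_zero _ hb)
  have h4 : (tr2 g - 2) * (tr2 g + 2) = 0 := by
    unfold tr2
    linear_combination key + 4 * hdg
  rcases mul_eq_zero.mp h4 with h | h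
  · left; linear_combination h
  · right; linear_combination h

end sl2tr

section sl2grp

variable {F : Type*} [Field F]

/-- powers of an element of a coset `R a^j`, `a` normalizing `R` -/
theorem coset_pow {G : Type*} [Group G] (R : Subgroup G) (a y : G)
    (ha : a ∈ Subgroup.normalizer (R : Set G)) (hy : y ∈ R) (j k : ℕ) :
    ∃ r ∈ R, (y * a ^ j) ^ k = r * a ^ (j * k) := by
  induction k with
  | zero => exact ⟨1, R.one_mem, by simp⟩
  | succ k ih =>
    obtain ⟨r, hr, hk⟩ := ih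
    refine ⟨r * (a ^ (j * k) * y * (a ^ (j * k))⁻¹), R.mul_mem hr ?_, ?_⟩
    · exact (Subgroup.mem_normalizer_iff.mp (Subgroup.pow_mem _ ha _) y).mp hy
    · rw [pow_succ, hk, mul_add, mul_one, pow_add]; group

theorem two_ne_zero_of_char (p : ℕ) [Fact p.Prime] [CharP F p] (hp2 : p ≠ 2) : (2 : F) ≠ 0 := by
  intro h
  have h1 : ((2 : ℕ) : F) = 0 := by exact_mod_cast h
  rw [CharP.cast_eq_zero_iff F p] at h1
  exact hp2 ((Nat.prime_dvd_prime_iff_eq (Fact.out : p.Prime) Nat.prime_two).mp h1)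

theorem eq_one_of_tr2_two (p : ℕ) [Fact p.Prime] [CharP F p] (g : SpecialLinearGroup (Fin 2) F)
    (m : ℕ) (hm : m.Coprime p) (hgm : g ^ m = 1) (h : tr2 g = 2) : g = 1 := by
  have h1 := unip_pow_char p g h
  have h5 : orderOf g ∣ m := orderOf_dvd_of_pow_eq_one hgm
  have h6 : orderOf g ∣ p := orderOf_dvd_of_pow_eq_one h1
  have h7 := Nat.dvd_gcd h5 h6
  rw [Nat.Coprime] at hm
  rw [hm, Nat.dvd_one, orderOf_eq_one_iff] at h7
  exact h7

theorem eq_negOne_of_tr2 (p : ℕ) [Fact p.Prime] [CharP F p] (hp2 : p ≠ 2)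
    (g : SpecialLinearGroup (Fin 2) F)
    (m : ℕ) (hm : m.Coprime p) (hgm : g ^ m = 1) (h : tr2 g = -2) : g = negOne F := by
  have h1 : negOne F * g = 1 := by
    apply eq_one_of_tr2_two p (negOne F * g) (2 * m) ?_ ?_ ?_
    · exact Nat.Coprime.mul_left
        ((Nat.coprime_primes Nat.prime_two (Fact.out : p.Prime)).mpr (Ne.symm hp2)) hm
    · have hc : Commute (negOne F) g := negOne_comm g
      rw [hc.mul_pow, pow_mul, pow_two, negOne_mul_self, one_pow, one_mul, mul_comm, pow_mul, hgm,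
        one_pow]
    · rw [tr2_negOne_mul, h]; ring
  have := eq_inv_of_mul_eq_one_right h1
  rw [this, negOne_inv]

/-- every element of a coset `R a^j`, `a^j ≠ 1`, has trace `± 2` -/
theorem tr2_coset (p : ℕ) [Fact p.Prime] [CharP F p]
    (R : Subgroup (SpecialLinearGroup (Fin 2) F)) (hR : (Nat.card R).Coprime p)
    (a : SpecialLinearGroup (Fin 2) F) (ha2 : tr2 a = 2)
    (haN : a ∈ Subgroup.normalizer (R : Set (SpecialLinearGroup (Fin 2) F)))
    (y : SpecialLinearGroup (Fin 2) F) (hy : y ∈ R) (j : ℕ) (hj : a ^ j ≠ 1) :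
    tr2 (y * a ^ j) = 2 ∨ tr2 (y * a ^ j) = -2 := by
  have hap : a ^ p = 1 := unip_pow_char p a ha2
  have hRm : ∀ r ∈ R, r ^ Nat.card R = 1 := by
    intro r hr
    have := pow_card_eq_one' (G := R) (x := ⟨r, hr⟩)
    exact congrArg Subtype.val this
  have hu : ((y * a ^ j) ^ Nat.card R) ^ p = 1 := by
    obtain ⟨r, hr, h1⟩ := coset_pow R a y haN hy j p
    rw [← pow_mul, mul_comm, pow_mul, h1, mul_comm j p, pow_mul, hap, one_pow, mul_one]
    exact hRm r hr
  have hu2 : tr2 ((y * a ^ j) ^ Nat.card R) = 2 :=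
    tr2_eq_two_of_pow p _ 1 (by rwa [pow_one])
  have hu1 : (y * a ^ j) ^ Nat.card R ≠ 1 := by
    intro h
    obtain ⟨r, hr, h1⟩ := coset_pow R a y haN hy j (Nat.card R)
    rw [h] at h1
    have h2 : a ^ (j * Nat.card R) ∈ R := by
      rw [eq_inv_of_mul_eq_one_right h1.symm]
      exact R.inv_mem hr
    have h3 : (a ^ j) ^ (Nat.card R * Nat.card R) = 1 := by
      rw [pow_mul, ← pow_mul a j]; exact hRm _ h2
    have h4 : (a ^ j) ^ p = 1 := by rw [← pow_mul, mul_comm, pow_mul, hap, one_pow]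
    have h5 : orderOf (a ^ j) ∣ Nat.card R * Nat.card R := orderOf_dvd_of_pow_eq_one h3
    have h6 : orderOf (a ^ j) ∣ p := orderOf_dvd_of_pow_eq_one h4
    have h7 := Nat.dvd_gcd h5 h6
    have h8 : Nat.gcd (Nat.card R * Nat.card R) p = 1 := Nat.Coprime.mul_left hR hR
    rw [h8, Nat.dvd_one, orderOf_eq_one_iff] at h7
    exact hj h7
  exact tr2_of_comm_unip _ _ hu2 hu1 ((Commute.refl (y * a ^ j)).pow_right _).eq

theorem mul_negOne_mul (g h : SpecialLinearGroup (Fin 2) F) :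
    g * (negOne F * h) = negOne F * (g * h) := by
  rw [← mul_assoc, ← negOne_comm, mul_assoc]

theorem negOne_mul_negOne_mul (g : SpecialLinearGroup (Fin 2) F) :
    negOne F * (negOne F * g) = g := by
  rw [← mul_assoc, negOne_mul_self, one_mul]

theorem inv_eq_of_mul_self (x : SpecialLinearGroup (Fin 2) F) (h : x * x = negOne F) :
    x⁻¹ = negOne F * x := by
  apply inv_eq_of_mul_eq_one_left
  rw [mul_assoc, h, negOne_mul_self]

theorem negOne_mul_ne (h2 : (2 : F) ≠ 0) (g : SpecialLinearGroup (Fin 2) F) :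
    negOne F * g ≠ g := by
  intro h
  exact negOne_ne_one h2 (mul_right_cancel (h.trans (one_mul g).symm))

/-- the situation after the trace analysis: every element of `R` other than `± 1` has trace `0`,
`a` has order 3, normalizes `R` and centralizes only `± 1`. -/
structure QSit (R : Subgroup (SpecialLinearGroup (Fin 2) F))
    (a : SpecialLinearGroup (Fin 2) F) : Prop where
  h2 : (2 : F) ≠ 0
  hT : ∀ y ∈ R, y = 1 ∨ y = negOne F ∨ tr2 y = 0
  hC : ∀ w ∈ R, w * a = a * w → w = 1 ∨ w = negOne F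
  ha3 : a ^ 3 = 1
  haN : a ∈ Subgroup.normalizer (R : Set (SpecialLinearGroup (Fin 2) F))

namespace QSit

variable {R : Subgroup (SpecialLinearGroup (Fin 2) F)} {a : SpecialLinearGroup (Fin 2) F}
  (h : QSit R a)
include h

theorem conj_mem {x : SpecialLinearGroup (Fin 2) F} (hx : x ∈ R) : a * x * a⁻¹ ∈ R :=
  (Subgroup.mem_normalizer_iff.mp h.haN x).mp hx

theorem tr_zero {x : SpecialLinearGroup (Fin 2) F} (hx : x ∈ R) (hx1 : x ≠ 1)
    (hxn : x ≠ negOne F) : tr2 x = 0 := by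
  rcases h.hT x hx with h1 | h1 | h1
  · exact absurd h1 hx1
  · exact absurd h1 hxn
  · exact h1

theorem sq {x : SpecialLinearGroup (Fin 2) F} (hx : x ∈ R) (hx1 : x ≠ 1)
    (hxn : x ≠ negOne F) : x * x = negOne F :=
  mul_self_of_tr2_zero x (h.tr_zero hx hx1 hxn)

theorem anti {u v : SpecialLinearGroup (Fin 2) F} (hu : u ∈ R) (hv : v ∈ R) (hu1 : u ≠ 1)
    (hun : u ≠ negOne F) (hv1 : v ≠ 1) (hvn : v ≠ negOne F) (hvu : v ≠ u)
    (hvu' : v ≠ negOne F * u) : u * v = negOne F * (v * u) := by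
  have hinv := inv_eq_of_mul_self u (h.sq hu hu1 hun)
  refine anticomm_of_tr2 u v (h.tr_zero hu hu1 hun) (h.tr_zero hv hv1 hvn)
    (h.tr_zero (R.mul_mem hu hv) ?_ ?_)
  · intro h1
    apply hvu'
    rw [← hinv]
    exact eq_inv_of_mul_eq_one_right h1
  · intro h1
    apply hvu
    have := eq_inv_mul_of_mul_eq h1
    rw [this, hinv, ← negOne_comm, negOne_mul_negOne_mul]

theorem inv_eq_sq : a⁻¹ = a * a := by
  apply inv_eq_of_mul_eq_one_left
  rw [← h.ha3, pow_succ, pow_two]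

theorem conj_ne {x : SpecialLinearGroup (Fin 2) F} (hx : x ∈ R) (hx1 : x ≠ 1)
    (hxn : x ≠ negOne F) :
    a * x * a⁻¹ ≠ 1 ∧ a * x * a⁻¹ ≠ negOne F ∧ a * x * a⁻¹ ≠ x ∧ a * x * a⁻¹ ≠ negOne F * x := by
  have hcomm : ¬ (x * a = a * x) := by
    intro hc
    rcases h.hC x hx hc with h1 | h1
    · exact hx1 h1
    · exact hxn h1
  refine ⟨?_, ?_, ?_, ?_⟩
  · intro h1
    exact hx1 (conj_eq_one_iff.mp h1)
  · intro h1
    apply hxn
    rw [mul_inv_eq_iff_eq_mul, negOne_comm] at h1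
    exact mul_left_cancel h1
  · intro h1
    apply hcomm
    rw [mul_inv_eq_iff_eq_mul] at h1
    exact h1.symm
  · intro h1
    apply hcomm
    -- a x = ν x a
    have e1 : a * x = negOne F * (x * a) := by
      rw [mul_inv_eq_iff_eq_mul] at h1
      rw [h1, mul_assoc]
    have e2 : a * (a * x) = x * (a * a) := by
      rw [e1, mul_negOne_mul, ← mul_assoc a x a, e1, mul_assoc, mul_negOne_mul,
        negOne_mul_negOne_mul, mul_assoc]
    -- a⁻¹ x = x a⁻¹
    have e3 : a⁻¹ * x = x * a⁻¹ := by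
      rw [h.inv_eq_sq, mul_assoc, e2]
    calc x * a = a * (a⁻¹ * x) * a := by group
      _ = a * (x * a⁻¹) * a := by rw [e3]
      _ = a * x := by group

theorem mem_Q_aux {x y : SpecialLinearGroup (Fin 2) F} (hx : x ∈ R) (hx1 : x ≠ 1)
    (hxn : x ≠ negOne F) (hy : y ∈ R) (hy1 : y ≠ 1) (hyn : y ≠ negOne F) (hyx : y ≠ x)
    (hyx' : y ≠ negOne F * x) {w : SpecialLinearGroup (Fin 2) F} (hw : w ∈ R) :
    w = 1 ∨ w = negOne F ∨ w = x ∨ w = negOne F * x ∨ w = y ∨
      w = negOne F * y ∨ w = x * y ∨ w = negOne F * (x * y) := by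
  by_contra hcon
  push Not at hcon
  obtain ⟨c1, c2, c3, c4, c5, c6, c7, c8⟩ := hcon
  have hxy : x * y = negOne F * (y * x) := h.anti hx hy hx1 hxn hy1 hyn hyx hyx'
  have hxy1 : x * y ≠ 1 := by
    intro h1
    apply hyx'
    rw [← inv_eq_of_mul_self x (h.sq hx hx1 hxn)]
    exact eq_inv_of_mul_eq_one_right h1
  have hxyn : x * y ≠ negOne F := by
    intro h1
    apply hyx
    have := eq_inv_mul_of_mul_eq h1
    rw [this, inv_eq_of_mul_self x (h.sq hx hx1 hxn), ← negOne_comm, negOne_mul_negOne_mul]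
  have neg_ne : ∀ {u v : SpecialLinearGroup (Fin 2) F}, v ≠ negOne F * u → u ≠ negOne F * v := by
    intro u v huv hvu
    apply huv
    rw [hvu, negOne_mul_negOne_mul]
  have a1 := h.anti hw hx c1 c2 hx1 hxn (Ne.symm c3) (neg_ne c4)
  have a2 := h.anti hw hy c1 c2 hy1 hyn (Ne.symm c5) (neg_ne c6)
  have a3 := h.anti hw (R.mul_mem hx hy) c1 c2 hxy1 hxyn (Ne.symm c7) (neg_ne c8)
  have a4 : w * (x * y) = x * y * w := by
    calc w * (x * y) = w * x * y := (mul_assoc _ _ _).symm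
      _ = negOne F * (x * w) * y := by rw [a1]
      _ = negOne F * (x * (w * y)) := by rw [mul_assoc, mul_assoc]
      _ = negOne F * (x * (negOne F * (y * w))) := by rw [a2]
      _ = x * (y * w) := by rw [mul_negOne_mul, negOne_mul_negOne_mul]
      _ = x * y * w := (mul_assoc _ _ _).symm
  rw [a4] at a3
  exact negOne_mul_ne h.h2 _ a3.symm

theorem mem_Q {x : SpecialLinearGroup (Fin 2) F} (hx : x ∈ R) (hx1 : x ≠ 1)
    (hxn : x ≠ negOne F) {w : SpecialLinearGroup (Fin 2) F} (hw : w ∈ R) :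
    w = 1 ∨ w = negOne F ∨ w = x ∨ w = negOne F * x ∨ w = a * x * a⁻¹ ∨
      w = negOne F * (a * x * a⁻¹) ∨ w = x * (a * x * a⁻¹) ∨
      w = negOne F * (x * (a * x * a⁻¹)) := by
  obtain ⟨hy1, hyn, hyx, hyx'⟩ := h.conj_ne hx hx1 hxn
  exact h.mem_Q_aux hx hx1 hxn (h.conj_mem hx) hy1 hyn hyx hyx' hw

theorem conj_conj {x : SpecialLinearGroup (Fin 2) F} (hx : x ∈ R) (hx1 : x ≠ 1)
    (hxn : x ≠ negOne F) :
    a * (a * x * a⁻¹) * a⁻¹ = x * (a * x * a⁻¹) ∨
      a * (a * x * a⁻¹) * a⁻¹ = negOne F * (x * (a * x * a⁻¹)) := by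
  obtain ⟨hy1, hyn, hyx, hyx'⟩ := h.conj_ne hx hx1 hxn
  have hy := h.conj_mem hx
  obtain ⟨hz1, hzn, hzy, hzy'⟩ := h.conj_ne hy hy1 hyn
  have hz := h.conj_mem hy
  have key : a * (a * x * a⁻¹) * a⁻¹ = a⁻¹ * x * a := by
    have e : a⁻¹ * a⁻¹ = a := by
      rw [← _root_.mul_inv_rev, ← h.inv_eq_sq, inv_inv]
    calc a * (a * x * a⁻¹) * a⁻¹ = (a * a) * x * (a⁻¹ * a⁻¹) := by group
      _ = a⁻¹ * x * a := by rw [← h.inv_eq_sq, e]
  rcases h.mem_Q hx hx1 hxn hz with c | c | c | c | c | c | c | c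
  · exact absurd c hz1
  · exact absurd c hzn
  · exfalso
    -- a⁻¹ x a = x
    rw [key] at c
    apply hyx
    calc a * x * a⁻¹ = a * (a⁻¹ * x * a) * a⁻¹ := by rw [c]
      _ = x := by group
  · exfalso
    rw [key] at c
    apply hyx'
    calc a * x * a⁻¹ = negOne F * (negOne F * (a * x * a⁻¹)) := (negOne_mul_negOne_mul _).symm
      _ = negOne F * (a * (negOne F * x) * a⁻¹) := by
        rw [mul_negOne_mul a x, mul_assoc (negOne F) (a * x) a⁻¹]
      _ = negOne F * (a * (a⁻¹ * x * a) * a⁻¹) := by rw [c]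
      _ = negOne F * x := by group
  · exact absurd c hzy
  · exact absurd c hzy'
  · exact Or.inl c
  · exact Or.inr c

theorem exists_good (hex : ∃ x ∈ R, x ≠ 1 ∧ x ≠ negOne F) :
    ∃ x ∈ R, x ≠ 1 ∧ x ≠ negOne F ∧ a * (a * x * a⁻¹) * a⁻¹ = x * (a * x * a⁻¹) := by
  obtain ⟨x, hx, hx1, hxn⟩ := hex
  rcases h.conj_conj hx hx1 hxn with c | c
  · exact ⟨x, hx, hx1, hxn, c⟩
  · have hneg : negOne F ∈ R := by
      rw [← h.sq hx hx1 hxn]; exact R.mul_mem hx hx
    refine ⟨negOne F * x, R.mul_mem hneg hx, ?_, ?_, ?_⟩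
    · intro h1
      apply hxn
      rw [← negOne_mul_negOne_mul x, h1, mul_one]
    · intro h1
      apply hx1
      rw [← negOne_mul_negOne_mul x, h1, negOne_mul_self]
    · have e1 : a * (negOne F * x) * a⁻¹ = negOne F * (a * x * a⁻¹) := by
        rw [mul_negOne_mul, mul_assoc, mul_assoc]
      rw [e1, mul_negOne_mul, mul_assoc (negOne F), c, negOne_mul_negOne_mul, mul_assoc (negOne F),
        mul_negOne_mul, negOne_mul_negOne_mul]

end QSit

end sl2grp

section sl2final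

open scoped Pointwise

variable {F : Type*} [Field F]

/-- **`p'`-subgroups of `SL₂(F)` normalized but not centralized by a `p`-element** (`p` odd):
`p = 3`, `R ≅ Q₈` and `R⟨a⟩ ≅ SL₂(3)`. -/
theorem sl2_normalized_p' (p : ℕ) [Fact p.Prime] [CharP F p] (hp : p ≠ 2)
    (a : SpecialLinearGroup (Fin 2) F) (ha : IsPGroup p ↥(Subgroup.zpowers a))
    (R : Subgroup (SpecialLinearGroup (Fin 2) F)) (hR : (Nat.card R).Coprime p)
    (haR : a ∈ Subgroup.normalizer (R : Set (SpecialLinearGroup (Fin 2) F)))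
    (hnt : ⁅R, Subgroup.zpowers a⁆ ≠ ⊥) :
    p = 3 ∧ Nonempty (↥R ≃* QuaternionGroup 2) ∧
      Nonempty (↥(R ⊔ Subgroup.zpowers a) ≃* SpecialLinearGroup (Fin 2) (ZMod 3)) := by
  have h2 : (2 : F) ≠ 0 := two_ne_zero_of_char p hp
  have ha2 : tr2 a = 2 := by
    obtain ⟨k, hk⟩ := ha ⟨a, Subgroup.mem_zpowers a⟩
    exact tr2_eq_two_of_pow p a k (congrArg Subtype.val hk)
  have hap : a ^ p = 1 := unip_pow_char p a ha2
  have hex : ∃ x ∈ R, x * a ≠ a * x := by
    by_contra hcon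
    push Not at hcon
    apply hnt
    rw [Subgroup.commutator_eq_bot_iff_le_centralizer]
    intro x hx
    rw [Subgroup.mem_centralizer_iff]
    intro g hg
    obtain ⟨k, rfl⟩ := Subgroup.mem_zpowers_iff.mp hg
    have hc : Commute a x := (hcon x hx).symm
    exact (hc.zpow_left k).eq
  obtain ⟨x0, hx0, hx0a⟩ := hex
  have ha1 : a ≠ 1 := by
    rintro rfl
    exact hx0a (by rw [mul_one, one_mul])
  have hord : orderOf a = p := orderOf_eq_prime hap ha1
  have hRm : ∀ r ∈ R, r ^ Nat.card R = 1 := by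
    intro r hr
    have := pow_card_eq_one' (G := R) (x := ⟨r, hr⟩)
    exact congrArg Subtype.val this
  have hpm : ∀ y ∈ R, tr2 y = 2 ∨ tr2 y = -2 → y = 1 ∨ y = negOne F := by
    intro y hy h
    rcases h with h | h
    · exact Or.inl (eq_one_of_tr2_two p y _ hR (hRm y hy) h)
    · exact Or.inr (eq_negOne_of_tr2 p hp y _ hR (hRm y hy) h)
  have hC : ∀ w ∈ R, w * a = a * w → w = 1 ∨ w = negOne F := fun w hw hc =>
    hpm w hw (tr2_of_comm_unip w a ha2 ha1 hc)
  have hpow : ∀ j : ℕ, 0 < j → j < p → a ^ j ≠ 1 := by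
    intro j hj0 hjp h
    have := orderOf_dvd_of_pow_eq_one h
    rw [hord] at this
    exact absurd (Nat.le_of_dvd hj0 this) (not_le.mpr hjp)
  have hT : ∀ y ∈ R, ∀ j : ℕ, 0 < j → j < p →
      tr2 y + j * (tr2 (y * a) - tr2 y) = 2 ∨ tr2 y + j * (tr2 (y * a) - tr2 y) = -2 := by
    intro y hy j hj0 hjp
    have := tr2_coset p R hR a ha2 haR y hy j (hpow j hj0 hjp)
    rwa [tr2_mul_unip_pow y a ha2 j] at this
  have hp3 : p = 3 := by
    by_contra h3
    have hp5 : 3 < p := by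
      have := (Fact.out : p.Prime).two_le
      omega
    apply hx0a
    have T1 := hT x0 hx0 1 (by norm_num) (by omega)
    have T2 := hT x0 hx0 2 (by norm_num) (by omega)
    have T3 := hT x0 hx0 3 (by norm_num) (by omega)
    push_cast at T1 T2 T3
    have hs : tr2 (x0 * a) - tr2 x0 = 0 := by
      rcases T1 with T1 | T1 <;> rcases T2 with T2 | T2 <;> rcases T3 with T3 | T3 <;>
      first
      | linear_combination T2 - T1
      | linear_combination T3 - T2
      | exact mul_left_cancel₀ h2 (by linear_combination T3 - T1)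
    have T1' : tr2 x0 = 2 ∨ tr2 x0 = -2 := by
      rcases T1 with T1 | T1
      · left; linear_combination T1 - hs
      · right; linear_combination T1 - hs
    rcases hpm x0 hx0 T1' with h | h
    · rw [h, one_mul, mul_one]
    · rw [h, negOne_comm]
  subst hp3
  have h3 : (3 : F) = 0 := by
    have := CharP.cast_eq_zero F 3
    exact_mod_cast this
  have hT' : ∀ y ∈ R, y = 1 ∨ y = negOne F ∨ tr2 y = 0 := by
    intro y hy
    have T1 := hT y hy 1 (by norm_num) (by norm_num)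
    have T2 := hT y hy 2 (by norm_num) (by norm_num)
    push_cast at T1 T2
    rcases T1 with T1 | T1 <;> rcases T2 with T2 | T2
    · have : tr2 y = 2 := by linear_combination 2 * T1 - T2
      exact (hpm y hy (Or.inl this)).elim Or.inl (fun h => Or.inr (Or.inl h))
    · right; right; linear_combination 2 * T1 - T2 + 2 * h3
    · right; right; linear_combination 2 * T1 - T2 - 2 * h3
    · have : tr2 y = -2 := by linear_combination 2 * T1 - T2
      exact (hpm y hy (Or.inr this)).elim Or.inl (fun h => Or.inr (Or.inl h))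
  have hS : QSit R a := ⟨h2, hT', hC, hap, haR⟩
  have hx0' : x0 ≠ 1 ∧ x0 ≠ negOne F := by
    constructor
    · rintro rfl; exact hx0a (by rw [mul_one, one_mul])
    · rintro rfl; exact hx0a (negOne_comm a)
  obtain ⟨x, hx, hx1, hxn, hgood⟩ := hS.exists_good ⟨x0, hx0, hx0'.1, hx0'.2⟩
  obtain ⟨hy1, hyn, hyx, hyx'⟩ := hS.conj_ne hx hx1 hxn
  have hy := hS.conj_mem hx
  have hxx := hS.sq hx hx1 hxn
  have hyy := hS.sq hy hy1 hyn
  have hxy := hS.anti hx hy hx1 hxn hy1 hyn hyx hyx'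
  have hxinv := inv_eq_of_mul_self x hxx
  obtain ⟨y, hydef⟩ : ∃ y, y = a * x * a⁻¹ := ⟨_, rfl⟩
  rw [← hydef] at hy1 hyn hyx hyx' hy hyy hxy hgood
  have hx4 : orderOf x = 4 := by
    have : Fact (Nat.Prime 2) := ⟨Nat.prime_two⟩
    have h1 : ¬ x ^ 2 ^ 1 = 1 := by
      rw [pow_one, pow_two, hxx]; exact negOne_ne_one h2
    have h2' : x ^ 2 ^ (1 + 1) = 1 := by
      have : x ^ 2 ^ (1 + 1) = (x * x) * (x * x) := by
        rw [show (2 : ℕ) ^ (1 + 1) = 2 + 2 by norm_num, pow_add, pow_two]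
      rw [this, hxx, negOne_mul_self]
    exact orderOf_eq_prime_pow h1 h2'
  have hxyx : x * y = y * x⁻¹ := by
    rw [hxinv, mul_negOne_mul, hxy]
  -- `R ≅ Q₈`
  have hA : orderOf (⟨x, hx⟩ : R) = 2 * 2 := by
    rw [Subgroup.orderOf_mk, hx4]
  have hX : (⟨y, hy⟩ : R) * ⟨y, hy⟩ = (⟨x, hx⟩ : R) ^ 2 :=
    Subtype.ext (by
      show y * y = x ^ 2
      rw [pow_two, hyy, hxx])
  have hAX : (⟨x, hx⟩ : R) * ⟨y, hy⟩ = ⟨y, hy⟩ * (⟨x, hx⟩ : R)⁻¹ := Subtype.ext hxyx
  have hinj := Helper7.quatHom_injective (n := 2) le_rfl (⟨x, hx⟩ : R) ⟨y, hy⟩ hA hX hAX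
  have v0 : (0 : ZMod (2 * 2)).val = 0 := rfl
  have v1 : (1 : ZMod (2 * 2)).val = 1 := rfl
  have v2 : (2 : ZMod (2 * 2)).val = 2 := rfl
  have v3 : (3 : ZMod (2 * 2)).val = 3 := rfl
  have x2 : x ^ 2 = negOne F := by rw [pow_two, hxx]
  have x3 : x ^ 3 = negOne F * x := by rw [pow_succ, x2]
  have hsurj := fun w : R => show ∃ q, Helper7.quatHom (n := 2) (by norm_num) (⟨x, hx⟩ : R) ⟨y, hy⟩
      (by rw [← hA]; exact pow_orderOf_eq_one _) hX hAX q = w from by
    obtain ⟨w, hw⟩ := w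
    rcases hS.mem_Q_aux hx hx1 hxn hy hy1 hyn hyx hyx' hw with c | c | c | c | c | c | c | c
    · refine ⟨QuaternionGroup.a 0, Subtype.ext ?_⟩
      show x ^ (0 : ZMod (2 * 2)).val = w
      rw [v0, pow_zero, c]
    · refine ⟨QuaternionGroup.a 2, Subtype.ext ?_⟩
      show x ^ (2 : ZMod (2 * 2)).val = w
      rw [v2, x2, c]
    · refine ⟨QuaternionGroup.a 1, Subtype.ext ?_⟩
      show x ^ (1 : ZMod (2 * 2)).val = w
      rw [v1, pow_one, c]
    · refine ⟨QuaternionGroup.a 3, Subtype.ext ?_⟩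
      show x ^ (3 : ZMod (2 * 2)).val = w
      rw [v3, x3, c]
    · refine ⟨QuaternionGroup.xa 0, Subtype.ext ?_⟩
      show y * x ^ (0 : ZMod (2 * 2)).val = w
      rw [v0, pow_zero, mul_one, c]
    · refine ⟨QuaternionGroup.xa 2, Subtype.ext ?_⟩
      show y * x ^ (2 : ZMod (2 * 2)).val = w
      rw [v2, x2, ← negOne_comm, c]
    · refine ⟨QuaternionGroup.xa 3, Subtype.ext ?_⟩
      show y * x ^ (3 : ZMod (2 * 2)).val = w
      rw [v3, x3, mul_negOne_mul, ← hxy, c]
    · refine ⟨QuaternionGroup.xa 1, Subtype.ext ?_⟩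
      show y * x ^ (1 : ZMod (2 * 2)).val = w
      rw [v1, pow_one, c, hxy, negOne_mul_negOne_mul]
  let e : QuaternionGroup 2 ≃* R := MulEquiv.ofBijective _ ⟨hinj, hsurj⟩
  have hcardR : Nat.card R = 8 := by
    rw [← Nat.card_congr e.toEquiv, Nat.card_eq_fintype_card, QuaternionGroup.card]
  refine ⟨rfl, ⟨e.symm⟩, ?_⟩
  -- `R⟨a⟩ ≅ SL₂(3)`
  have hle : Subgroup.zpowers a ≤ Subgroup.normalizer (R : Set (SpecialLinearGroup (Fin 2) F)) := by
    rw [Subgroup.zpowers_le]; exact haR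
  have hcardH : Nat.card ↥(R ⊔ Subgroup.zpowers a) = 24 := by
    have hz : Nat.card (Subgroup.zpowers a) = 3 := by rw [Nat.card_zpowers, hord]
    have d1 : 8 ∣ Nat.card ↥(R ⊔ Subgroup.zpowers a) :=
      hcardR ▸ Subgroup.card_dvd_of_le le_sup_left
    have d2 : 3 ∣ Nat.card ↥(R ⊔ Subgroup.zpowers a) :=
      hz ▸ Subgroup.card_dvd_of_le le_sup_right
    have d3 : 8 * 3 ∣ Nat.card ↥(R ⊔ Subgroup.zpowers a) :=
      Nat.Coprime.mul_dvd_of_dvd_of_dvd (by norm_num) d1 d2
    have : Finite R := Nat.finite_of_card_ne_zero (by rw [hcardR]; norm_num)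
    have : Finite (Subgroup.zpowers a) := Nat.finite_of_card_ne_zero (by rw [hz]; norm_num)
    have hset : ((R ⊔ Subgroup.zpowers a : Subgroup (SpecialLinearGroup (Fin 2) F)) :
        Set (SpecialLinearGroup (Fin 2) F)) =
        (R : Set (SpecialLinearGroup (Fin 2) F)) * ((Subgroup.zpowers a : Subgroup (SpecialLinearGroup (Fin 2) F)) :
          Set (SpecialLinearGroup (Fin 2) F)) :=
      Subgroup.coe_mul_of_right_le_normalizer_left R (Subgroup.zpowers a) hle
    have hfin : ((R ⊔ Subgroup.zpowers a : Subgroup (SpecialLinearGroup (Fin 2) F)) :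
        Set (SpecialLinearGroup (Fin 2) F)).Finite := by
      rw [hset]; exact Set.Finite.mul (Set.toFinite _) (Set.toFinite _)
    have : Finite ↥(R ⊔ Subgroup.zpowers a) := hfin.to_subtype
    have hle24 : Nat.card ↥(R ⊔ Subgroup.zpowers a) ≤ 8 * 3 := by
      have h1 : Nat.card ↥(R ⊔ Subgroup.zpowers a) =
          Nat.card ((R : Set (SpecialLinearGroup (Fin 2) F)) * ((Subgroup.zpowers a : Subgroup (SpecialLinearGroup (Fin 2) F)) :
          Set (SpecialLinearGroup (Fin 2) F)) :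
            Set (SpecialLinearGroup (Fin 2) F)) := by
        rw [← hset]; rfl
      rw [h1]
      refine (Set.natCard_mul_le).trans ?_
      have e1 : Nat.card ((R : Set (SpecialLinearGroup (Fin 2) F))) = 8 := hcardR
      have e2 : Nat.card ((Subgroup.zpowers a : Set (SpecialLinearGroup (Fin 2) F))) = 3 := hz
      rw [e1, e2]
    have hpos : 0 < Nat.card ↥(R ⊔ Subgroup.zpowers a) := Nat.card_pos
    obtain ⟨c, hc⟩ := d3
    rw [hc] at hle24 hpos ⊢
    have : c = 1 := by omega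
    rw [this]
  have hxH : x ∈ R ⊔ Subgroup.zpowers a := (le_sup_left : R ≤ _) hx
  have hyH : y ∈ R ⊔ Subgroup.zpowers a := (le_sup_left : R ≤ _) hy
  have haH : a ∈ R ⊔ Subgroup.zpowers a :=
    (le_sup_right : Subgroup.zpowers a ≤ _) (Subgroup.mem_zpowers a)
  have hdata : Helper57.Q8C3 (⟨x, hxH⟩ : ↥(R ⊔ Subgroup.zpowers a)) ⟨y, hyH⟩ ⟨a, haH⟩ :=
    { hi := by rw [Subgroup.orderOf_mk, hx4]
      hj := Subtype.ext (by
        show y * y = x * x
        rw [hyy, hxx])
      hij := Subtype.ext hxyx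
      hρi := Subtype.ext hydef.symm
      hρj := Subtype.ext hgood
      hρ := by rw [Subgroup.orderOf_mk, hord]
      hcard := hcardH }
  exact hdata.sl23

end sl2final

end Cfsg.Agent.Lib.Helper54
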