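import Mathlib
import Cfsg.Agent.Lib.Helper54.SL2Norm
import Cfsg.Agent.Lib.Helper14.SL2
import Cfsg.Agent.Lib.Helper99.Q8

/-!
# Normalizer and centralizer of a Sylow 2-subgroup of `SL₂(F)`, odd characteristic (helper54)

`P` a Sylow 2-subgroup of `SL₂(F)` which is generalized quaternion `Q_{4n}` (`n` even), with
cyclic part `⟨c⟩` and `y` inverting `c`.  Then `C(P) = Z(SL₂)`, `N(P) = P` if `n ≥ 4`, and
`|N(P)| = 24` if `n = 2`.
-/

set_option autoImplicit false

namespace Cfsg.Agent.Lib.Helper54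

open Matrix Cfsg.Agent.Lib.Helper40
open scoped Pointwise

section sl2syl

variable {F : Type*} [Field F]

theorem negOne_coe : ((negOne F : SpecialLinearGroup (Fin 2) F) : Matrix (Fin 2) (Fin 2) F) = -1 := by
  ext i j
  fin_cases i <;> fin_cases j <;> simp [negOne]

/-- involutions of `SL₂(F)`: only `-1` -/
theorem eq_one_or_negOne_of_mul_self (h2 : (2 : F) ≠ 0) (g : SpecialLinearGroup (Fin 2) F)
    (hg : g * g = 1) : g = 1 ∨ g = negOne F := by
  have hd := sl2_det' g
  have e00 : g 0 0 * g 0 0 + g 0 1 * g 1 0 = 1 := by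
    rw [← sl2_mul_00, hg]; exact one_00
  have e01 : g 0 0 * g 0 1 + g 0 1 * g 1 1 = 0 := by
    rw [← sl2_mul_01, hg]; exact one_01
  have e10 : g 1 0 * g 0 0 + g 1 1 * g 1 0 = 0 := by
    rw [← sl2_mul_10, hg]; exact one_10
  have ht : g 0 0 * (g 0 0 + g 1 1) = 2 := by linear_combination e00 + hd
  have ht0 : g 0 0 + g 1 1 ≠ 0 := by
    intro h0
    rw [h0, mul_zero] at ht
    exact h2 ht.symm
  have h01 : g 0 1 = 0 := by
    have : g 0 1 * (g 0 0 + g 1 1) = 0 := by linear_combination e01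
    rcases mul_eq_zero.mp this with h | h
    · exact h
    · exact absurd h ht0
  have h10 : g 1 0 = 0 := by
    have : g 1 0 * (g 0 0 + g 1 1) = 0 := by linear_combination e10
    rcases mul_eq_zero.mp this with h | h
    · exact h
    · exact absurd h ht0
  rw [h01, zero_mul, add_zero] at e00
  rw [h01, zero_mul, sub_zero] at hd
  have h11 : g 1 1 = g 0 0 := by linear_combination g 0 0 * hd - g 1 1 * e00
  have hfac : (g 0 0 - 1) * (g 0 0 + 1) = 0 := by linear_combination e00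
  rcases mul_eq_zero.mp hfac with h | h
  · left
    have h00 : g 0 0 = 1 := by linear_combination h
    apply sl2_ext'
    · rw [h00, one_00]
    · rw [h01, one_01]
    · rw [h10, one_10]
    · rw [h11, h00, one_11]
  · right
    have h00 : g 0 0 = -1 := by linear_combination h
    apply sl2_ext'
    · rw [h00, negOne_00]
    · rw [h01, negOne_01]
    · rw [h10, negOne_10]
    · rw [h11, h00, negOne_11]

/-- square `-1` means trace zero -/
theorem tr2_eq_zero_of_mul_self (g : SpecialLinearGroup (Fin 2) F) (hg : g * g = negOne F) :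
    tr2 g = 0 := by
  have hd := sl2_det' g
  have e00 : g 0 0 * g 0 0 + g 0 1 * g 1 0 = -1 := by
    rw [← sl2_mul_00, hg]; exact negOne_00
  have e11 : g 1 0 * g 0 1 + g 1 1 * g 1 1 = -1 := by
    rw [← sl2_mul_11, hg]; exact negOne_11
  unfold tr2
  have : (g 0 0 + g 1 1) * (g 0 0 + g 1 1) = 0 := by linear_combination e00 + e11 + 2 * hd
  exact mul_self_eq_zero.mp this

/-- trace `-1` means order dividing 3 (matrix form) -/
theorem mat_pow_three_of_trace (W : Matrix (Fin 2) (Fin 2) F) (hdet : W.det = 1)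
    (htr : W.trace = -1) : W * W * W = 1 := by
  have h1 : W * W = -W - 1 := by
    rw [Helper14.mat2_cayley, htr, hdet]; simp
  rw [h1, sub_mul, neg_mul, h1, one_mul]; abel

/-- conjugation inverting `c` inverts the commutant of `c` -/
theorem conj_inv_of_lin (c y g : SpecialLinearGroup (Fin 2) F) (hyc : y * c * y⁻¹ = c⁻¹) (α β : F)
    (hg : (g : Matrix (Fin 2) (Fin 2) F) = α • 1 + β • (c : Matrix (Fin 2) (Fin 2) F)) :
    y * g * y⁻¹ = g⁻¹ := by
  have g00 : g 0 0 = α + β * c 0 0 := by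
    have := congrFun (congrFun hg 0) 0; simpa using this
  have g01 : g 0 1 = β * c 0 1 := by
    have := congrFun (congrFun hg 0) 1; simpa using this
  have g10 : g 1 0 = β * c 1 0 := by
    have := congrFun (congrFun hg 1) 0; simpa using this
  have g11 : g 1 1 = α + β * c 1 1 := by
    have := congrFun (congrFun hg 1) 1; simpa using this
  have h1 : ((g⁻¹ : SpecialLinearGroup (Fin 2) F) : Matrix (Fin 2) (Fin 2) F) =
      α • 1 + β • ((c⁻¹ : SpecialLinearGroup (Fin 2) F) : Matrix (Fin 2) (Fin 2) F) := by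
    ext i j
    fin_cases i <;> fin_cases j
    · show g⁻¹ 0 0 = α * (1 : Matrix (Fin 2) (Fin 2) F) 0 0 + β * c⁻¹ 0 0
      rw [sl2_inv_00, sl2_inv_00, g11]; simp
    · show g⁻¹ 0 1 = α * (1 : Matrix (Fin 2) (Fin 2) F) 0 1 + β * c⁻¹ 0 1
      rw [sl2_inv_01, sl2_inv_01, g01]; simp
    · show g⁻¹ 1 0 = α * (1 : Matrix (Fin 2) (Fin 2) F) 1 0 + β * c⁻¹ 1 0
      rw [sl2_inv_10, sl2_inv_10, g10]; simp
    · show g⁻¹ 1 1 = α * (1 : Matrix (Fin 2) (Fin 2) F) 1 1 + β * c⁻¹ 1 1
      rw [sl2_inv_11, sl2_inv_11, g00]; simp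
  apply Subtype.ext
  rw [h1]
  show (y : Matrix (Fin 2) (Fin 2) F) * (g : Matrix (Fin 2) (Fin 2) F) *
    ((y⁻¹ : SpecialLinearGroup (Fin 2) F) : Matrix (Fin 2) (Fin 2) F) = _
  have h2 : (y : Matrix (Fin 2) (Fin 2) F) *
      ((y⁻¹ : SpecialLinearGroup (Fin 2) F) : Matrix (Fin 2) (Fin 2) F) = 1 :=
    congrArg Subtype.val (mul_inv_cancel y)
  have h3 : (y : Matrix (Fin 2) (Fin 2) F) * (c : Matrix (Fin 2) (Fin 2) F) *
      ((y⁻¹ : SpecialLinearGroup (Fin 2) F) : Matrix (Fin 2) (Fin 2) F) =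
      ((c⁻¹ : SpecialLinearGroup (Fin 2) F) : Matrix (Fin 2) (Fin 2) F) :=
    congrArg Subtype.val hyc
  rw [hg, Matrix.mul_add, Matrix.add_mul, Matrix.mul_smul, Matrix.smul_mul, Matrix.mul_one,
    Matrix.mul_smul, Matrix.smul_mul, h2, h3]

end sl2syl

/-- a 2-element of the normalizer of a Sylow 2-subgroup lies in it (square form) -/
theorem sylow_two_mem_of_sq_mem {G : Type*} [Group G] (P : Sylow 2 G) (g : G)
    (hg : g ∈ Subgroup.normalizer ((P : Subgroup G) : Set G)) (hgg : g * g ∈ (P : Subgroup G)) :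
    g ∈ (P : Subgroup G) := by
  obtain ⟨k, hk⟩ := P.isPGroup' ⟨g * g, hgg⟩
  have hk' : (g * g) ^ 2 ^ k = 1 := by
    have := congrArg Subtype.val hk
    simpa using this
  have hgk : g ^ 2 ^ (k + 1) = 1 := by
    rw [pow_succ', pow_mul, pow_two, hk']
  have hz : IsPGroup 2 (Subgroup.zpowers g) := by
    obtain ⟨j, -, hj⟩ := (Nat.dvd_prime_pow Nat.prime_two).mp (orderOf_dvd_of_pow_eq_one hgk)
    apply IsPGroup.of_card (n := j)
    rw [Nat.card_zpowers, hj]
  have hle : Subgroup.zpowers g ≤ Subgroup.normalizer ((P : Subgroup G) : Set G) := by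
    rw [Subgroup.zpowers_le]; exact hg
  have hsup := IsPGroup.to_sup_of_normal_right' hz P.isPGroup' hle
  have h1 := P.is_maximal' hsup le_sup_right
  rw [← h1]
  exact (le_sup_left : Subgroup.zpowers g ≤ _) (Subgroup.mem_zpowers g)

/-- an element of order dividing 3 conjugating a subgroup into itself normalizes it -/
theorem mem_normalizer_of_pow_three {G : Type*} [Group G] (S : Subgroup G) (w : G)
    (hw : w * w * w = 1) (hconj : ∀ s ∈ S, w * s * w⁻¹ ∈ S) :
    w ∈ Subgroup.normalizer (S : Set G) := by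
  rw [Subgroup.mem_set_normalizer_iff]
  intro s
  constructor
  · exact hconj s
  · intro hs
    have h1 := hconj _ (hconj _ hs)
    have hw' : w⁻¹ = w * w := by
      apply inv_eq_of_mul_eq_one_left
      exact hw
    have : w * (w * (w * s * w⁻¹) * w⁻¹) * w⁻¹ = s := by
      calc w * (w * (w * s * w⁻¹) * w⁻¹) * w⁻¹ = (w * w * w) * s * (w * w * w)⁻¹ := by group
        _ = s := by rw [hw]; group
    rw [this] at h1
    exact h1

section qsyl

variable {F : Type*} [Field F]

/-- the generalized quaternion situation inside `SL₂(F)` -/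
structure QSyl (S : Subgroup (SpecialLinearGroup (Fin 2) F)) (n : ℕ)
    (c y : SpecialLinearGroup (Fin 2) F) : Prop where
  hc : c ∈ S
  hy : y ∈ S
  rel : c * (y * c) = y
  ord : orderOf c = 2 * n
  gen : ∀ s ∈ S, ∃ i : ℕ, s = c ^ i ∨ s = y * c ^ i
  ordy : ∀ i : ℕ, orderOf (y * c ^ i) = 4
  two_dvd : 2 ∣ n
  ne_zero : n ≠ 0

theorem exists_QSyl (S : Subgroup (SpecialLinearGroup (Fin 2) F)) (k : ℕ) (hk : 1 ≤ k)
    (e : ↥S ≃* QuaternionGroup (2 ^ k)) : ∃ c y, QSyl S (2 ^ k) c y := by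
  refine ⟨(e.symm (QuaternionGroup.a 1) : SpecialLinearGroup (Fin 2) F),
    (e.symm (QuaternionGroup.xa 0) : SpecialLinearGroup (Fin 2) F), (e.symm _).2, (e.symm _).2,
    ?_, ?_, ?_, ?_, ?_, ?_⟩
  · rw [← Subgroup.coe_mul, ← Subgroup.coe_mul, ← map_mul, ← map_mul]
    congr 2
    simp [QuaternionGroup.xa_mul_a, QuaternionGroup.a_mul_xa]
  · rw [Subgroup.orderOf_coe, MulEquiv.orderOf_eq, QuaternionGroup.orderOf_a_one]
  · intro s hs
    have hs' : s = (e.symm (e ⟨s, hs⟩) : SpecialLinearGroup (Fin 2) F) := by simp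
    rcases h : e ⟨s, hs⟩ with i | i
    · refine ⟨i.val, Or.inl ?_⟩
      rw [hs', h, ← Subgroup.coe_pow, ← map_pow, QuaternionGroup.a_one_pow,
        ZMod.natCast_zmod_val]
    · refine ⟨i.val, Or.inr ?_⟩
      rw [hs', h, ← Subgroup.coe_pow, ← Subgroup.coe_mul, ← map_pow, ← map_mul,
        QuaternionGroup.a_one_pow, ZMod.natCast_zmod_val, QuaternionGroup.xa_mul_a, zero_add]
  · intro i
    rw [← Subgroup.coe_pow, ← Subgroup.coe_mul, ← map_pow, ← map_mul, Subgroup.orderOf_coe,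
      MulEquiv.orderOf_eq, QuaternionGroup.a_one_pow, QuaternionGroup.xa_mul_a,
      QuaternionGroup.orderOf_xa]
  · exact dvd_pow_self 2 (by omega)
  · exact pow_ne_zero k (by norm_num)

namespace QSyl

variable {P : Sylow 2 (SpecialLinearGroup (Fin 2) F)} {n : ℕ}
  {c y : SpecialLinearGroup (Fin 2) F}

theorem two_le (h : QSyl (P : Subgroup (SpecialLinearGroup (Fin 2) F)) n c y) : 2 ≤ n := by
  have := h.ne_zero
  have := Nat.le_of_dvd (Nat.pos_of_ne_zero h.ne_zero) h.two_dvd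
  omega

theorem conj (h : QSyl (P : Subgroup (SpecialLinearGroup (Fin 2) F)) n c y) :
    y * c * y⁻¹ = c⁻¹ := by
  calc y * c * y⁻¹ = c⁻¹ * (c * (y * c)) * y⁻¹ := by group
    _ = c⁻¹ := by rw [h.rel]; group

theorem conj_inv (h : QSyl (P : Subgroup (SpecialLinearGroup (Fin 2) F)) n c y) :
    y * c⁻¹ * y⁻¹ = c := by
  calc y * c⁻¹ * y⁻¹ = (y * c * y⁻¹)⁻¹ := by group
    _ = c := by rw [h.conj, inv_inv]

theorem cc_ne (h : QSyl (P : Subgroup (SpecialLinearGroup (Fin 2) F)) n c y) : c * c ≠ 1 := by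
  intro hcc
  have h1 : orderOf c ∣ 2 := orderOf_dvd_of_pow_eq_one (by rw [pow_two]; exact hcc)
  rw [h.ord] at h1
  have h2 := Nat.le_of_dvd (by norm_num) h1
  have := h.two_le
  omega

theorem pow_ne (p : ℕ) [Fact p.Prime] (hp2 : p ≠ 2)
    (h : QSyl (P : Subgroup (SpecialLinearGroup (Fin 2) F)) n c y) : c ^ (2 * p) ≠ 1 := by
  intro hc
  have h1 : orderOf c ∣ 2 * p := orderOf_dvd_of_pow_eq_one hc
  rw [h.ord] at h1
  have h2 : n ∣ p := Nat.dvd_of_mul_dvd_mul_left (by norm_num) h1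
  have h3 : 2 ∣ p := h.two_dvd.trans h2
  exact hp2 ((Nat.prime_dvd_prime_iff_eq Nat.prime_two Fact.out).mp h3).symm

theorem not_comm (h : QSyl (P : Subgroup (SpecialLinearGroup (Fin 2) F)) n c y) :
    y * c ≠ c * y := by
  intro hyc
  apply h.cc_ne
  have h1 := h.rel
  rw [hyc, ← mul_assoc] at h1
  exact mul_eq_right.mp h1

theorem mem_of_comm (h : QSyl (P : Subgroup (SpecialLinearGroup (Fin 2) F)) n c y)
    (g : SpecialLinearGroup (Fin 2) F)
    (hg : g ∈ Subgroup.normalizer ((P : Subgroup (SpecialLinearGroup (Fin 2) F)) :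
      Set (SpecialLinearGroup (Fin 2) F)))
    (hgc : g * c = c * g) : g ∈ (P : Subgroup (SpecialLinearGroup (Fin 2) F)) := by
  obtain ⟨α, β, hαβ⟩ := Helper14.mat2_commutant (c : Matrix (Fin 2) (Fin 2) F)
    (g : Matrix (Fin 2) (Fin 2) F) (Helper14.SL2_nonscalar c h.cc_ne) (congrArg Subtype.val hgc)
  have h1 := conj_inv_of_lin c y g h.conj α β hαβ
  apply sylow_two_mem_of_sq_mem P g hg
  have h2 : g * y⁻¹ * g⁻¹ ∈ (P : Subgroup (SpecialLinearGroup (Fin 2) F)) :=
    (Subgroup.mem_set_normalizer_iff.mp hg y⁻¹).mp (inv_mem h.hy)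
  have h3 : g⁻¹ * g⁻¹ ∈ (P : Subgroup (SpecialLinearGroup (Fin 2) F)) := by
    have : g⁻¹ * g⁻¹ = y * (g * y⁻¹ * g⁻¹) := by rw [← h1]; group
    rw [this]; exact mul_mem h.hy h2
  have : g * g = (g⁻¹ * g⁻¹)⁻¹ := by rw [_root_.mul_inv_rev, inv_inv]
  rw [this]; exact inv_mem h3

theorem mem_of_conj_comm (p : ℕ) [Fact p.Prime] [CharP F p] (hp2 : p ≠ 2)
    (h : QSyl (P : Subgroup (SpecialLinearGroup (Fin 2) F)) n c y)
    (g : SpecialLinearGroup (Fin 2) F)
    (hg : g ∈ Subgroup.normalizer ((P : Subgroup (SpecialLinearGroup (Fin 2) F)) :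
      Set (SpecialLinearGroup (Fin 2) F)))
    (hgc : (g * c * g⁻¹) * c = c * (g * c * g⁻¹)) :
    g ∈ (P : Subgroup (SpecialLinearGroup (Fin 2) F)) := by
  rcases Helper14.SL2_conj_comm hp2 c g (h.pow_ne p hp2) hgc with h1 | h1
  · exact h.mem_of_comm g hg (mul_inv_eq_iff_eq_mul.mp h1)
  · have hyg : y * g ∈ Subgroup.normalizer ((P : Subgroup (SpecialLinearGroup (Fin 2) F)) :
        Set (SpecialLinearGroup (Fin 2) F)) := mul_mem (Subgroup.le_normalizer h.hy) hg
    have h2 : y * g ∈ (P : Subgroup (SpecialLinearGroup (Fin 2) F)) := by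
      apply h.mem_of_comm (y * g) hyg
      calc y * g * c = y * (g * c * g⁻¹) * g := by group
        _ = y * c⁻¹ * g := by rw [h1]
        _ = (y * c⁻¹ * y⁻¹) * (y * g) := by group
        _ = c * (y * g) := by rw [h.conj_inv]
    have h3 : g = y⁻¹ * (y * g) := by group
    rw [h3]; exact mul_mem (inv_mem h.hy) h2

/-- the centralizer of the Sylow 2-subgroup is the centre -/
theorem centralizer_eq (h2 : (2 : F) ≠ 0)
    (h : QSyl (P : Subgroup (SpecialLinearGroup (Fin 2) F)) n c y) :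
    Subgroup.centralizer ((P : Subgroup (SpecialLinearGroup (Fin 2) F)) :
      Set (SpecialLinearGroup (Fin 2) F)) = Subgroup.center (SpecialLinearGroup (Fin 2) F) := by
  apply le_antisymm _ (Subgroup.center_le_centralizer _)
  intro g hg
  rw [Subgroup.mem_centralizer_iff] at hg
  have hgc : c * g = g * c := hg c h.hc
  have hgy : y * g = g * y := hg y h.hy
  have hgg : g * g = 1 := by
    by_contra hgg
    exact h.not_comm (Helper14.SL2_comm_of_comm g y c hgg hgy hgc)
  rw [Subgroup.mem_center_iff]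
  intro x
  rcases eq_one_or_negOne_of_mul_self h2 g hgg with rfl | rfl
  · simp
  · exact (negOne_comm x).symm

/-- large quaternion Sylow 2-subgroups are self-normalizing -/
theorem normalizer_eq (p : ℕ) [Fact p.Prime] [CharP F p] (hp2 : p ≠ 2)
    (h : QSyl (P : Subgroup (SpecialLinearGroup (Fin 2) F)) n c y) (hn : 4 ≤ n) :
    Subgroup.normalizer ((P : Subgroup (SpecialLinearGroup (Fin 2) F)) :
      Set (SpecialLinearGroup (Fin 2) F)) = (P : Subgroup (SpecialLinearGroup (Fin 2) F)) := by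
  apply le_antisymm _ Subgroup.le_normalizer
  intro g hg
  apply h.mem_of_conj_comm p hp2 g hg
  have hs : g * c * g⁻¹ ∈ (P : Subgroup (SpecialLinearGroup (Fin 2) F)) :=
    (Subgroup.mem_set_normalizer_iff.mp hg c).mp h.hc
  obtain ⟨i, hi | hi⟩ := h.gen _ hs
  · rw [hi]
    exact (pow_succ c i).symm.trans (pow_succ' c i)
  · exfalso
    have h1 : orderOf (g * c * g⁻¹) = 2 * n := by
      rw [← h.ord]
      exact (MulAut.conj g).orderOf_eq c
    rw [hi, h.ordy] at h1
    omega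

theorem negOne_pow_comm (k : ℕ) (x : SpecialLinearGroup (Fin 2) F) :
    negOne F ^ k * x = x * negOne F ^ k := by
  have h : Commute (negOne F) x := negOne_comm x
  exact (h.pow_left k).eq

/-- `Q₈` Sylow 2-subgroups have normalizers of order 24 -/
theorem card_normalizer (p : ℕ) [Fact p.Prime] [CharP F p] (hp2 : p ≠ 2)
    (h : QSyl (P : Subgroup (SpecialLinearGroup (Fin 2) F)) 2 c y)
    (hcard : Nat.card (P : Subgroup (SpecialLinearGroup (Fin 2) F)) = 8) :
    Nat.card (Subgroup.normalizer ((P : Subgroup (SpecialLinearGroup (Fin 2) F)) :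
      Set (SpecialLinearGroup (Fin 2) F))) = 24 := by
  have h2 : (2 : F) ≠ 0 := two_ne_zero_of_char p hp2
  have hc4 : c ^ 4 = 1 := by
    have := pow_orderOf_eq_one c
    rwa [h.ord] at this
  have hcc : c * c = negOne F := by
    have h1 : (c * c) * (c * c) = 1 := by
      rw [← pow_two, ← pow_two, ← pow_mul]; exact hc4
    rcases eq_one_or_negOne_of_mul_self h2 _ h1 with h3 | h3
    · exact absurd h3 h.cc_ne
    · exact h3
  have hy4 : orderOf y = 4 := by
    have := h.ordy 0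
    rwa [pow_zero, mul_one] at this
  have hyy : y * y = negOne F := by
    have h0 : y ^ 4 = 1 := by
      have := pow_orderOf_eq_one y
      rwa [hy4] at this
    have h1 : (y * y) * (y * y) = 1 := by
      rw [← pow_two, ← pow_two, ← pow_mul]; exact h0
    rcases eq_one_or_negOne_of_mul_self h2 _ h1 with h3 | h3
    · exfalso
      have h4 : orderOf y ∣ 2 := orderOf_dvd_of_pow_eq_one (by rw [pow_two]; exact h3)
      rw [hy4] at h4
      norm_num at h4
    · exact h3
  have hcinv : c⁻¹ = negOne F * c := inv_eq_of_mul_self c hcc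
  have hyc : y * c = negOne F * (c * y) := by
    have h1 := h.conj
    rw [hcinv] at h1
    rw [← mul_assoc, ← h1]; group
  have hA : (c : Matrix (Fin 2) (Fin 2) F) * (c : Matrix (Fin 2) (Fin 2) F) = -1 := by
    have h1 := congrArg Subtype.val hcc
    rw [negOne_coe] at h1
    exact h1
  have hB : (y : Matrix (Fin 2) (Fin 2) F) * (y : Matrix (Fin 2) (Fin 2) F) = -1 := by
    have h1 := congrArg Subtype.val hyy
    rw [negOne_coe] at h1
    exact h1
  have hBA : (y : Matrix (Fin 2) (Fin 2) F) * (c : Matrix (Fin 2) (Fin 2) F) =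
      -((c : Matrix (Fin 2) (Fin 2) F) * (y : Matrix (Fin 2) (Fin 2) F)) := by
    have h1 := congrArg Subtype.val hyc
    have h3 : ((negOne F * (c * y) : SpecialLinearGroup (Fin 2) F) : Matrix (Fin 2) (Fin 2) F) =
        ((negOne F : SpecialLinearGroup (Fin 2) F) : Matrix (Fin 2) (Fin 2) F) *
          ((c : Matrix (Fin 2) (Fin 2) F) * (y : Matrix (Fin 2) (Fin 2) F)) := rfl
    rw [h3, negOne_coe, neg_one_mul] at h1
    exact h1
  have hAt : (c : Matrix (Fin 2) (Fin 2) F).trace = 0 := by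
    rw [Matrix.trace_fin_two]; exact tr2_eq_zero_of_mul_self c hcc
  have hBt : (y : Matrix (Fin 2) (Fin 2) F).trace = 0 := by
    rw [Matrix.trace_fin_two]; exact tr2_eq_zero_of_mul_self y hyy
  obtain ⟨W, hdet, htr, hWA, hWB⟩ := Helper99.q8_hurwitz h2 _ _ hA hB hBA hAt hBt
  obtain ⟨ω, hω⟩ : ∃ ω : SpecialLinearGroup (Fin 2) F, ω = ⟨W, hdet⟩ := ⟨_, rfl⟩
  have hωc : ω * c = c * y * ω := by rw [hω]; exact Subtype.ext hWA
  have hωy : ω * y = c * ω := by rw [hω]; exact Subtype.ext hWB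
  have hω3 : ω * ω * ω = 1 := by
    rw [hω]; exact Subtype.ext (mat_pow_three_of_trace W hdet htr)
  have hω1 : ω ≠ 1 := by
    intro h1
    rw [h1, one_mul, mul_one] at hωy
    exact h.not_comm (by rw [hωy])
  have hord : orderOf ω = 3 :=
    orderOf_eq_prime (by rw [pow_succ, pow_two]; exact hω3) hω1
  have cω : ω * c * ω⁻¹ = c * y := by rw [hωc]; group
  have yω : ω * y * ω⁻¹ = c := by rw [hωy]; group
  have hωN : ω ∈ Subgroup.normalizer ((P : Subgroup (SpecialLinearGroup (Fin 2) F)) :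
      Set (SpecialLinearGroup (Fin 2) F)) := by
    apply mem_normalizer_of_pow_three _ ω hω3
    intro s hs
    obtain ⟨i, hi | hi⟩ := h.gen s hs
    · rw [hi, ← conj_pow, cω]
      exact pow_mem (mul_mem h.hc h.hy) i
    · have e1 : ω * (y * c ^ i) * ω⁻¹ = (ω * y * ω⁻¹) * (ω * c * ω⁻¹) ^ i := by
        rw [conj_pow]; group
      rw [hi, e1, yω, cω]
      exact mul_mem h.hc (pow_mem (mul_mem h.hc h.hy) i)
  have hle : Subgroup.zpowers ω ≤ Subgroup.normalizer
      ((P : Subgroup (SpecialLinearGroup (Fin 2) F)) : Set (SpecialLinearGroup (Fin 2) F)) := by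
    rw [Subgroup.zpowers_le]; exact hωN
  obtain ⟨R, hR⟩ : ∃ R : Subgroup (SpecialLinearGroup (Fin 2) F),
      R = (P : Subgroup (SpecialLinearGroup (Fin 2) F)) := ⟨_, rfl⟩
  rw [← hR] at hle hcard hωN ⊢
  have hcR : c ∈ R := by rw [hR]; exact h.hc
  have hyR : y ∈ R := by rw [hR]; exact h.hy
  have hcardH : Nat.card ↥(R ⊔ Subgroup.zpowers ω) = 24 := by
    have hz : Nat.card (Subgroup.zpowers ω) = 3 := by rw [Nat.card_zpowers, hord]
    have d1 : 8 ∣ Nat.card ↥(R ⊔ Subgroup.zpowers ω) :=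
      hcard ▸ Subgroup.card_dvd_of_le le_sup_left
    have d2 : 3 ∣ Nat.card ↥(R ⊔ Subgroup.zpowers ω) :=
      hz ▸ Subgroup.card_dvd_of_le le_sup_right
    have d3 : 8 * 3 ∣ Nat.card ↥(R ⊔ Subgroup.zpowers ω) :=
      Nat.Coprime.mul_dvd_of_dvd_of_dvd (by norm_num) d1 d2
    have : Finite R := Nat.finite_of_card_ne_zero (by rw [hcard]; norm_num)
    have : Finite (Subgroup.zpowers ω) := Nat.finite_of_card_ne_zero (by rw [hz]; norm_num)
    have hset : ((R ⊔ Subgroup.zpowers ω : Subgroup (SpecialLinearGroup (Fin 2) F)) :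
        Set (SpecialLinearGroup (Fin 2) F)) =
        (R : Set (SpecialLinearGroup (Fin 2) F)) *
          ((Subgroup.zpowers ω : Subgroup (SpecialLinearGroup (Fin 2) F)) :
          Set (SpecialLinearGroup (Fin 2) F)) :=
      Subgroup.coe_mul_of_right_le_normalizer_left R (Subgroup.zpowers ω) hle
    have hfin : ((R ⊔ Subgroup.zpowers ω : Subgroup (SpecialLinearGroup (Fin 2) F)) :
        Set (SpecialLinearGroup (Fin 2) F)).Finite := by
      rw [hset]; exact Set.Finite.mul (Set.toFinite _) (Set.toFinite _)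
    have : Finite ↥(R ⊔ Subgroup.zpowers ω) := hfin.to_subtype
    have hle24 : Nat.card ↥(R ⊔ Subgroup.zpowers ω) ≤ 8 * 3 := by
      have h1 : Nat.card ↥(R ⊔ Subgroup.zpowers ω) =
          Nat.card ((R : Set (SpecialLinearGroup (Fin 2) F)) *
            ((Subgroup.zpowers ω : Subgroup (SpecialLinearGroup (Fin 2) F)) :
          Set (SpecialLinearGroup (Fin 2) F)) :
            Set (SpecialLinearGroup (Fin 2) F)) := by
        rw [← hset]; rfl
      rw [h1]
      refine (Set.natCard_mul_le).trans ?_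
      have e1 : Nat.card ((R : Set (SpecialLinearGroup (Fin 2) F))) = 8 := hcard
      have e2 : Nat.card ((Subgroup.zpowers ω : Set (SpecialLinearGroup (Fin 2) F))) = 3 := hz
      rw [e1, e2]
    have hpos : 0 < Nat.card ↥(R ⊔ Subgroup.zpowers ω) := Nat.card_pos
    obtain ⟨d, hd⟩ := d3
    rw [hd] at hle24 hpos ⊢
    have : d = 1 := by omega
    rw [this]
  have hcases : ∀ s ∈ R, s * c = c * s ∨ s * y = y * s ∨ s * (c * y) = (c * y) * s := by
    intro s hs
    rw [hR] at hs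
    obtain ⟨i, hi | hi⟩ := h.gen s hs
    · left; rw [hi]; exact (pow_succ c i).symm.trans (pow_succ' c i)
    · rcases Nat.even_or_odd' i with ⟨m, hm | hm⟩
      · right; left
        have e1 : c ^ i = negOne F ^ m := by rw [hm, pow_mul, pow_two, hcc]
        rw [hi, e1, mul_assoc, negOne_pow_comm m y]
      · right; right
        have e1 : y * c ^ i = negOne F ^ (m + 1) * (c * y) := by
          rw [hm, pow_succ', pow_mul, pow_two, hcc, ← mul_assoc, hyc, pow_succ',
            ← negOne_pow_comm m (negOne F * (c * y)), ← mul_assoc]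
          rw [negOne_pow_comm m (negOne F)]
        rw [hi, e1, ← mul_assoc (c * y), ← negOne_pow_comm (m + 1) (c * y)]
  have conj_comm : ∀ w s t : SpecialLinearGroup (Fin 2) F, s * t = t * s →
      (w * s * w⁻¹) * (w * t * w⁻¹) = (w * t * w⁻¹) * (w * s * w⁻¹) := by
    intro w s t hst
    calc (w * s * w⁻¹) * (w * t * w⁻¹) = w * (s * t) * w⁻¹ := by group
      _ = w * (t * s) * w⁻¹ := by rw [hst]
      _ = (w * t * w⁻¹) * (w * s * w⁻¹) := by group
  have cyω : (ω * ω) * (c * y) * (ω * ω)⁻¹ = c := by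
    calc (ω * ω) * (c * y) * (ω * ω)⁻¹ = ω * ((ω * c * ω⁻¹) * (ω * y * ω⁻¹)) * ω⁻¹ := by group
      _ = ω * (c * (y * c)) * ω⁻¹ := by rw [cω, yω, mul_assoc c y c]
      _ = c := by rw [h.rel, yω]
  have hωK : ω ∈ R ⊔ Subgroup.zpowers ω :=
    (le_sup_right : Subgroup.zpowers ω ≤ _) (Subgroup.mem_zpowers ω)
  have hNK : Subgroup.normalizer (R : Set (SpecialLinearGroup (Fin 2) F)) ≤
      R ⊔ Subgroup.zpowers ω := by
    intro g hg
    have hs : g * c * g⁻¹ ∈ R := (Subgroup.mem_set_normalizer_iff.mp hg c).mp hcR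
    have key : ∀ w : SpecialLinearGroup (Fin 2) F,
        w ∈ Subgroup.normalizer (R : Set (SpecialLinearGroup (Fin 2) F)) →
        w ∈ R ⊔ Subgroup.zpowers ω →
        (w * (g * c * g⁻¹) * w⁻¹) * c = c * (w * (g * c * g⁻¹) * w⁻¹) →
        g ∈ R ⊔ Subgroup.zpowers ω := by
      intro w hwN hwK hcomm
      have hwg : w * g ∈ Subgroup.normalizer (R : Set (SpecialLinearGroup (Fin 2) F)) :=
        mul_mem hwN hg
      have e1 : w * g * c * (w * g)⁻¹ = w * (g * c * g⁻¹) * w⁻¹ := by group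
      have h3 : w * g ∈ R := by
        rw [hR] at hwg ⊢
        apply h.mem_of_conj_comm p hp2 (w * g) hwg
        rw [e1]; exact hcomm
      have e2 : g = w⁻¹ * (w * g) := by group
      rw [e2]
      exact mul_mem (inv_mem hwK) ((le_sup_left : R ≤ _) h3)
    obtain ⟨s, hsdef⟩ : ∃ s, s = g * c * g⁻¹ := ⟨_, rfl⟩
    rw [← hsdef] at hs key
    rcases hcases s hs with h1 | h1 | h1
    · apply key 1 (one_mem _) (one_mem _)
      rw [one_mul, inv_one, mul_one]; exact h1
    · apply key ω hωN hωK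
      have := conj_comm ω s y h1
      rw [yω] at this
      exact this
    · apply key (ω * ω) (mul_mem hωN hωN) (mul_mem hωK hωK)
      have := conj_comm (ω * ω) s (c * y) h1
      rw [cyω] at this
      exact this
  have hKN : R ⊔ Subgroup.zpowers ω ≤
      Subgroup.normalizer (R : Set (SpecialLinearGroup (Fin 2) F)) :=
    sup_le Subgroup.le_normalizer hle
  rw [le_antisymm hNK hKN]
  exact hcardH

end QSyl

end qsyl

end Cfsg.Agent.Lib.Helper54
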