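import Mathlib
import Cfsg.Agent.Lib.Helper54.SL2Syl
import Cfsg.Agent.S2429

/-!
# Centralizers of regular semisimple elements of `SL₂(q)` (helper54)

For `x ∈ SL₂(F)` with `tr(x)² ≠ 4` (`F` finite of odd characteristic), the centralizer of `x`
has order `q - 1` or `q + 1`: it is in bijection with the conic `α² + tαβ + β² = 1`.
-/

set_option autoImplicit false

namespace Cfsg.Agent.Lib.Helper54

open Matrix Cfsg.Agent.Lib.Helper40

section cent

variable {F : Type*} [Field F]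

/-- the centralizer of a nonscalar element is parametrized by a conic -/
theorem card_centralizer_eq_conic (x : SpecialLinearGroup (Fin 2) F)
    (hx : ∀ c : F, (x : Matrix (Fin 2) (Fin 2) F) ≠ c • 1) :
    Nat.card (Subgroup.centralizer ({x} : Set (SpecialLinearGroup (Fin 2) F))) =
      Nat.card {p : F × F // p.1 ^ 2 + p.1 * p.2 * (x : Matrix (Fin 2) (Fin 2) F).trace +
        p.2 ^ 2 = 1} := by
  symm
  let g : {p : F × F // p.1 ^ 2 + p.1 * p.2 * (x : Matrix (Fin 2) (Fin 2) F).trace +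
      p.2 ^ 2 = 1} → SpecialLinearGroup (Fin 2) F :=
    fun p => ⟨p.1.1 • 1 + p.1.2 • (x : Matrix (Fin 2) (Fin 2) F), by
      rw [Helper14.mat2_det_lin, x.det_coe]; linear_combination p.2⟩
  have hg : ∀ p, g p ∈ Subgroup.centralizer ({x} : Set (SpecialLinearGroup (Fin 2) F)) := by
    intro p
    rw [Subgroup.mem_centralizer_iff]
    intro h hh
    rw [Set.mem_singleton_iff] at hh
    subst hh
    apply Subtype.ext
    show (h : Matrix (Fin 2) (Fin 2) F) * (p.1.1 • 1 + p.1.2 • (h : Matrix (Fin 2) (Fin 2) F)) =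
      (p.1.1 • 1 + p.1.2 • (h : Matrix (Fin 2) (Fin 2) F)) * (h : Matrix (Fin 2) (Fin 2) F)
    simp [Matrix.mul_add, Matrix.add_mul]
  let f : {p : F × F // p.1 ^ 2 + p.1 * p.2 * (x : Matrix (Fin 2) (Fin 2) F).trace +
      p.2 ^ 2 = 1} → Subgroup.centralizer ({x} : Set (SpecialLinearGroup (Fin 2) F)) :=
    fun p => ⟨g p, hg p⟩
  apply Nat.card_congr (Equiv.ofBijective f ⟨?_, ?_⟩)
  · rintro ⟨⟨a, b⟩, hp⟩ ⟨⟨a', b'⟩, hp'⟩ h
    have h1 : a • (1 : Matrix (Fin 2) (Fin 2) F) + b • (x : Matrix (Fin 2) (Fin 2) F) =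
        a' • 1 + b' • (x : Matrix (Fin 2) (Fin 2) F) :=
      congrArg (fun g : Subgroup.centralizer ({x} : Set (SpecialLinearGroup (Fin 2) F)) =>
        ((g : SpecialLinearGroup (Fin 2) F) : Matrix (Fin 2) (Fin 2) F)) h
    have hb : b = b' := by
      by_contra hne
      apply hx ((a' - a) / (b - b'))
      have hne' : b - b' ≠ 0 := sub_ne_zero.mpr hne
      have h2 : (b - b') • (x : Matrix (Fin 2) (Fin 2) F) = (a' - a) • 1 := by
        rw [sub_smul, sub_smul]
        calc b • (x : Matrix (Fin 2) (Fin 2) F) - b' • (x : Matrix (Fin 2) (Fin 2) F)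
            = (a • (1 : Matrix (Fin 2) (Fin 2) F) + b • (x : Matrix (Fin 2) (Fin 2) F)) - a • 1
              - b' • (x : Matrix (Fin 2) (Fin 2) F) := by abel
          _ = (a' • (1 : Matrix (Fin 2) (Fin 2) F) + b' • (x : Matrix (Fin 2) (Fin 2) F)) - a • 1
              - b' • (x : Matrix (Fin 2) (Fin 2) F) := by rw [h1]
          _ = a' • 1 - a • 1 := by abel
      calc (x : Matrix (Fin 2) (Fin 2) F)
          = (b - b')⁻¹ • ((b - b') • (x : Matrix (Fin 2) (Fin 2) F)) := by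
            rw [smul_smul, inv_mul_cancel₀ hne', one_smul]
        _ = ((a' - a) / (b - b')) • 1 := by
            rw [h2, smul_smul]; congr 1; field_simp
    subst hb
    have ha : a = a' := by
      have h3 := congrFun (congrFun h1 0) 0
      simpa using h3
    subst ha; rfl
  · rintro ⟨g, hg⟩
    rw [Subgroup.mem_centralizer_iff] at hg
    have hgx : g * x = x * g := (hg x rfl).symm
    obtain ⟨α, β, hαβ⟩ := Helper14.mat2_commutant (x : Matrix (Fin 2) (Fin 2) F)
      (g : Matrix (Fin 2) (Fin 2) F) hx (congrArg Subtype.val hgx)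
    have hdet := g.det_coe
    rw [hαβ, Helper14.mat2_det_lin, x.det_coe] at hdet
    refine ⟨⟨(α, β), by linear_combination hdet⟩, ?_⟩
    apply Subtype.ext; apply Subtype.ext
    exact hαβ.symm

/-- completing the square in the conic -/
def conicSq (h2 : (2 : F) ≠ 0) (t : F) :
    {p : F × F // p.1 ^ 2 + p.1 * p.2 * t + p.2 ^ 2 = 1} ≃
      {p : F × F // p.1 ^ 2 - (t ^ 2 - 4) * p.2 ^ 2 = 1} where
  toFun p := ⟨(p.1.1 + t * p.1.2 / 2, p.1.2 / 2), by
    have := p.2
    have e : (p.1.1 + t * p.1.2 / 2) ^ 2 - (t ^ 2 - 4) * (p.1.2 / 2) ^ 2 =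
        p.1.1 ^ 2 + p.1.1 * p.1.2 * t + p.1.2 ^ 2 := by
      field_simp; ring
    show (p.1.1 + t * p.1.2 / 2) ^ 2 - (t ^ 2 - 4) * (p.1.2 / 2) ^ 2 = 1
    rw [e]; exact this⟩
  invFun p := ⟨(p.1.1 - t * p.1.2, 2 * p.1.2), by
    have := p.2
    show (p.1.1 - t * p.1.2) ^ 2 + (p.1.1 - t * p.1.2) * (2 * p.1.2) * t + (2 * p.1.2) ^ 2 = 1
    linear_combination this⟩
  left_inv p := by
    apply Subtype.ext
    apply Prod.ext
    · show p.1.1 + t * p.1.2 / 2 - t * (p.1.2 / 2) = p.1.1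
      ring
    · show 2 * (p.1.2 / 2) = p.1.2
      field_simp
  right_inv p := by
    apply Subtype.ext
    apply Prod.ext
    · show p.1.1 - t * p.1.2 + t * (2 * p.1.2) / 2 = p.1.1
      field_simp; ring
    · show 2 * p.1.2 / 2 = p.1.2
      field_simp

/-- the split conic `u² - δ² v² = 1` is parametrized by the units -/
def conicSplit (h2 : (2 : F) ≠ 0) (D δ : F) (hδ : D = δ * δ) (hδ0 : δ ≠ 0) :
    {p : F × F // p.1 ^ 2 - D * p.2 ^ 2 = 1} ≃ Fˣ where
  toFun p := ⟨p.1.1 - δ * p.1.2, p.1.1 + δ * p.1.2, by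
    have := p.2
    linear_combination this + p.1.2 ^ 2 * hδ, by
    have := p.2
    linear_combination this + p.1.2 ^ 2 * hδ⟩
  invFun r := ⟨(((r : F) + ((r⁻¹ : Fˣ) : F)) / 2, (((r⁻¹ : Fˣ) : F) - (r : F)) / (2 * δ)), by
    have hrs : (r : F) * ((r⁻¹ : Fˣ) : F) = 1 := r.val_inv
    show (((r : F) + ((r⁻¹ : Fˣ) : F)) / 2) ^ 2 -
      D * ((((r⁻¹ : Fˣ) : F) - (r : F)) / (2 * δ)) ^ 2 = 1
    rw [hδ]
    field_simp
    linear_combination 4 * hrs⟩
  left_inv p := by
    apply Subtype.ext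
    apply Prod.ext
    · show (p.1.1 - δ * p.1.2 + (p.1.1 + δ * p.1.2)) / 2 = p.1.1
      field_simp; ring
    · show (p.1.1 + δ * p.1.2 - (p.1.1 - δ * p.1.2)) / (2 * δ) = p.1.2
      field_simp; ring
  right_inv r := by
    apply Units.ext
    show ((r : F) + ((r⁻¹ : Fˣ) : F)) / 2 - δ * ((((r⁻¹ : Fˣ) : F) - (r : F)) / (2 * δ)) = (r : F)
    field_simp; ring

theorem card_conic [Fintype F] (h2 : (2 : F) ≠ 0) (t : F) (ht : t ^ 2 ≠ 4) :
    Nat.card {p : F × F // p.1 ^ 2 + p.1 * p.2 * t + p.2 ^ 2 = 1} = Fintype.card F - 1 ∨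
    Nat.card {p : F × F // p.1 ^ 2 + p.1 * p.2 * t + p.2 ^ 2 = 1} = Fintype.card F + 1 := by
  classical
  by_cases hsq : IsSquare (t ^ 2 - 4)
  · left
    obtain ⟨δ, hδ⟩ := hsq
    have hδ0 : δ ≠ 0 := by
      rintro rfl
      apply ht
      linear_combination hδ
    rw [Nat.card_congr ((conicSq h2 t).trans (conicSplit h2 (t ^ 2 - 4) δ hδ hδ0)),
      Nat.card_eq_fintype_card, Fintype.card_units]
  · right
    rw [Nat.card_congr ((conicSq h2 t).trans (Cfsg.Agent.S2429.conicEquiv (t ^ 2 - 4) hsq h2).symm),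
      Nat.card_eq_fintype_card, Fintype.card_option]

/-- the centralizer of a regular semisimple element of `SL₂(q)` has order `q ∓ 1` -/
theorem card_centralizer_singleton [Fintype F] (h2 : (2 : F) ≠ 0)
    (x : SpecialLinearGroup (Fin 2) F) (ht : (x : Matrix (Fin 2) (Fin 2) F).trace ^ 2 ≠ 4) :
    Nat.card (Subgroup.centralizer ({x} : Set (SpecialLinearGroup (Fin 2) F))) =
        Fintype.card F - 1 ∨
    Nat.card (Subgroup.centralizer ({x} : Set (SpecialLinearGroup (Fin 2) F))) =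
        Fintype.card F + 1 := by
  have hx : ∀ c : F, (x : Matrix (Fin 2) (Fin 2) F) ≠ c • 1 := by
    intro c hc
    apply ht
    have hdet := x.det_coe
    rw [hc] at hdet ⊢
    simp only [Matrix.det_fin_two, Matrix.trace_fin_two, Matrix.smul_apply, Matrix.one_apply_eq,
      smul_eq_mul, mul_one, ne_eq, zero_ne_one, not_false_eq_true, Matrix.one_apply_ne, mul_zero,
      sub_zero, one_ne_zero] at hdet ⊢
    linear_combination 4 * hdet
  rw [card_centralizer_eq_conic x hx]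
  exact card_conic h2 _ ht

/-- noncentral 2-elements in odd characteristic are regular semisimple -/
theorem trace_sq_ne_of_two_elt (p : ℕ) [Fact p.Prime] [CharP F p] (hp2 : p ≠ 2)
    (x : SpecialLinearGroup (Fin 2) F) (j : ℕ) (hx : orderOf x = 2 ^ j) (hxx : x * x ≠ 1) :
    (x : Matrix (Fin 2) (Fin 2) F).trace ^ 2 ≠ 4 := by
  intro h
  have h1 : x ^ (2 * p) = 1 := Helper14.SL2_pow_of_trace_sq (p := p) x h
  have h2 : orderOf x ∣ 2 * p := orderOf_dvd_of_pow_eq_one h1
  rw [hx] at h2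
  have hcop : Nat.Coprime (2 ^ j) p :=
    Nat.Coprime.pow_left j ((Nat.coprime_primes Nat.prime_two Fact.out).mpr (Ne.symm hp2))
  have h3 : 2 ^ j ∣ 2 := hcop.dvd_of_dvd_mul_right h2
  apply hxx
  rw [← pow_two]
  exact orderOf_dvd_iff_pow_eq_one.mp (hx ▸ h3)

end cent

end Cfsg.Agent.Lib.Helper54
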