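import Mathlib
import Cfsg.Agent.Lib.Helper54.OrthLag
import Cfsg.Agent.Lib.Helper51.BlockL

/-!
The structure of `Inndiag(PΩ⁺) / Inn(PΩ⁺)`: generic quotient recognition lemmas and the
identification of the inner-diagonal group as the image of the similarities of sign one.
-/

set_option autoImplicit false
set_option linter.unusedSectionVars false

namespace Cfsg.Agent.Lib.Helper54

open Cfsg Matrix
open Cfsg.Agent.Lib.Helper51

section GenericQuot

variable {G : Type*} [Group G]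

theorem exists_hom_of_quot_equiv {V : Type*} [Group V] (N : Subgroup G) [N.Normal]
    (e : G ⧸ N ≃* V) : ∃ ψ : G →* V, Function.Surjective ψ ∧ ψ.ker = N := by
  refine ⟨e.toMonoidHom.comp (QuotientGroup.mk' N),
    e.surjective.comp (QuotientGroup.mk'_surjective N), ?_⟩
  ext x
  rw [MonoidHom.mem_ker, MonoidHom.comp_apply]
  show e (QuotientGroup.mk x) = 1 ↔ _
  rw [EmbeddingLike.map_eq_one_iff, QuotientGroup.eq_one_iff]

/-- A normal subgroup of index two is the kernel of a surjection onto `C₂`. -/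
theorem exists_hom_index_two (N : Subgroup G) [N.Normal] (h : N.index = 2) :
    ∃ ψ : G →* Multiplicative (ZMod 2), Function.Surjective ψ ∧ ψ.ker = N := by
  have hc : Nat.card (G ⧸ N) = 2 := h
  have : Fact (Nat.Prime 2) := ⟨Nat.prime_two⟩
  have : IsCyclic (G ⧸ N) := isCyclic_of_prime_card hc
  exact exists_hom_of_quot_equiv N (mulEquivOfCyclicCardEq (by rw [hc]; simp))

/-- A normal subgroup of index four with an element whose square is outside is the kernel of a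
surjection onto `C₄`. -/
theorem exists_hom_cyclic_four (N : Subgroup G) [N.Normal] (h : N.index = 4) (t : G)
    (ht : t * t ∉ N) :
    ∃ ψ : G →* Multiplicative (ZMod 4), Function.Surjective ψ ∧ ψ.ker = N := by
  have hc : Nat.card (G ⧸ N) = 4 := h
  have hfin : Finite (G ⧸ N) := Nat.finite_of_card_ne_zero (by omega)
  have hx : (QuotientGroup.mk t : G ⧸ N) * QuotientGroup.mk t ≠ 1 := by
    rw [← QuotientGroup.mk_mul]
    intro h1
    exact ht ((QuotientGroup.eq_one_iff _).mp h1)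
  have hdvd : orderOf (QuotientGroup.mk t : G ⧸ N) ∣ 2 ^ 2 := by
    have := orderOf_dvd_natCard (QuotientGroup.mk t : G ⧸ N)
    rw [hc] at this
    exact this
  have hord : orderOf (QuotientGroup.mk t : G ⧸ N) = 4 := by
    obtain ⟨k, hk, hk'⟩ := (Nat.dvd_prime_pow Nat.prime_two).mp hdvd
    interval_cases k
    · exfalso
      apply hx
      have : (QuotientGroup.mk t : G ⧸ N) = 1 := orderOf_eq_one_iff.mp (by simpa using hk')
      rw [this, one_mul]
    · exfalso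
      apply hx
      have := pow_orderOf_eq_one (QuotientGroup.mk t : G ⧸ N)
      rw [hk'] at this
      rw [← this]
      simp [pow_two]
    · simpa using hk'
  have : IsCyclic (G ⧸ N) := isCyclic_of_orderOf_eq_card _ (by rw [hord, hc])
  exact exists_hom_of_quot_equiv N (mulEquivOfCyclicCardEq (by rw [hc]; simp))

/-- A normal subgroup of index four with two distinct involutions in the quotient is the kernel
of a surjection onto the Klein four group. -/
theorem exists_hom_klein (N : Subgroup G) [N.Normal] (h : N.index = 4) (a b : G)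
    (ha : a * a ∈ N) (hb : b * b ∈ N) (ha' : a ∉ N) (hb' : b ∉ N) (hab : a⁻¹ * b ∉ N) :
    ∃ ψ : G →* Multiplicative (ZMod 2 × ZMod 2), Function.Surjective ψ ∧ ψ.ker = N := by
  classical
  have hc : Nat.card (G ⧸ N) = 4 := h
  have hfin : Finite (G ⧸ N) := Nat.finite_of_card_ne_zero (by omega)
  haveI : Fintype (G ⧸ N) := Fintype.ofFinite _
  have hc' : Fintype.card (G ⧸ N) = 4 := by rw [← Nat.card_eq_fintype_card]; exact hc
  have ha2 : (QuotientGroup.mk a : G ⧸ N) ^ 2 = 1 := by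
    rw [pow_two, ← QuotientGroup.mk_mul]
    exact (QuotientGroup.eq_one_iff _).mpr ha
  have hb2 : (QuotientGroup.mk b : G ⧸ N) ^ 2 = 1 := by
    rw [pow_two, ← QuotientGroup.mk_mul]
    exact (QuotientGroup.eq_one_iff _).mpr hb
  have ha1 : (QuotientGroup.mk a : G ⧸ N) ≠ 1 := fun h1 => ha' ((QuotientGroup.eq_one_iff _).mp h1)
  have hb1 : (QuotientGroup.mk b : G ⧸ N) ≠ 1 := fun h1 => hb' ((QuotientGroup.eq_one_iff _).mp h1)
  have hab1 : (QuotientGroup.mk a : G ⧸ N) ≠ QuotientGroup.mk b :=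
    fun h1 => hab (QuotientGroup.eq.mp h1)
  have hncyc : ¬ IsCyclic (G ⧸ N) := by
    intro hcyc
    have h1 := IsCyclic.card_pow_eq_one_le (α := G ⧸ N) (n := 2) (by norm_num)
    have h2 : ({1, QuotientGroup.mk a, QuotientGroup.mk b} : Finset (G ⧸ N)) ⊆
        Finset.univ.filter (fun x : G ⧸ N => x ^ 2 = 1) := by
      intro x hx
      simp only [Finset.mem_insert, Finset.mem_singleton] at hx
      rw [Finset.mem_filter]
      refine ⟨Finset.mem_univ _, ?_⟩
      rcases hx with rfl | rfl | rfl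
      · exact one_pow 2
      · exact ha2
      · exact hb2
    have h3 : ({1, QuotientGroup.mk a, QuotientGroup.mk b} : Finset (G ⧸ N)).card = 3 := by
      rw [Finset.card_insert_of_notMem, Finset.card_insert_of_notMem, Finset.card_singleton]
      · simpa using hab1
      · simp only [Finset.mem_insert, Finset.mem_singleton, not_or]
        exact ⟨Ne.symm ha1, Ne.symm hb1⟩
    have h4 := Finset.card_le_card h2
    omega
  have hexp : ∀ x : G ⧸ N, x ^ 2 = 1 := by
    intro x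
    by_contra hx
    apply hncyc
    have hdvd : orderOf x ∣ 2 ^ 2 := by
      have := orderOf_dvd_natCard x
      rw [hc] at this
      exact this
    obtain ⟨k, hk, hk'⟩ := (Nat.dvd_prime_pow Nat.prime_two).mp hdvd
    interval_cases k
    · exfalso
      apply hx
      have : x = 1 := orderOf_eq_one_iff.mp (by simpa using hk')
      rw [this, one_pow]
    · exfalso
      apply hx
      have := pow_orderOf_eq_one x
      rw [hk'] at this
      simpa using this
    · exact isCyclic_of_orderOf_eq_card x (by rw [hk', hc]; norm_num)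
  have : IsKleinFour (G ⧸ N) := by
    refine ⟨hc, ?_⟩
    have h1 : Monoid.exponent (G ⧸ N) ∣ 2 := Monoid.exponent_dvd_iff_forall_pow_eq_one.mpr hexp
    rcases (Nat.dvd_prime Nat.prime_two).mp h1 with h2 | h2
    · exfalso
      have := Monoid.exp_eq_one_iff.mp h2
      exact ha1 (Subsingleton.elim _ _)
    · exact h2
  obtain ⟨e⟩ := IsKleinFour.nonempty_mulEquiv (G₁ := G ⧸ N) (G₂ := Multiplicative (ZMod 2 × ZMod 2))
  exact exists_hom_of_quot_equiv N e

/-- Descent of a surjection from a subgroup `K` along `Φ`. -/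
theorem exists_hom_of_ker' {M V : Type*} [Group M] [Group V] (Φ : G →* M)
    (K S : Subgroup G) (hSK : S ≤ K) (hker : Φ.ker ≤ K) (ψ : ↥K →* V)
    (hψ : Function.Surjective ψ) (hψk : ψ.ker = (S ⊔ Φ.ker).subgroupOf K) :
    ∃ φ : ↥(K.map Φ) →* V, Function.Surjective φ ∧
      φ.ker = (S.map Φ).subgroupOf (K.map Φ) := by
  have hr : (Φ.comp K.subtype).range = K.map Φ := by
    rw [MonoidHom.range_comp, Subgroup.range_subtype]
  have hS : (S.subgroupOf K).map (Φ.comp K.subtype) = S.map Φ := by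
    rw [← Subgroup.map_map, Subgroup.map_subgroupOf_eq_of_le hSK]
  have hk : ψ.ker = S.subgroupOf K ⊔ (Φ.comp K.subtype).ker := by
    rw [hψk, Subgroup.subgroupOf_sup hSK hker]
    rfl
  have := exists_hom_of_ker (Φ.comp K.subtype) ψ hψ (S.subgroupOf K) hk
  rw [hr, hS] at this
  exact this

end GenericQuot

section SgnKer

variable {ι : Type} [Fintype ι] [DecidableEq ι] {F : Type*} [Field F] [Fintype F]
variable (Q : QuadraticForm F (ι → F))

theorem simAut_ker_le_sgnKer (hv : ∃ v, Q v ≠ 0) (m : ℕ) (hm : Fintype.card ι = 2 * m)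
    (hker : ∀ g : ↥(Geo.quadSimilarityGroup (F := F) ⇑Q), simAut ⇑Q g = 1 →
      ∃ α : F, ((g : GL ι F) : Matrix ι ι F) = α • 1) :
    (simAut ⇑Q).ker ≤ (simSgn Q hv m).ker := by
  intro g hg
  obtain ⟨α, hα⟩ := hker g (MonoidHom.mem_ker.mp hg)
  exact MonoidHom.mem_ker.mpr (simSgn_of_scalar Q hv m hm g α hα)

theorem omega_le_sgnKer (hv : ∃ v, Q v ≠ 0) (m : ℕ) :
    (omegaGL ⇑Q).subgroupOf (Geo.quadSimilarityGroup (F := F) ⇑Q) ≤ (simSgn Q hv m).ker := by
  intro g hg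
  obtain ⟨s, rfl, hs⟩ := (mem_omega_sub_iff Q g).mp hg
  rw [MonoidHom.mem_ker, simSgn_isoSim]
  exact detO_of_mem_commutator Q s hs

theorem index_sgnKer (hF : ringChar F ≠ 2) (hQ : PolarSep Q) (hv : ∃ v, Q v ≠ 0) (m : ℕ)
    (hm : Fintype.card ι = 2 * m) : (simSgn Q hv m).ker.index = 2 := by
  obtain ⟨v₀, hv₀⟩ := hv
  have hv' : ∃ v, Q v ≠ 0 := ⟨v₀, hv₀⟩
  rw [Subgroup.index_eq_two_iff]
  have ha : simSgn Q hv' m (isoSim Q (refl Q v₀ hv₀)) = -1 := by
    rw [simSgn_isoSim, detO_refl]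
  refine ⟨isoSim Q (refl Q v₀ hv₀), fun b => ?_⟩
  rw [MonoidHom.mem_ker, MonoidHom.mem_ker, map_mul, ha]
  rcases simSgn_cases Q hQ hv' m hm b with h1 | h1
  · right
    rw [h1]
    exact ⟨rfl, by rw [one_mul]; exact units_neg_one_ne_one hF⟩
  · left
    rw [h1]
    exact ⟨by simp, units_neg_one_ne_one hF⟩

/-- The index of `Inn` in `pgoAut` from the index in `psoAut`. -/
theorem relIndex_inn_pgo
    (h4 : ∃ φ : ↥(pgoAut F ⇑Q) →* Multiplicative (ZMod 2 × ZMod 2), Function.Surjective φ ∧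
      φ.ker = (psoAut F ⇑Q).subgroupOf (pgoAut F ⇑Q)) :
    (Inn (POmega F ⇑Q)).relIndex (pgoAut F ⇑Q) =
      (Inn (POmega F ⇑Q)).relIndex (psoAut F ⇑Q) * 4 := by
  obtain ⟨φ, hφ, hφk⟩ := h4
  have h4' : (psoAut F ⇑Q).relIndex (pgoAut F ⇑Q) = 4 := by
    show ((psoAut F ⇑Q).subgroupOf (pgoAut F ⇑Q)).index = 4
    rw [← hφk, Subgroup.index_ker, MonoidHom.range_eq_top.mpr hφ, Subgroup.card_top,
      Nat.card_eq_fintype_card]
    rfl
  rw [← Subgroup.relIndex_mul_relIndex _ _ _ (inn_le_pso Q) (pso_le_pgo Q), h4']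

theorem index_join_eq :
    ((omegaGL ⇑Q).subgroupOf (Geo.quadSimilarityGroup (F := F) ⇑Q) ⊔ (simAut ⇑Q).ker).index =
      (Inn (POmega F ⇑Q)).relIndex (pgoAut F ⇑Q) := by
  rw [← Subgroup.comap_map_eq, ← inn_eq, Subgroup.index_comap, ← pgoAut_eq]

theorem join_normal :
    ((omegaGL ⇑Q).subgroupOf (Geo.quadSimilarityGroup (F := F) ⇑Q) ⊔ (simAut ⇑Q).ker).Normal := by
  rw [← Subgroup.comap_map_eq, ← inn_eq]
  exact Subgroup.Normal.comap (innNormal _) _

/-- Elements of `Ω · ker` have square multiplier. -/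
theorem isSquare_simMul_of_mem_join (hv : ∃ v, Q v ≠ 0)
    (hker : ∀ g : ↥(Geo.quadSimilarityGroup (F := F) ⇑Q), simAut ⇑Q g = 1 →
      ∃ α : F, ((g : GL ι F) : Matrix ι ι F) = α • 1)
    (g : ↥(Geo.quadSimilarityGroup (F := F) ⇑Q))
    (hg : g ∈ (omegaGL ⇑Q).subgroupOf (Geo.quadSimilarityGroup (F := F) ⇑Q) ⊔ (simAut ⇑Q).ker) :
    IsSquare (simMul Q hv g) := by
  obtain ⟨y, hy, z, hz, rfl⟩ := Subgroup.mem_sup_of_normal_right.mp hg
  obtain ⟨s, rfl, -⟩ := (mem_omega_sub_iff Q y).mp hy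
  obtain ⟨α, hα⟩ := hker z (MonoidHom.mem_ker.mp hz)
  have hα0 : α ≠ 0 := by
    intro h0
    have h1 := simMul_of_scalar Q hv z α hα
    rw [h0, mul_zero] at h1
    exact (simMul Q hv z).ne_zero h1
  rw [map_mul, simMul_isoSim, one_mul]
  refine ⟨Units.mk0 α hα0, ?_⟩
  apply Units.ext
  rw [simMul_of_scalar Q hv z α hα]
  rfl

/-- The index of `Ω · ker` in the similarities of sign one. -/
theorem relIndex_join_sgnKer (hF : ringChar F ≠ 2) (hQ : PolarSep Q) (hv : ∃ v, Q v ≠ 0) (m : ℕ)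
    (hm : Fintype.card ι = 2 * m)
    (hker : ∀ g : ↥(Geo.quadSimilarityGroup (F := F) ⇑Q), simAut ⇑Q g = 1 →
      ∃ α : F, ((g : GL ι F) : Matrix ι ι F) = α • 1) :
    (((omegaGL ⇑Q).subgroupOf (Geo.quadSimilarityGroup (F := F) ⇑Q) ⊔ (simAut ⇑Q).ker).subgroupOf
      (simSgn Q hv m).ker).index * 2 = (Inn (POmega F ⇑Q)).relIndex (pgoAut F ⇑Q) := by
  have hle : (omegaGL ⇑Q).subgroupOf (Geo.quadSimilarityGroup (F := F) ⇑Q) ⊔ (simAut ⇑Q).ker ≤
      (simSgn Q hv m).ker :=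
    sup_le (omega_le_sgnKer Q hv m) (simAut_ker_le_sgnKer Q hv m hm hker)
  have h1 := Subgroup.relIndex_mul_index hle
  rw [index_sgnKer Q hF hQ hv m hm, index_join_eq] at h1
  exact h1

end SgnKer

section Structure

variable {ι : Type} [Fintype ι] [DecidableEq ι] {F : Type*} [Field F] [Fintype F]
variable (Q : QuadraticForm F (ι → F))

/-- The cyclic case of order two. -/
theorem inndiag_c2 (hF : ringChar F ≠ 2) (hQ : PolarSep Q) (hv : ∃ v, Q v ≠ 0) (m : ℕ)
    (hm : Fintype.card ι = 2 * m)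
    (hker : ∀ g : ↥(Geo.quadSimilarityGroup (F := F) ⇑Q), simAut ⇑Q g = 1 →
      ∃ α : F, ((g : GL ι F) : Matrix ι ι F) = α • 1)
    (hidx : (Inn (POmega F ⇑Q)).relIndex (pgoAut F ⇑Q) = 4) :
    ∃ φ : ↥((simSgn Q hv m).ker.map (simAut ⇑Q)) →* Multiplicative (ZMod 2),
      Function.Surjective φ ∧ φ.ker =
        (((omegaGL ⇑Q).subgroupOf (Geo.quadSimilarityGroup (F := F) ⇑Q)).map (simAut ⇑Q)).subgroupOf
          ((simSgn Q hv m).ker.map (simAut ⇑Q)) := by
  have hn := join_normal Q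
  have hi := relIndex_join_sgnKer Q hF hQ hv m hm hker
  rw [hidx] at hi
  obtain ⟨ψ, hψ, hψk⟩ := exists_hom_index_two
    (((omegaGL ⇑Q).subgroupOf (Geo.quadSimilarityGroup (F := F) ⇑Q) ⊔ (simAut ⇑Q).ker).subgroupOf
      (simSgn Q hv m).ker) (by omega)
  exact exists_hom_of_ker' (simAut ⇑Q) _ _ (omega_le_sgnKer Q hv m)
    (simAut_ker_le_sgnKer Q hv m hm hker) ψ hψ hψk

/-- The cyclic case of order four. -/
theorem inndiag_c4 (hF : ringChar F ≠ 2) (hQ : PolarSep Q) (hv : ∃ v, Q v ≠ 0) (m : ℕ)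
    (hm : Fintype.card ι = 2 * m)
    (hker : ∀ g : ↥(Geo.quadSimilarityGroup (F := F) ⇑Q), simAut ⇑Q g = 1 →
      ∃ α : F, ((g : GL ι F) : Matrix ι ι F) = α • 1)
    (hidx : (Inn (POmega F ⇑Q)).relIndex (pgoAut F ⇑Q) = 8)
    (hneg : negO Q ∈ commutator ↥(isometryGroup F ⇑Q))
    (t : ↥(Geo.quadSimilarityGroup (F := F) ⇑Q)) (htK : simSgn Q hv m t = 1) (u : Fˣ)
    (P : ↥(isometryGroup F ⇑Q)) (htt : t * t = scalarSim Q u * isoSim Q P)
    (hP : P ∉ commutator ↥(isometryGroup F ⇑Q)) :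
    ∃ φ : ↥((simSgn Q hv m).ker.map (simAut ⇑Q)) →* Multiplicative (ZMod 4),
      Function.Surjective φ ∧ φ.ker =
        (((omegaGL ⇑Q).subgroupOf (Geo.quadSimilarityGroup (F := F) ⇑Q)).map (simAut ⇑Q)).subgroupOf
          ((simSgn Q hv m).ker.map (simAut ⇑Q)) := by
  have hn := join_normal Q
  have hi := relIndex_join_sgnKer Q hF hQ hv m hm hker
  rw [hidx] at hi
  have hz : scalarSim Q u ∈ (omegaGL ⇑Q).subgroupOf (Geo.quadSimilarityGroup (F := F) ⇑Q) ⊔
      (simAut ⇑Q).ker :=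
    Subgroup.mem_sup_right (MonoidHom.mem_ker.mpr (simAut_of_scalar Q _ (u : F) (coe_scalarSim Q u)))
  obtain ⟨ψ, hψ, hψk⟩ := exists_hom_cyclic_four
    (((omegaGL ⇑Q).subgroupOf (Geo.quadSimilarityGroup (F := F) ⇑Q) ⊔ (simAut ⇑Q).ker).subgroupOf
      (simSgn Q hv m).ker) (by omega) ⟨t, MonoidHom.mem_ker.mpr htK⟩ (by
      rw [Subgroup.mem_subgroupOf]
      show ¬ (t * t ∈ _)
      rw [htt, Subgroup.mul_mem_cancel_left _ hz, iso_mem_join_iff Q hv hker hneg]
      exact hP)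
  exact exists_hom_of_ker' (simAut ⇑Q) _ _ (omega_le_sgnKer Q hv m)
    (simAut_ker_le_sgnKer Q hv m hm hker) ψ hψ hψk

/-- The Klein four case. -/
theorem inndiag_v4 (hF : ringChar F ≠ 2) (hQ : PolarSep Q) (hv : ∃ v, Q v ≠ 0) (m : ℕ)
    (hm : Fintype.card ι = 2 * m)
    (hker : ∀ g : ↥(Geo.quadSimilarityGroup (F := F) ⇑Q), simAut ⇑Q g = 1 →
      ∃ α : F, ((g : GL ι F) : Matrix ι ι F) = α • 1)
    (hidx : (Inn (POmega F ⇑Q)).relIndex (pgoAut F ⇑Q) = 8)
    (hneg : negO Q ∈ commutator ↥(isometryGroup F ⇑Q))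
    (hex : ∃ v w : ι → F, Q v ≠ 0 ∧ IsSquare (Q v) ∧ ¬ IsSquare (Q w))
    (t : ↥(Geo.quadSimilarityGroup (F := F) ⇑Q)) (htK : simSgn Q hv m t = 1)
    (htsq : ¬ IsSquare (simMul Q hv t)) (u : Fˣ)
    (P : ↥(isometryGroup F ⇑Q)) (htt : t * t = scalarSim Q u * isoSim Q P)
    (hP : P ∈ commutator ↥(isometryGroup F ⇑Q)) :
    ∃ φ : ↥((simSgn Q hv m).ker.map (simAut ⇑Q)) →* Multiplicative (ZMod 2 × ZMod 2),
      Function.Surjective φ ∧ φ.ker =
        (((omegaGL ⇑Q).subgroupOf (Geo.quadSimilarityGroup (F := F) ⇑Q)).map (simAut ⇑Q)).subgroupOf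
          ((simSgn Q hv m).ker.map (simAut ⇑Q)) := by
  have hn := join_normal Q
  have hi := relIndex_join_sgnKer Q hF hQ hv m hm hker
  rw [hidx] at hi
  have hz : scalarSim Q u ∈ (omegaGL ⇑Q).subgroupOf (Geo.quadSimilarityGroup (F := F) ⇑Q) ⊔
      (simAut ⇑Q).ker :=
    Subgroup.mem_sup_right (MonoidHom.mem_ker.mpr (simAut_of_scalar Q _ (u : F) (coe_scalarSim Q u)))
  obtain ⟨v, w, hv0, hsv, hsw⟩ := hex
  have hw0 : Q w ≠ 0 := by
    intro h0
    apply hsw
    rw [h0]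
    exact ⟨0, by simp⟩
  obtain ⟨hd0, hn0⟩ := exists_special_not_commutator Q hF v w hv0 hw0 hsv hsw
  obtain ⟨ψ, hψ, hψk⟩ := exists_hom_klein
    (((omegaGL ⇑Q).subgroupOf (Geo.quadSimilarityGroup (F := F) ⇑Q) ⊔ (simAut ⇑Q).ker).subgroupOf
      (simSgn Q hv m).ker) (by omega) ⟨t, MonoidHom.mem_ker.mpr htK⟩
    ⟨isoSim Q (refl Q v hv0 * refl Q w hw0), MonoidHom.mem_ker.mpr (by
      rw [simSgn_isoSim]; exact hd0)⟩
    (by
      rw [Subgroup.mem_subgroupOf]
      show t * t ∈ _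
      rw [htt, Subgroup.mul_mem_cancel_left _ hz, iso_mem_join_iff Q hv hker hneg]
      exact hP)
    (by
      rw [Subgroup.mem_subgroupOf]
      show isoSim Q (refl Q v hv0 * refl Q w hw0) * isoSim Q (refl Q v hv0 * refl Q w hw0) ∈ _
      rw [← isoSim_mul, iso_mem_join_iff Q hv hker hneg]
      exact mul_mem_commutator Q hF hQ _ _ hd0 hd0 hn0 hn0)
    (by
      rw [Subgroup.mem_subgroupOf]
      intro hmem
      exact htsq (isSquare_simMul_of_mem_join Q hv hker t hmem))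
    (by
      rw [Subgroup.mem_subgroupOf]
      show ¬ (isoSim Q (refl Q v hv0 * refl Q w hw0) ∈ _)
      rw [iso_mem_join_iff Q hv hker hneg]
      exact hn0)
    (by
      rw [Subgroup.mem_subgroupOf]
      intro hmem
      have h1 : IsSquare (simMul Q hv (t⁻¹ * isoSim Q (refl Q v hv0 * refl Q w hw0))) :=
        isSquare_simMul_of_mem_join Q hv hker _ hmem
      apply htsq
      have h2 : simMul Q hv t = (simMul Q hv (t⁻¹ * isoSim Q (refl Q v hv0 * refl Q w hw0)))⁻¹ := by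
        rw [map_mul, map_inv, simMul_isoSim, mul_one, inv_inv]
      rw [h2]
      obtain ⟨r, hr⟩ := h1
      exact ⟨r⁻¹, by rw [hr, mul_inv]⟩)
  exact exists_hom_of_ker' (simAut ⇑Q) _ _ (omega_le_sgnKer Q hv m)
    (simAut_ker_le_sgnKer Q hv m hm hker) ψ hψ hψk

end Structure

section PlusFinal

variable {F : Type*} [Field F] [Fintype F] {m : ℕ}

/-- `Inndiag(PΩ⁺)` is the image of the similarities of sign one. -/
theorem inndiagPlus_eq (hF : ringChar F ≠ 2) (hm : 1 ≤ m) :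
    autSubgroupOf (fun β : POmega F ⇑(QPlus m F) ≃* POmega F ⇑(QPlus m F) =>
      ∃ g : GL (Fin m ⊕ Fin m) F, g ∈ Geo.quadSimilarityGroup (F := F) ⇑(QPlus m F) ∧
        PreservesSingularClasses ⇑(QPlus m F)
          (g : Matrix (Fin m ⊕ Fin m) (Fin m ⊕ Fin m) F) ∧
        IsInducedBySemilinearPOmega ⇑(QPlus m F) g (RingEquiv.refl F) β) =
    ((simSgn (QPlus m F) (hv_plus hm) m).ker).map (simAut ⇑(QPlus m F)) := by
  have hpred : (fun β : POmega F ⇑(QPlus m F) ≃* POmega F ⇑(QPlus m F) =>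
      ∃ g : GL (Fin m ⊕ Fin m) F, g ∈ Geo.quadSimilarityGroup (F := F) ⇑(QPlus m F) ∧
        PreservesSingularClasses ⇑(QPlus m F)
          (g : Matrix (Fin m ⊕ Fin m) (Fin m ⊕ Fin m) F) ∧
        IsInducedBySemilinearPOmega ⇑(QPlus m F) g (RingEquiv.refl F) β) =
      (fun β => ∃ g : GL (Fin m ⊕ Fin m) F,
        g ∈ ((simSgn (QPlus m F) (hv_plus hm) m).ker).map
          (Geo.quadSimilarityGroup (F := F) ⇑(QPlus m F)).subtype ∧
        IsInducedBySemilinearPOmega ⇑(QPlus m F) g (RingEquiv.refl F) β) := by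
    funext β
    apply propext
    constructor
    · rintro ⟨g, hg, hp, hi⟩
      exact ⟨g, ⟨⟨g, hg⟩, MonoidHom.mem_ker.mpr ((preserves_iff_plus hF hm ⟨g, hg⟩).mp hp), rfl⟩,
        hi⟩
    · rintro ⟨g, ⟨g', hg', rfl⟩, hi⟩
      exact ⟨g', g'.2, (preserves_iff_plus hF hm g').mpr (MonoidHom.mem_ker.mp hg'), hi⟩
  rw [hpred, autSubgroupOf_eq _ _ (by rintro _ ⟨g', -, rfl⟩; exact g'.2)]
  congr 1
  ext x
  rw [Subgroup.mem_subgroupOf, Subgroup.mem_map]
  constructor
  · rintro ⟨y, hy, hxy⟩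
    have : y = x := Subtype.ext hxy
    rw [← this]
    exact hy
  · intro hx
    exact ⟨x, hx, rfl⟩

/-- The similarity `diag(u, …, u, 1, …, 1)`. -/
noncomputable def plusScale (m : ℕ) (u : Fˣ) :
    ↥(Geo.quadSimilarityGroup (F := F) ⇑(QPlus m F)) :=
  simOfMatrix (QPlus m F) polarSep_plus _ (u : F) u.ne_zero (plus_scale_sim (u : F))

theorem coe_plusScale (u : Fˣ) :
    (((plusScale m u : ↥(Geo.quadSimilarityGroup (F := F) ⇑(QPlus m F))) :
      GL (Fin m ⊕ Fin m) F) : Matrix (Fin m ⊕ Fin m) (Fin m ⊕ Fin m) F) =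
      diagonal (Sum.elim (fun _ => (u : F)) (fun _ => 1)) := rfl

theorem simMul_plusScale (hm : 1 ≤ m) (u : Fˣ) :
    simMul (QPlus m F) (hv_plus hm) (plusScale m u) = u := by
  apply Units.ext
  exact simMul_simOfMatrix (QPlus m F) polarSep_plus (hv_plus hm) _ (u : F) u.ne_zero
    (plus_scale_sim (u : F))

theorem simSgn_plusScale (hm : 1 ≤ m) (u : Fˣ) :
    simSgn (QPlus m F) (hv_plus hm) m (plusScale m u) = 1 := by
  rw [simSgn_apply, simMul_plusScale hm, mul_inv_eq_one]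
  apply Units.ext
  rw [Matrix.GeneralLinearGroup.val_det_apply, coe_plusScale, det_diagonal,
    Fintype.prod_sum_type, Units.val_pow_eq_pow_val]
  simp

theorem plusScale_sq (u : Fˣ) :
    plusScale m u * plusScale m u =
      scalarSim (QPlus m F) u * isoSim (QPlus m F) (Lhom (diagGL (fun _ : Fin m => u))) := by
  apply Subtype.ext
  apply Units.ext
  show diagonal (Sum.elim (fun _ => (u : F)) (fun _ => 1)) *
      diagonal (Sum.elim (fun _ => (u : F)) (fun _ => 1)) =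
    ((u : F) • (1 : Matrix (Fin m ⊕ Fin m) (Fin m ⊕ Fin m) F)) *
      fromBlocks (diagonal (fun _ : Fin m => (u : F))) 0 0
        ((diagonal (fun _ : Fin m => (u : F)))⁻¹)ᵀ
  have hinv : (diagonal (fun _ : Fin m => (u : F)))⁻¹ = diagonal (fun _ : Fin m => (u : F)⁻¹) := by
    apply Matrix.inv_eq_right_inv
    rw [diagonal_mul_diagonal, ← diagonal_one]
    congr 1
    funext k
    exact mul_inv_cancel₀ u.ne_zero
  rw [hinv, diagonal_transpose, fromBlocks_diagonal, diagonal_mul_diagonal, Matrix.smul_mul,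
    Matrix.one_mul, ← diagonal_smul]
  congr 1
  funext k
  rcases k with k | k
  · simp
  · simp

theorem spinChar_Lhom_diag (hm : 1 ≤ m) (u : Fˣ) :
    spinChar (QPlus m F) 1 (Lhom (diagGL (fun _ : Fin m => u))) =
      spinChar (QPlus m F) 1 (refl (QPlus m F)
        (Pi.single (Sum.inl ⟨0, hm⟩) 1 - Pi.single (Sum.inr ⟨0, hm⟩) 1)
        (hypPlus m F ⟨0, hm⟩).Q_minus_ne) *
      spinChar (QPlus m F) 1 (refl (QPlus m F)
        (Pi.single (Sum.inl ⟨0, hm⟩) 1 - ((u ^ m : Fˣ) : F) • Pi.single (Sum.inr ⟨0, hm⟩) 1)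
        ((hypPlus m F ⟨0, hm⟩).Q_scale_ne _ (u ^ m).ne_zero)) := by
  have h := hom_diagGL ((spinChar (QPlus m F) 1).comp Lhom) (⟨0, hm⟩ : Fin m) (fun _ => u)
  rw [MonoidHom.comp_apply, MonoidHom.comp_apply, Finset.prod_const, Finset.card_univ,
    Fintype.card_fin, Lhom_dGL, map_mul] at h
  exact h

end PlusFinal

end Cfsg.Agent.Lib.Helper54
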