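import Mathlib
import Cfsg.Agent.Lib.Helper54.DkMax

set_option autoImplicit false

namespace Cfsg.Agent.Lib.Helper54

open Matrix Cfsg.Agent.S0809 Cfsg.Agent.Lib.Helper19.Dk

section Perm

theorem dkm_s4_sq : ¬ ∀ x y : Equiv.Perm (Fin 4), (x * x) * (y * y) = (y * y) * (x * x) := by
  intro h
  exact absurd (h c[0, 1, 2] c[0, 1, 3]) (by decide)

theorem dkm_s4_comm : ¬ ∀ x y : Equiv.Perm (Fin 4), x * y = y * x := by
  intro h
  exact absurd (h c[0, 1, 2] c[0, 1, 3]) (by decide)

theorem dkm_a4_sq :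
    ¬ ∀ x y : alternatingGroup (Fin 4), (x * x) * (y * y) = (y * y) * (x * x) := by
  intro h
  have h1 := congrArg Subtype.val (h ⟨c[0, 1, 2], Equiv.Perm.mem_alternatingGroup.2 (by decide)⟩
    ⟨c[0, 1, 3], Equiv.Perm.mem_alternatingGroup.2 (by decide)⟩)
  exact absurd h1 (by decide)

theorem dkm_a4_comm : ¬ ∀ x y : alternatingGroup (Fin 4), x * y = y * x := by
  intro h
  have h1 := congrArg Subtype.val (h ⟨c[0, 1, 2], Equiv.Perm.mem_alternatingGroup.2 (by decide)⟩
    ⟨c[0, 1, 3], Equiv.Perm.mem_alternatingGroup.2 (by decide)⟩)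
  exact absurd h1 (by decide)

theorem dkm_a5_sq :
    ¬ ∀ x y : alternatingGroup (Fin 5), (x * x) * (y * y) = (y * y) * (x * x) := by
  intro h
  have h1 := congrArg Subtype.val (h ⟨c[0, 1, 2], Equiv.Perm.mem_alternatingGroup.2 (by decide)⟩
    ⟨c[0, 1, 3], Equiv.Perm.mem_alternatingGroup.2 (by decide)⟩)
  exact absurd h1 (by decide)

theorem dkm_a5_comm : ¬ ∀ x y : alternatingGroup (Fin 5), x * y = y * x := by
  intro h
  have h1 := congrArg Subtype.val (h ⟨c[0, 1, 2], Equiv.Perm.mem_alternatingGroup.2 (by decide)⟩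
    ⟨c[0, 1, 3], Equiv.Perm.mem_alternatingGroup.2 (by decide)⟩)
  exact absurd h1 (by decide)

theorem dkm_card_s4 : Nat.card (Equiv.Perm (Fin 4)) = 24 := by
  rw [Nat.card_eq_fintype_card, Fintype.card_perm]
  rfl

theorem dkm_card_a4 : Nat.card (alternatingGroup (Fin 4)) = 12 := by
  have h := two_mul_card_alternatingGroup (α := Fin 4)
  rw [Fintype.card_perm] at h
  rw [Nat.card_eq_fintype_card]
  have : (Fintype.card (Fin 4)).factorial = 24 := rfl
  omega

theorem dkm_card_a5 : Nat.card (alternatingGroup (Fin 5)) = 60 := by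
  have h := two_mul_card_alternatingGroup (α := Fin 5)
  rw [Fintype.card_perm] at h
  rw [Nat.card_eq_fintype_card]
  have : (Fintype.card (Fin 5)).factorial = 120 := rfl
  omega

end Perm

section Card

variable {F : Type*} [Field F] [Fintype F]

theorem dkm_card_P2_odd (h2 : (2 : F) ≠ 0) (p : ℕ) [Fact p.Prime] [CharP F p] :
    2 * Nat.card (P2 F) = Fintype.card F * (Fintype.card F ^ 2 - 1) := by
  have hP := card_P2 (F := F)
  rw [← z_gcd (F := F) p, center_card_two h2] at hP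
  exact hP

omit [Fintype F] in
theorem dkm_two_ne_zero (p : ℕ) [Fact p.Prime] [CharP F p] (hp : p ≠ 2) : (2 : F) ≠ 0 := by
  intro h
  have h1 : ((2 : ℕ) : F) = 0 := by exact_mod_cast h
  have h2 : p ∣ 2 := (CharP.cast_eq_zero_iff F p 2).1 h1
  exact hp ((Nat.prime_dvd_prime_iff_eq (Fact.out : p.Prime) Nat.prime_two).1 h2)

end Card

end Cfsg.Agent.Lib.Helper54
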