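import Mathlib
import Cfsg.Agent.Lib.Helper54.DkMaxPerm

set_option autoImplicit false
set_option linter.unusedSimpArgs false

namespace Cfsg.Agent.Lib.Helper54

open Matrix Cfsg.Agent.S0809 Cfsg.Agent.Lib.Helper19.Dk

section Cases2

variable {F : Type*} [Field F]

/-- In the last case of Dickson's list the order `q'` of the unipotent part is the order of a
subfield, so `|F|` is a power of `q'`. -/
theorem dkm_unip_pow [Fintype F] (p : ℕ) [Fact p.Prime] [CharP F p] (L : Subgroup (S2 F))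
    (hZ : Subgroup.center (S2 F) ≤ L) (x₀ : S2 F) (hx₀ : x₀ ∈ L) (hsc : ¬ IsSc x₀)
    (h4 : tr x₀ ^ 2 = 4) (q' k : ℕ) (hq : 1 ≤ q') (hk : 1 ≤ k)
    (hcA : cA L x₀ = Nat.card (Subgroup.center (S2 F)) * q')
    (hcN : cN L x₀ = Nat.card (Subgroup.center (S2 F)) * k * q')
    (hcard : Nat.card L = Nat.card (Subgroup.center (S2 F)) * k * q' * (1 + q')) :
    ∃ m : ℕ, q' ^ m = Fintype.card F := by
  classical
  obtain ⟨θ, hNF, -⟩ := exists_nf L hZ x₀ hx₀ hsc h4 q' k hq hk hcA hcN hcard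
  obtain ⟨Kf, hKf⟩ := exists_subfield p hNF
  haveI : Fintype Kf := Fintype.ofFinite _
  have hKfcard : Fintype.card Kf = q' := by
    rw [← Nat.card_eq_fintype_card, ← hNF.hB]
    exact Nat.card_congr (Equiv.subtypeEquivRight hKf)
  refine ⟨Module.finrank Kf F, ?_⟩
  rw [← hKfcard]
  exact (Module.card_eq_pow_finrank (K := Kf) (V := F)).symm

/-- A coarse form of Dickson's list for a subgroup `L` of `PSL₂(F)`, with the subfield
information in the last case. -/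
theorem dkm_cases2 [Fintype F] (p : ℕ) [Fact p.Prime] [CharP F p] (L : Subgroup (P2 F)) :
    (∀ a ∈ L, ∀ b ∈ L, (a * a) * (b * b) = (b * b) * (a * a)) ∨
    ((∀ a ∈ L, ∀ b ∈ L, (a * b * a⁻¹ * b⁻¹) ^ p = 1) ∧
      (∀ a ∈ L, ∀ b ∈ L, ∀ c ∈ L, ∀ d ∈ L, (a * b * a⁻¹ * b⁻¹) * (c * d * c⁻¹ * d⁻¹)
        = (c * d * c⁻¹ * d⁻¹) * (a * b * a⁻¹ * b⁻¹))) ∨
    Nat.card L = 12 ∨ Nat.card L = 24 ∨ Nat.card L = 60 ∨
    (∃ q' k m : ℕ, 3 ≤ q' ∧ q' ^ m = Fintype.card F ∧ Nat.card L = k * q' * (1 + q') ∧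
      (k = q' - 1 ∨ 2 * k = q' - 1)) := by
  have hout := main_cases p (Lof L) (center_le_Lof L)
  have hz : 0 < Nat.card (Subgroup.center (S2 F)) := Nat.card_pos
  have hcard := card_Lof L
  unfold Outcome at hout
  rcases hout with h | ⟨x, hx, hss, hall⟩ | ⟨x, hx, hss, hcard'⟩ | ⟨g, hg⟩ |
    ⟨hc, -⟩ | ⟨hc, -⟩ | ⟨hc, -⟩ |
    ⟨x₀, hx₀, hsc, h4, q', k, hq3, hcA, hcN, hc, hk⟩
  · left
    obtain ⟨-, h1⟩ := out_triv L h
    have hbot := Subgroup.eq_bot_of_card_eq L h1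
    intro a ha b hb
    rw [hbot, Subgroup.mem_bot] at ha hb
    rw [ha, hb]
  · left
    intro a ha b hb
    have c : Commute a b := dkm_comm L x hss hall a b ha hb
    exact ((c.mul_left c).mul_right (c.mul_left c)).eq
  · left
    exact fun a ha b hb => dkm_sq_comm L x hss hcard' a b ha hb
  · right; left
    exact ⟨fun a ha b hb => dkm_bor_pow p L g hg a b ha hb,
      fun a ha b hb c hc d hd => dkm_bor_cc L g hg a b c d ha hb hc hd⟩
  · right; right; left
    rw [hcard] at hc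
    exact Nat.eq_of_mul_eq_mul_left hz (by rw [hc]; ring)
  · right; right; right; left
    rw [hcard] at hc
    exact Nat.eq_of_mul_eq_mul_left hz (by rw [hc]; ring)
  · right; right; right; right; left
    rw [hcard] at hc
    exact Nat.eq_of_mul_eq_mul_left hz (by rw [hc]; ring)
  · right; right; right; right; right
    obtain ⟨m, hm⟩ := dkm_unip_pow p (Lof L) (center_le_Lof L) x₀ hx₀ hsc h4 q' k (by omega)
      (by omega) hcA hcN hc
    refine ⟨q', k, m, hq3, hm, ?_, hk⟩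
    rw [hcard] at hc
    exact Nat.eq_of_mul_eq_mul_left hz (by rw [hc]; ring)

end Cases2

section Arith

/-- `x^(2a) - 1 ∣ 2 (x^(2b) - 1)` forces `a ∣ b`. -/
theorem dkm_pow_dvd (x a b : ℕ) (hx : 2 ≤ x) (ha : 1 ≤ a)
    (h : x ^ (2 * a) - 1 ∣ 2 * (x ^ (2 * b) - 1)) : a ∣ b := by
  by_contra hab
  obtain ⟨s, hs⟩ : ∃ s, s = b % a := ⟨_, rfl⟩
  obtain ⟨c, hc⟩ : ∃ c, c = b / a := ⟨_, rfl⟩
  have hs1 : 1 ≤ s := by
    rcases Nat.eq_zero_or_pos s with h0 | h0
    · rw [hs] at h0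
      exact absurd (Nat.dvd_of_mod_eq_zero h0) hab
    · exact h0
  have hs2 : s < a := by rw [hs]; exact Nat.mod_lt _ (by omega)
  have hb : b = a * c + s := by rw [hs, hc]; exact (Nat.div_add_mod b a).symm
  have hN1 : 1 ≤ x ^ (2 * a) := Nat.one_le_pow _ _ (by omega)
  have hmod : x ^ (2 * a) ≡ 1 [MOD x ^ (2 * a) - 1] :=
    ((Nat.modEq_iff_dvd' hN1).2 dvd_rfl).symm
  have h2 : x ^ (2 * b) ≡ x ^ (2 * s) [MOD x ^ (2 * a) - 1] := by
    have e : x ^ (2 * b) = (x ^ (2 * a)) ^ c * x ^ (2 * s) := by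
      rw [hb, ← pow_mul, ← pow_add]
      congr 1
      ring
    rw [e]
    have h3 := (hmod.pow c).mul_right (x ^ (2 * s))
    rwa [one_pow, one_mul] at h3
  have h1b : 1 ≤ x ^ (2 * b) := Nat.one_le_pow _ _ (by omega)
  have h3 : 2 * x ^ (2 * b) ≡ 2 [MOD x ^ (2 * a) - 1] := by
    have h4 : x ^ (2 * a) - 1 ∣ 2 * x ^ (2 * b) - 2 := by
      have e : 2 * x ^ (2 * b) - 2 = 2 * (x ^ (2 * b) - 1) := by omega
      rw [e]; exact h
    exact ((Nat.modEq_iff_dvd' (by omega)).2 h4).symm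
  have h4 : 2 * x ^ (2 * s) ≡ 2 [MOD x ^ (2 * a) - 1] := ((h2.mul_left 2).symm.trans h3)
  have h1s : 4 ≤ x ^ (2 * s) := by
    calc 4 = 2 ^ 2 := by norm_num
      _ ≤ x ^ 2 := Nat.pow_le_pow_left hx 2
      _ ≤ x ^ (2 * s) := Nat.pow_le_pow_right (by omega) (by omega)
  have h5 : x ^ (2 * a) - 1 ∣ 2 * x ^ (2 * s) - 2 := (Nat.modEq_iff_dvd' (by omega)).1 h4.symm
  have h6 := Nat.le_of_dvd (by omega) h5
  have h7 : 4 * x ^ (2 * s) ≤ x ^ (2 * a) := by
    calc 4 * x ^ (2 * s) = x ^ (2 * s) * 4 := by ring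
      _ ≤ x ^ (2 * s) * x ^ 2 := Nat.mul_le_mul_left _ (by nlinarith)
      _ = x ^ (2 * s + 2) := by rw [pow_add]
      _ ≤ x ^ (2 * a) := Nat.pow_le_pow_right (by omega) (by omega)
  omega

/-- Subfield arithmetic: if `q = p^a`, `q'^m = q^r` and `q (q² - 1) ∣ 2 q' (q'² - 1)` then
`q' = q^c` with `c * m = r`. -/
theorem dkm_subfield_arith (p a q' m r : ℕ) (hp : p.Prime) (ha : 1 ≤ a) (hq' : 2 ≤ q')
    (hr : 1 ≤ r) (hpow : q' ^ m = (p ^ a) ^ r)
    (hdiv : p ^ a * ((p ^ a) ^ 2 - 1) ∣ 2 * (q' * (q' ^ 2 - 1))) :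
    ∃ c, q' = (p ^ a) ^ c ∧ c * m = r := by
  have hp2 := hp.two_le
  have hm : 1 ≤ m := by
    rcases Nat.eq_zero_or_pos m with h0 | h0
    · exfalso
      rw [h0, pow_zero, ← pow_mul] at hpow
      have : 2 ^ 1 ≤ p ^ (a * r) :=
        le_trans (Nat.pow_le_pow_left hp2 1) (Nat.pow_le_pow_right (by omega) (by nlinarith))
      omega
    · exact h0
  have hdvd : q' ∣ p ^ (a * r) := by
    rw [pow_mul, ← hpow]
    exact dvd_pow_self q' (by omega)
  obtain ⟨b, -, rfl⟩ := (Nat.dvd_prime_pow hp).1 hdvd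
  have hb : 1 ≤ b := by
    rcases Nat.eq_zero_or_pos b with h0 | h0
    · rw [h0, pow_zero] at hq'; omega
    · exact h0
  have hbm : b * m = a * r := by
    rw [← pow_mul, ← pow_mul] at hpow
    exact Nat.pow_right_injective hp2 hpow
  rw [← pow_mul, ← pow_mul] at hdiv
  have h1 : p ^ (a * 2) - 1 ∣ p ^ b * (2 * (p ^ (b * 2) - 1)) := by
    have e : 2 * (p ^ b * (p ^ (b * 2) - 1)) = p ^ b * (2 * (p ^ (b * 2) - 1)) := by ring
    rw [← e]
    exact dvd_trans (Dvd.intro_left _ rfl) hdiv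
  have hcop : Nat.Coprime (p ^ (a * 2) - 1) (p ^ b) := by
    apply Nat.Coprime.pow_right
    apply Nat.Coprime.symm
    rw [hp.coprime_iff_not_dvd]
    intro hd
    have h6 : p ∣ p ^ (a * 2) := dvd_pow_self p (by omega)
    have h7 : 1 ≤ p ^ (a * 2) := Nat.one_le_pow _ _ (by omega)
    have h8 : p ∣ 1 := by
      have := Nat.dvd_sub h6 hd
      rwa [Nat.sub_sub_self h7] at this
    exact hp.one_lt.ne' (Nat.dvd_one.1 h8)
  have h2 : p ^ (2 * a) - 1 ∣ 2 * (p ^ (2 * b) - 1) := by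
    have := hcop.dvd_of_dvd_mul_left h1
    rwa [mul_comm a 2, mul_comm b 2] at this
  obtain ⟨c, rfl⟩ := dkm_pow_dvd p a b hp2 ha h2
  refine ⟨c, by rw [pow_mul], ?_⟩
  have h3 : a * (c * m) = a * r := by rw [← hbm]; ring
  exact Nat.eq_of_mul_eq_mul_left (by omega) h3

end Arith

section Wit

variable {K : Type*} [Field K]

theorem dkm_prj_eq (g h : S2 K) (e : prj K g = prj K h) : g = h ∨ g = negOne * h := by
  have h1 : prj K (g * h⁻¹) = 1 := by rw [map_mul, map_inv, e, mul_inv_cancel]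
  rw [prj_eq_one_iff] at h1
  rcases isSc_eq _ h1 with h2 | h2
  · left; exact mul_inv_eq_one.1 h2
  · right; exact mul_inv_eq_iff_eq_mul.1 h2

/-- odd characteristic: squares do not commute in `PSL₂(K)` -/
theorem dkm_psl_sq_odd (h2 : (2 : K) ≠ 0) :
    ¬ ∀ x y : P2 K, (x * x) * (y * y) = (y * y) * (x * x) := by
  intro h
  have h1 := h (prj K (uu 1)) (prj K (ll 1))
  simp only [← map_mul] at h1
  have h4 : (4 : K) ≠ 0 := by
    have e : (4 : K) = 2 * 2 := by norm_num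
    rw [e]; exact mul_ne_zero h2 h2
  rcases dkm_prj_eq _ _ h1 with e | e
  · have e00 := congrArg (fun g : S2 K => g 0 0) e
    simp only [mul00, mul01, mul10, mul11, uu_00, uu_01, uu_10, uu_11, ll_00, ll_01, ll_10,
      ll_11] at e00
    apply h4
    linear_combination e00
  · have e01 := congrArg (fun g : S2 K => g 0 1) e
    simp only [mul00, mul01, mul10, mul11, uu_00, uu_01, uu_10, uu_11, ll_00, ll_01, ll_10,
      ll_11, negOne, mk2_00, mk2_01, mk2_10, mk2_11] at e01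
    apply h4
    linear_combination e01

/-- squares do not commute in `PSL₂(K)` when `K` has an element `t ≠ 0` with `t⁴ ≠ 1` -/
theorem dkm_psl_sq_t (t : K) (ht : t ≠ 0) (ht4 : t ^ 4 ≠ 1) :
    ¬ ∀ x y : P2 K, (x * x) * (y * y) = (y * y) * (x * x) := by
  intro h
  have hdet : t * t⁻¹ - 1 * 0 = 1 := by rw [mul_inv_cancel₀ ht]; ring
  have h1 := h (prj K (dd t ht)) (prj K (mk2 t 1 0 t⁻¹ hdet))
  simp only [← map_mul] at h1
  have key : dd t ht * dd t ht * (mk2 t 1 0 t⁻¹ hdet * mk2 t 1 0 t⁻¹ hdet)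
      = mk2 t 1 0 t⁻¹ hdet * mk2 t 1 0 t⁻¹ hdet * (dd t ht * dd t ht) → False := by
    intro e
    have e01 := congrArg (fun g : S2 K => g 0 1) e
    simp only [mul00, mul01, mul10, mul11, dd, mk2_00, mk2_01, mk2_10, mk2_11] at e01
    have e' : (t ^ 4 - 1) * (t ^ 2 + 1) = 0 := by
      field_simp at e01
      linear_combination e01
    rcases mul_eq_zero.1 e' with e' | e'
    · exact ht4 (by linear_combination e')
    · exact ht4 (by linear_combination (t ^ 2 - 1) * e')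
  rcases dkm_prj_eq _ _ h1 with e | e
  · exact key e
  · have e00 := congrArg (fun g : S2 K => g 0 0) e
    simp only [mul00, mul01, mul10, mul11, dd, negOne, mk2_00, mk2_01, mk2_10, mk2_11] at e00
    have h2 : (2 : K) = 0 := by
      have e' : (2 : K) * t ^ 4 = 0 := by linear_combination e00
      rcases mul_eq_zero.1 e' with e' | e'
      · exact e'
      · exact absurd (pow_eq_zero_iff (by norm_num) |>.1 e') ht
    rw [negOne_eq_one h2, one_mul] at e
    exact key e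

/-- commutators do not commute in `PSL₂(K)` when `K` has an element `t ≠ 0` with `t² ≠ 1` -/
theorem dkm_psl_cc_t (t : K) (ht : t ≠ 0) (ht2 : t ^ 2 ≠ 1) :
    ¬ ∀ x y z w : P2 K, (x * y * x⁻¹ * y⁻¹) * (z * w * z⁻¹ * w⁻¹)
      = (z * w * z⁻¹ * w⁻¹) * (x * y * x⁻¹ * y⁻¹) := by
  intro h
  have h1 := h (prj K (dd t ht)) (prj K (uu 1)) (prj K (dd t ht)) (prj K (ll 1))
  simp only [← map_inv, ← map_mul] at h1
  have c1 : dd t ht * uu 1 * (dd t ht)⁻¹ * (uu 1)⁻¹ = uu (t ^ 2 - 1) := by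
    apply ext2 <;> simp only [mul00, mul01, mul10, mul11, inv00, inv01, inv10, inv11, dd,
      uu_00, uu_01, uu_10, uu_11, mk2_00, mk2_01, mk2_10, mk2_11] <;> field_simp <;> ring
  have c2 : dd t ht * ll 1 * (dd t ht)⁻¹ * (ll 1)⁻¹ = ll ((t ^ 2)⁻¹ - 1) := by
    apply ext2 <;> simp only [mul00, mul01, mul10, mul11, inv00, inv01, inv10, inv11, dd,
      ll_00, ll_01, ll_10, ll_11, mk2_00, mk2_01, mk2_10, mk2_11] <;> field_simp <;> ring
  rw [c1, c2] at h1
  have hβ : t ^ 2 - 1 ≠ 0 := sub_ne_zero.2 ht2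
  have hγ : (t ^ 2)⁻¹ - 1 ≠ 0 := by
    intro e
    apply ht2
    have e2 : (t ^ 2)⁻¹ = 1 := by linear_combination e
    exact inv_eq_one.1 e2
  have key : uu (t ^ 2 - 1) * ll ((t ^ 2)⁻¹ - 1) = ll ((t ^ 2)⁻¹ - 1) * uu (t ^ 2 - 1) → False := by
    intro e
    have e00 := congrArg (fun g : S2 K => g 0 0) e
    simp only [mul00, mul01, mul10, mul11, uu_00, uu_01, uu_10, uu_11, ll_00, ll_01, ll_10,
      ll_11] at e00
    have e' : (t ^ 2 - 1) * ((t ^ 2)⁻¹ - 1) = 0 := by linear_combination e00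
    rcases mul_eq_zero.1 e' with e' | e'
    · exact hβ e'
    · exact hγ e'
  rcases dkm_prj_eq _ _ h1 with e | e
  · exact key e
  · have e01 := congrArg (fun g : S2 K => g 0 1) e
    simp only [mul00, mul01, mul10, mul11, uu_00, uu_01, uu_10, uu_11, ll_00, ll_01, ll_10,
      ll_11, negOne, mk2_00, mk2_01, mk2_10, mk2_11] at e01
    have h2 : (2 : K) = 0 := by
      have e' : (2 : K) * (t ^ 2 - 1) = 0 := by linear_combination e01
      rcases mul_eq_zero.1 e' with e' | e'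
      · exact e'
      · exact absurd e' hβ
    rw [negOne_eq_one h2, one_mul] at e
    exact key e

/-- a commutator in `PSL₂(K)` whose `p`-th power is not trivial (characteristic `≠ 5`) -/
theorem dkm_psl_pow (p : ℕ) [Fact p.Prime] [CharP K p] (h5 : (5 : K) ≠ 0) :
    ¬ ∀ x y : P2 K, (x * y * x⁻¹ * y⁻¹) ^ p = 1 := by
  intro h
  have h1 := h (prj K (uu 1)) (prj K (ll 1))
  simp only [← map_inv, ← map_mul, ← map_pow] at h1
  rw [prj_eq_one_iff] at h1
  have htr : tr (uu (1 : K) * ll 1 * (uu 1)⁻¹ * (ll 1)⁻¹) = 3 := by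
    unfold tr
    simp only [mul00, mul01, mul10, mul11, inv00, inv01, inv10, inv11,
      uu_00, uu_01, uu_10, uu_11, ll_00, ll_01, ll_10, ll_11]
    ring
  have h10 : (1 : K) ≠ 0 := one_ne_zero
  have key : (uu (1 : K) * ll 1 * (uu 1)⁻¹ * (ll 1)⁻¹) ^ p = 1 → False := by
    intro e
    have := tr_of_pow_char p _ e
    rw [htr] at this
    apply h10
    linear_combination this
  rcases isSc_eq _ h1 with e | e
  · exact key e
  · by_cases h2 : (2 : K) = 0
    · rw [negOne_eq_one h2] at e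
      exact key e
    · have hp2 : p ≠ 2 := by
        intro hp2
        apply h2
        have := CharP.cast_eq_zero K p
        rw [hp2] at this
        exact_mod_cast this
      have hodd : Odd p := (Fact.out : p.Prime).odd_of_ne_two hp2
      have hc : Commute (negOne : S2 K) (uu (1 : K) * ll 1 * (uu 1)⁻¹ * (ll 1)⁻¹) :=
        negOne_mul _
      have e2 : (negOne * (uu (1 : K) * ll 1 * (uu 1)⁻¹ * (ll 1)⁻¹)) ^ p = 1 := by
        rw [hc.mul_pow, e, negOne_pow_odd p hodd, negOne_sq]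
      have := tr_of_pow_char p _ e2
      rw [tr_negOne_mul, htr] at this
      apply h5
      linear_combination -this

/-- `PSL₂(K)` is never of "Borel type". -/
theorem dkm_psl_not_bor (p : ℕ) [Fact p.Prime] [CharP K p] :
    ¬ ((∀ x y : P2 K, (x * y * x⁻¹ * y⁻¹) ^ p = 1) ∧
      (∀ x y z w : P2 K, (x * y * x⁻¹ * y⁻¹) * (z * w * z⁻¹ * w⁻¹)
        = (z * w * z⁻¹ * w⁻¹) * (x * y * x⁻¹ * y⁻¹))) := by
  rintro ⟨h1, h2⟩
  by_cases h5 : (5 : K) = 0
  · have h10 : (1 : K) ≠ 0 := one_ne_zero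
    have ht : (2 : K) ≠ 0 := by
      intro e
      apply h10
      linear_combination h5 - 2 * e
    have ht2 : (2 : K) ^ 2 ≠ 1 := by
      intro e
      apply h10
      linear_combination -h5 + 2 * e
    exact dkm_psl_cc_t 2 ht ht2 h2
  · exact dkm_psl_pow p h5 h1

end Wit

end Cfsg.Agent.Lib.Helper54
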