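import Mathlib
import Cfsg.Agent.Lib.Helper19.DkL
import Cfsg.Agent.Lib.Helper54.DkMax2
import Cfsg.Prelude.Def_OddOrderLocal

set_option autoImplicit false

namespace Cfsg.Agent.Lib.Helper54

open Matrix Cfsg.Agent.S0809 Cfsg.Agent.Lib.Helper19.Dk

section Dih

variable {F : Type*} [Field F]

/-- dihedral subgroups of `PSL₂(F)` (odd characteristic) of order `2d` for every `d ∣ m`, where
`t ∈ SL₂(F)` is semisimple of order `2m`. -/
theorem dkh_exists_dih [Fintype F] (h2 : (2 : F) ≠ 0) (t : S2 F) (m d : ℕ)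
    (ht : orderOf t = 2 * m) (htr : tr t ^ 2 ≠ 4) (hm : 0 < m) (hd : d ∣ m) :
    ∃ H : Subgroup (P2 F), Nonempty (H ≃* DihedralGroup d) := by
  obtain ⟨w, hw0, hw⟩ := exists_inverting t htr
  have hord : orderOf (prj F t) = m := orderOf_prj_odd h2 t m ht hm
  have hdpos : 0 < d := Nat.pos_of_dvd_of_pos hd hm
  have hmd : m / d ∣ m := Nat.div_dvd_of_dvd hd
  have hmdpos : 0 < m / d := Nat.div_pos (Nat.le_of_dvd hm hd) hdpos
  have hordy : orderOf (prj F t ^ (m / d)) = d := by
    rw [orderOf_pow_of_dvd hmdpos.ne' (by rw [hord]; exact hmd), hord]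
    exact Nat.div_div_self hd hm.ne'
  have hconj : prj F w * prj F t * (prj F w)⁻¹ = (prj F t)⁻¹ := by
    rw [← map_inv, ← map_mul, ← map_mul, hw, map_inv]
  apply dih_sub (prj F t ^ (m / d)) (prj F w) d hordy hdpos
  · rw [← map_mul, prj_eq_one_iff]
    have h11 : w 1 1 = - w 0 0 := by
      unfold tr at hw0
      linear_combination hw0
    rw [sq_of_tr_zero w h11]
    exact isSc_negOne
  · rw [← conj_pow, hconj, inv_pow]
  · intro hmem
    have hmem' : prj F w ∈ Subgroup.zpowers (prj F t) :=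
      (Subgroup.zpowers_le.2 (Subgroup.npow_mem_zpowers _ _)) hmem
    obtain ⟨k, hk⟩ := Subgroup.mem_zpowers_iff.1 hmem'
    rw [← map_zpow] at hk
    have h1 : prj F ((t ^ k)⁻¹ * w) = 1 := by rw [map_mul, map_inv, hk, inv_mul_cancel]
    rw [prj_eq_one_iff] at h1
    have h2' := isSc_comm _ h1 t
    have h3 : w * t = t * w := by
      have hc : (t ^ k)⁻¹ * t = t * (t ^ k)⁻¹ :=
        ((Commute.refl t).zpow_left k).inv_left.eq
      calc w * t = t ^ k * ((t ^ k)⁻¹ * w * t) := by group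
        _ = t ^ k * (t * ((t ^ k)⁻¹ * w)) := by rw [h2']
        _ = t ^ k * (t * (t ^ k)⁻¹) * w := by simp only [mul_assoc]
        _ = t ^ k * ((t ^ k)⁻¹ * t) * w := by rw [hc]
        _ = t * w := by group
    have h4 : w * t * w⁻¹ = t := by rw [h3]; group
    rw [hw] at h4
    exact ne_inv_of_ss t htr h4.symm

end Dih

section Hall

theorem dkh_hall_of_card {G : Type*} [Group G] [Finite G] (H : Subgroup G) (h i : ℕ)
    (hh : Nat.card H = h) (hG : Nat.card G = h * i)
    (h23 : ∀ p : ℕ, p.Prime → p ∣ h → p = 2 ∨ p = 3) (hi2 : ¬ 2 ∣ i) (hi3 : ¬ 3 ∣ i) :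
    Cfsg.IsPiHall ({2, 3} : Set ℕ) H := by
  have hhpos : 0 < h := by rw [← hh]; exact Nat.card_pos
  have hidx : H.index = i := by
    have h1 := Subgroup.card_mul_index H
    rw [hh, hG] at h1
    exact Nat.eq_of_mul_eq_mul_left hhpos h1
  refine ⟨?_, ?_⟩
  · intro p hp hd
    rw [hh] at hd
    rcases h23 p hp hd with rfl | rfl
    · exact Set.mem_insert _ _
    · exact Set.mem_insert_of_mem _ rfl
  · intro p _ hmem
    rw [hidx]
    rcases hmem with rfl | hmem
    · exact hi2
    · rw [Set.mem_singleton_iff] at hmem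
      rw [hmem]
      exact hi3

/-- the `{2,3}`-part of a positive integer -/
theorem dkh_part23 (m : ℕ) (hm : 0 < m) : ∃ d e : ℕ, m = d * e ∧
    (∀ p : ℕ, p.Prime → p ∣ 2 * d → p = 2 ∨ p = 3) ∧ ¬ 2 ∣ e ∧ ¬ 3 ∣ e := by
  induction m using Nat.strong_induction_on with
  | _ m ih =>
    by_cases h2 : 2 ∣ m
    · obtain ⟨m', rfl⟩ := h2
      obtain ⟨d, e, hde, hp, h2e, h3e⟩ := ih m' (by omega) (by omega)
      refine ⟨2 * d, e, by rw [hde]; ring, ?_, h2e, h3e⟩
      intro p pp hd
      rcases (Nat.Prime.dvd_mul pp).1 hd with h | h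
      · left; exact (Nat.prime_dvd_prime_iff_eq pp Nat.prime_two).1 h
      · exact hp p pp h
    · by_cases h3 : 3 ∣ m
      · obtain ⟨m', rfl⟩ := h3
        obtain ⟨d, e, hde, hp, h2e, h3e⟩ := ih m' (by omega) (by omega)
        refine ⟨3 * d, e, by rw [hde]; ring, ?_, h2e, h3e⟩
        intro p pp hd
        have hd' : p ∣ 3 * (2 * d) := by
          have e : 2 * (3 * d) = 3 * (2 * d) := by ring
          rwa [e] at hd
        rcases (Nat.Prime.dvd_mul pp).1 hd' with h | h
        · right; exact (Nat.prime_dvd_prime_iff_eq pp Nat.prime_three).1 h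
        · exact hp p pp h
      · refine ⟨1, m, by ring, ?_, h2, h3⟩
        intro p pp hd
        rw [mul_one] at hd
        left; exact (Nat.prime_dvd_prime_iff_eq pp Nat.prime_two).1 hd

/-- reading off the `{2,3}`-part -/
theorem dkh_fact (Q a b i q : ℕ) (heq : 2 ^ a * 3 ^ b * i = q * Q) (hQ : Q ≠ 0)
    (hq2 : ¬ 2 ∣ q) (hq3 : ¬ 3 ∣ q) (hi2 : ¬ 2 ∣ i) (hi3 : ¬ 3 ∣ i) :
    Q.factorization 2 = a ∧ Q.factorization 3 = b := by
  have hq0 : q ≠ 0 := by rintro rfl; exact hq2 (dvd_zero 2)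
  have hi0 : i ≠ 0 := by rintro rfl; exact hi2 (dvd_zero 2)
  have h2a : (2 : ℕ) ^ a ≠ 0 := by positivity
  have h3b : (3 : ℕ) ^ b ≠ 0 := by positivity
  have hf := congrArg Nat.factorization heq
  rw [Nat.factorization_mul (mul_ne_zero h2a h3b) hi0, Nat.factorization_mul h2a h3b,
    Nat.factorization_mul hq0 hQ, Nat.factorization_pow, Nat.factorization_pow] at hf
  constructor
  · have h := congrArg (fun f => f 2) hf
    simp only [Finsupp.coe_add, Finsupp.coe_smul, Pi.add_apply, Pi.smul_apply, smul_eq_mul] at h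
    rw [Nat.Prime.factorization_self Nat.prime_two,
      Nat.factorization_eq_zero_of_not_dvd (by norm_num : ¬ 2 ∣ 3),
      Nat.factorization_eq_zero_of_not_dvd hi2,
      Nat.factorization_eq_zero_of_not_dvd hq2] at h
    omega
  · have h := congrArg (fun f => f 3) hf
    simp only [Finsupp.coe_add, Finsupp.coe_smul, Pi.add_apply, Pi.smul_apply, smul_eq_mul] at h
    rw [Nat.Prime.factorization_self Nat.prime_three,
      Nat.factorization_eq_zero_of_not_dvd (by norm_num : ¬ 3 ∣ 2),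
      Nat.factorization_eq_zero_of_not_dvd hi3,
      Nat.factorization_eq_zero_of_not_dvd hq3] at h
    omega

end Hall

end Cfsg.Agent.Lib.Helper54
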