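import Mathlib
import Cfsg.Agent.Lib.Helper54.SL2Cent
import Cfsg.Agent.Lib.Helper54.DkHall

set_option autoImplicit false

namespace Cfsg.Agent.Lib.Helper54

open Matrix Cfsg.Agent.S0809 Cfsg.Agent.Lib.Helper19.Dk

section Conic2

variable {F : Type*} [Field F] [Fintype F]

theorem dke_roots [DecidableEq F] (h2 : (2 : F) = 0) (t : F) (ht : t ≠ 0) :
    (Finset.univ.filter (fun s : F => s ^ 2 + t * s + 1 = 0)).card = 0 ∨
    (Finset.univ.filter (fun s : F => s ^ 2 + t * s + 1 = 0)).card = 2 := by
  by_cases h : ∃ r : F, r ^ 2 + t * r + 1 = 0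
  · right
    obtain ⟨r, hr⟩ := h
    have e : Finset.univ.filter (fun s : F => s ^ 2 + t * s + 1 = 0) = {r, r + t} := by
      ext s
      simp only [Finset.mem_filter, Finset.mem_univ, true_and, Finset.mem_insert,
        Finset.mem_singleton]
      constructor
      · intro hs
        have h3 : (s - r) * (s - (r + t)) = 0 := by
          linear_combination hs - hr + (r ^ 2 + r * t - r * s - t * s) * h2
        rcases mul_eq_zero.1 h3 with h | h
        · left; linear_combination h
        · right; linear_combination h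
      · rintro (rfl | rfl)
        · exact hr
        · linear_combination hr + (r * t + t ^ 2) * h2
    rw [e, Finset.card_pair]
    intro e'
    apply ht
    linear_combination -e'
  · left
    rw [Finset.card_eq_zero, Finset.filter_eq_empty_iff]
    intro s _ hs
    exact h ⟨s, hs⟩

theorem dke_card_conic (h2 : (2 : F) = 0) (t : F) (ht : t ≠ 0) :
    Nat.card {p : F × F // p.1 ^ 2 + p.1 * p.2 * t + p.2 ^ 2 = 1} = Fintype.card F - 1 ∨
    Nat.card {p : F × F // p.1 ^ 2 + p.1 * p.2 * t + p.2 ^ 2 = 1} = Fintype.card F + 1 := by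
  classical
  rw [Nat.card_eq_fintype_card, Fintype.card_subtype]
  obtain ⟨S, hS⟩ : ∃ S : Finset (F × F),
      S = Finset.univ.filter (fun p : F × F => p.1 ^ 2 + p.1 * p.2 * t + p.2 ^ 2 = 1) := ⟨_, rfl⟩
  rw [← hS]
  have hmem : ∀ a b : F, (a, b) ∈ S ↔ a ^ 2 + a * b * t + b ^ 2 = 1 := by
    intro a b
    rw [hS]
    simp
  have h0 : S.filter (fun p => p.2 = 0) = {((1 : F), (0 : F))} := by
    ext ⟨a, b⟩
    simp only [Finset.mem_filter, hmem, Finset.mem_singleton, Prod.mk.injEq]
    constructor
    · rintro ⟨h, hb⟩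
      subst hb
      have h3 : (a - 1) ^ 2 = 0 := by linear_combination h + (1 - a) * h2
      have h4 : a - 1 = 0 := (pow_eq_zero_iff (two_ne_zero)).1 h3
      exact ⟨by linear_combination h4, rfl⟩
    · rintro ⟨rfl, rfl⟩
      exact ⟨by ring, rfl⟩
  have key : ∀ a b : F, a ^ 2 + a * b * t + b ^ 2 = 1 → b ≠ 0 →
      ((a + 1) / b) ^ 2 + t * ((a + 1) / b) + 1 = t / b := by
    intro a b hc hb
    obtain ⟨s, hs0⟩ : ∃ s : F, s = (a + 1) / b := ⟨_, rfl⟩
    rw [← hs0]
    have hs : s * b = a + 1 := by rw [hs0]; exact div_mul_cancel₀ _ hb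
    rw [eq_div_iff hb]
    apply mul_right_cancel₀ hb
    linear_combination (s * b + a + 1 + t * b) * hs + hc + (a + 1) * h2
  have back : ∀ s : F, s ^ 2 + t * s + 1 ≠ 0 →
      (1 + s * (t / (s ^ 2 + t * s + 1))) ^ 2
        + (1 + s * (t / (s ^ 2 + t * s + 1))) * (t / (s ^ 2 + t * s + 1)) * t
        + (t / (s ^ 2 + t * s + 1)) ^ 2 = 1 := by
    intro s hD
    obtain ⟨b, hb0⟩ : ∃ b : F, b = t / (s ^ 2 + t * s + 1) := ⟨_, rfl⟩
    rw [← hb0]
    have hbD : b * (s ^ 2 + t * s + 1) = t := by rw [hb0]; exact div_mul_cancel₀ _ hD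
    linear_combination b * hbD + (s * b + b * t) * h2
  have h1 : (S.filter (fun p => ¬ p.2 = 0)).card
      = (Finset.univ.filter (fun s : F => ¬ (s ^ 2 + t * s + 1 = 0))).card := by
    apply Finset.card_nbij' (fun p => (p.1 + 1) / p.2)
      (fun s => (1 + s * (t / (s ^ 2 + t * s + 1)), t / (s ^ 2 + t * s + 1)))
    · rintro ⟨a, b⟩ hp
      simp only [Finset.coe_filter, Set.mem_setOf_eq, hmem, Finset.mem_univ, true_and] at hp ⊢
      rw [key a b hp.1 hp.2]
      exact div_ne_zero ht hp.2
    · intro s hs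
      simp only [Finset.coe_filter, Set.mem_setOf_eq, hmem, Finset.mem_univ, true_and] at hs ⊢
      exact ⟨back s hs, div_ne_zero ht hs⟩
    · rintro ⟨a, b⟩ hp
      simp only [Finset.coe_filter, Set.mem_setOf_eq, hmem] at hp
      simp only
      rw [key a b hp.1 hp.2]
      have hb : b ≠ 0 := hp.2
      have e1 : t / (t / b) = b := by
        rw [div_eq_iff (div_ne_zero ht hb)]
        exact (mul_div_cancel₀ _ hb).symm
      rw [e1]
      refine Prod.ext ?_ rfl
      simp only
      rw [div_mul_cancel₀ _ hb]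
      linear_combination h2
    · intro s hs
      simp only [Finset.coe_filter, Set.mem_setOf_eq, Finset.mem_univ, true_and] at hs
      simp only
      rw [div_eq_iff (div_ne_zero ht hs)]
      linear_combination h2
  have hsplit := Finset.card_filter_add_card_filter_not (s := S) (fun p : F × F => p.2 = 0)
  have hsplit2 := Finset.card_filter_add_card_filter_not (s := (Finset.univ : Finset F))
    (fun s : F => s ^ 2 + t * s + 1 = 0)
  rw [h0, Finset.card_singleton, h1] at hsplit
  rw [Finset.card_univ] at hsplit2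
  have hq2 : 2 ≤ Fintype.card F := Fintype.one_lt_card
  rcases dke_roots h2 t ht with h | h
  · right; omega
  · left; omega

theorem dke_charP (heven : Even (Fintype.card F)) : CharP F 2 := by
  obtain ⟨p, hp⟩ := CharP.exists F
  obtain ⟨n, hprime, hq⟩ := FiniteField.card F p
  have h1 : Even p := by
    rw [hq] at heven
    exact (Nat.even_pow.1 heven).1
  have h2 : p = 2 := (Nat.Prime.even_iff hprime).1 h1
  subst h2
  exact hp

theorem dke_two (heven : Even (Fintype.card F)) : (2 : F) = 0 := by
  haveI := dke_charP heven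
  exact_mod_cast CharP.cast_eq_zero F 2

/-- in characteristic `2` the centralizer of a semisimple element has order exactly `q ± 1` -/
theorem dke_card_cent (h2 : (2 : F) = 0) (x : S2 F) (hx : tr x ^ 2 ≠ 4) :
    Nat.card (Subgroup.centralizer ({x} : Set (S2 F))) = Fintype.card F - 1 ∨
    Nat.card (Subgroup.centralizer ({x} : Set (S2 F))) = Fintype.card F + 1 := by
  have ht : tr x ≠ 0 := by
    intro h
    apply hx
    rw [h]
    linear_combination (-2 : F) * h2
  have hns : ∀ c : F, (x : Matrix (Fin 2) (Fin 2) F) ≠ c • 1 := by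
    intro c hc
    apply ht
    have h00 : x 0 0 = c := by
      have := congrFun (congrFun hc 0) 0
      simpa using this
    have h11 : x 1 1 = c := by
      have := congrFun (congrFun hc 1) 1
      simpa using this
    unfold tr
    rw [h00, h11]
    linear_combination c * h2
  rw [card_centralizer_eq_conic x hns]
  have e : (x : Matrix (Fin 2) (Fin 2) F).trace = tr x := by
    rw [Matrix.trace_fin_two]; rfl
  rw [e]
  exact dke_card_conic h2 (tr x) ht

end Conic2

end Cfsg.Agent.Lib.Helper54
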