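import Mathlib
import Cfsg.Agent.Lib.Helper54.DkEven1
import Cfsg.Agent.Lib.Helper54.DkMax

set_option autoImplicit false

namespace Cfsg.Agent.Lib.Helper54

open Matrix Cfsg.Agent.S0809 Cfsg.Agent.Lib.Helper19.Dk

section Even2

variable {F : Type*} [Field F] [Fintype F]

omit [Fintype F] in
/-- lifting the coatom property to `SL₂` -/
theorem dke_coatom (M : Subgroup (P2 F)) (hM : IsCoatom M) (N : Subgroup (S2 F))
    (hN : Lof M ≤ N) : N = Lof M ∨ N = ⊤ := by
  have h1 : M ≤ N.map (prj F) := by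
    rw [← map_Lof M]
    exact Subgroup.map_mono hN
  have hker : (prj F).ker ≤ N := by
    rw [ker_prj]; exact (center_le_Lof M).trans hN
  have hcm : (N.map (prj F)).comap (prj F) = N := by
    rw [Subgroup.comap_map_eq, sup_eq_left.2 hker]
  rcases hM.le_iff.1 h1 with h | h
  · right
    rw [← hcm, h, Subgroup.comap_top]
  · left
    rw [← hcm, h]
    rfl

omit [Fintype F] in
theorem dke_ne_top (M : Subgroup (P2 F)) (hM : IsCoatom M) : Lof M ≠ ⊤ := by
  intro h
  apply hM.1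
  rw [← map_Lof M, h, ← MonoidHom.range_eq_map]
  exact MonoidHom.range_eq_top.2 prj_surj

theorem dke_exists_noncomm (p : ℕ) [Fact p.Prime] [CharP F p] (h4 : 4 ≤ Fintype.card F)
    (x : S2 F) (hx : tr x ^ 2 ≠ 4) :
    ∃ g : S2 F, ¬ ((g * x * g⁻¹) * x = x * (g * x * g⁻¹)) := by
  have hA : cA (⊤ : Subgroup (S2 F)) x ≤ Fintype.card F + 1 := by
    have e : cenL (⊤ : Subgroup (S2 F)) x = Subgroup.centralizer {x} := by
      unfold cenL; exact top_inf_eq _
    unfold cA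
    rw [e]
    rcases card_centralizer_dvd p x hx with h | h
    · exact (Nat.le_of_dvd (by omega) h).trans (by omega)
    · exact Nat.le_of_dvd (by omega) h
  have hN : cN (⊤ : Subgroup (S2 F)) x ≤ 2 * (Fintype.card F + 1) := by
    rcases cN_ss (⊤ : Subgroup (S2 F)) x hx with ⟨h, -⟩ | ⟨h, -⟩ <;> omega
  have hc : Nat.card (⊤ : Subgroup (S2 F)) = Fintype.card F * (Fintype.card F ^ 2 - 1) := by
    rw [Subgroup.card_top, card_S2]
  have hlt : cN (⊤ : Subgroup (S2 F)) x < Nat.card (⊤ : Subgroup (S2 F)) := by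
    rw [hc]
    obtain ⟨m, hm⟩ : ∃ m, Fintype.card F = m + 4 := ⟨Fintype.card F - 4, by omega⟩
    rw [hm] at hN ⊢
    have e1 : (m + 4) ^ 2 - 1 = m ^ 2 + 8 * m + 15 := by
      have : (m + 4) ^ 2 = m ^ 2 + 8 * m + 16 := by ring
      omega
    rw [e1]
    have e2 : (m + 4) * (m ^ 2 + 8 * m + 15) = m ^ 3 + 12 * m ^ 2 + 47 * m + 60 := by ring
    rw [e2]
    have := Nat.zero_le (m ^ 3)
    have := Nat.zero_le (m ^ 2)
    omega
  obtain ⟨g, -, hg⟩ := exists_not_nrm ⊤ x hlt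
  exact ⟨g, fun h => hg ⟨Subgroup.mem_top g, h⟩⟩

/-- the "normalizer of the torus" of `x`: elements fixing or inverting `x` -/
def dkeN (x : S2 F) : Subgroup (S2 F) where
  carrier := {g | g * x * g⁻¹ = x ∨ g * x * g⁻¹ = x⁻¹}
  one_mem' := Or.inl (by group)
  mul_mem' := by
    rintro a b ha hb
    have e : a * b * x * (a * b)⁻¹ = a * (b * x * b⁻¹) * a⁻¹ := by group
    show a * b * x * (a * b)⁻¹ = x ∨ a * b * x * (a * b)⁻¹ = x⁻¹
    rw [e]
    rcases hb with hb | hb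
    · rw [hb]; exact ha
    · rw [hb]
      have e2 : a * x⁻¹ * a⁻¹ = (a * x * a⁻¹)⁻¹ := by group
      rw [e2]
      rcases ha with ha | ha
      · right; rw [ha]
      · left; rw [ha, inv_inv]
  inv_mem' := by
    intro a ha
    show a⁻¹ * x * a⁻¹⁻¹ = x ∨ a⁻¹ * x * a⁻¹⁻¹ = x⁻¹
    rcases ha with ha | ha
    · left
      calc a⁻¹ * x * a⁻¹⁻¹ = a⁻¹ * (a * x * a⁻¹) * a⁻¹⁻¹ := by rw [ha]
        _ = x := by group
    · right
      have h1 : (a * x * a⁻¹)⁻¹ = x := by rw [ha, inv_inv]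
      have h2 : a⁻¹ * x * a⁻¹⁻¹ = a⁻¹ * (a * x * a⁻¹)⁻¹ * a⁻¹⁻¹ := by rw [h1]
      rw [h2]; group

omit [Fintype F] in
theorem dke_mem_N (x g : S2 F) : g ∈ dkeN x ↔ g * x * g⁻¹ = x ∨ g * x * g⁻¹ = x⁻¹ := Iff.rfl

theorem dke_eq_N (p : ℕ) [Fact p.Prime] [CharP F p] (h4 : 4 ≤ Fintype.card F)
    (L : Subgroup (S2 F)) (hco : ∀ N : Subgroup (S2 F), L ≤ N → N = L ∨ N = ⊤)
    (x : S2 F) (hss : tr x ^ 2 ≠ 4)
    (hall : ∀ g ∈ L, g * x * g⁻¹ = x ∨ g * x * g⁻¹ = x⁻¹) : L = dkeN x := by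
  rcases hco (dkeN x) hall with h | h
  · exact h.symm
  · exfalso
    obtain ⟨g, hg⟩ := dke_exists_noncomm p h4 x hss
    have hm : g ∈ dkeN x := by rw [h]; exact Subgroup.mem_top g
    rcases hm with h1 | h1
    · apply hg; rw [h1]
    · apply hg; rw [h1]; group

/-- the cyclic outcome is impossible for a maximal subgroup -/
theorem dke_not_cyc (p : ℕ) [Fact p.Prime] [CharP F p] (h4 : 4 ≤ Fintype.card F)
    (L : Subgroup (S2 F)) (hco : ∀ N : Subgroup (S2 F), L ≤ N → N = L ∨ N = ⊤)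
    (x : S2 F) (hss : tr x ^ 2 ≠ 4) (hall : ∀ g ∈ L, g * x = x * g) : False := by
  have hL := dke_eq_N p h4 L hco x hss (fun g hg => Or.inl (by rw [hall g hg]; group))
  obtain ⟨w, -, hw⟩ := exists_inverting x hss
  have hwL : w ∈ L := by rw [hL]; exact Or.inr hw
  have h1 := hall w hwL
  apply ne_inv_of_ss x hss
  rw [← hw, h1]; group

theorem dke_idx2 (L : Subgroup (S2 F)) (x : S2 F) (hx : x ∈ L)
    (hcard : Nat.card L = 2 * cA L x) (g : S2 F) (hg : g ∈ L) :
    (g * x * g⁻¹) * x = x * (g * x * g⁻¹) := by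
  have hCL : cenL L x ≤ L := inf_le_left
  have hidx : ((cenL L x).subgroupOf L).index = 2 := by
    have h1 := Subgroup.card_mul_index ((cenL L x).subgroupOf L)
    rw [Nat.card_congr (Subgroup.subgroupOfEquivOfLe hCL).toEquiv, hcard] at h1
    have hCpos : 0 < Nat.card (cenL L x) := Nat.card_pos
    have h2 : Nat.card (cenL L x) * ((cenL L x).subgroupOf L).index
        = Nat.card (cenL L x) * 2 := by
      rw [h1]; unfold cA; ring
    exact Nat.eq_of_mul_eq_mul_left hCpos h2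
  have hnorm := Subgroup.normal_of_index_eq_two hidx
  have hxC : (⟨x, hx⟩ : L) ∈ (cenL L x).subgroupOf L := by
    rw [Subgroup.mem_subgroupOf]; exact mem_cenL.2 ⟨hx, rfl⟩
  have h5 := hnorm.conj_mem _ hxC ⟨g, hg⟩
  rw [Subgroup.mem_subgroupOf] at h5
  have h6 : g * x * g⁻¹ ∈ cenL L x := h5
  exact (mem_cenL.1 h6).2

/-- the dihedral outcome: the centralizer order is exactly `q ± 1` -/
theorem dke_dih_cA (h2 : (2 : F) = 0) (p : ℕ) [Fact p.Prime] [CharP F p]
    (h4 : 4 ≤ Fintype.card F)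
    (L : Subgroup (S2 F)) (hco : ∀ N : Subgroup (S2 F), L ≤ N → N = L ∨ N = ⊤)
    (x : S2 F) (hx : x ∈ L) (hss : tr x ^ 2 ≠ 4) (hcard : Nat.card L = 2 * cA L x) :
    cA L x = Fintype.card F - 1 ∨ cA L x = Fintype.card F + 1 := by
  have hall : ∀ g ∈ L, g * x * g⁻¹ = x ∨ g * x * g⁻¹ = x⁻¹ := by
    intro g hg
    exact eq_or_inv x (g * x * g⁻¹) hss (dke_idx2 L x hx hcard g hg) (tr_conj g x)
  have hL := dke_eq_N p h4 L hco x hss hall
  have hle : Subgroup.centralizer ({x} : Set (S2 F)) ≤ L := by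
    intro c hc
    rw [hL]
    left
    have h1 : x * c = c * x := Subgroup.mem_centralizer_iff.1 hc x rfl
    rw [← h1]; group
  have e : cenL L x = Subgroup.centralizer {x} := by
    unfold cenL; exact inf_eq_right.2 hle
  unfold cA
  rw [e]
  exact dke_card_cent h2 x hss

/-- the Borel outcome -/
theorem dke_bor (L : Subgroup (S2 F)) (hco : ∀ N : Subgroup (S2 F), L ≤ N → N = L ∨ N = ⊤)
    (g : S2 F) (hg : ∀ ℓ ∈ L, (g * ℓ * g⁻¹) 1 0 = 0) :
    Nat.card L = Fintype.card F * (Fintype.card F - 1) := by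
  have hconj : ∀ y : S2 F, (MulAut.conj g⁻¹) y = g⁻¹ * y * g := fun y => by simp
  have hle : L ≤ (Bor F).map (MulAut.conj g⁻¹).toMonoidHom := by
    intro ℓ hℓ
    refine ⟨g * ℓ * g⁻¹, hg ℓ hℓ, ?_⟩
    show (MulAut.conj g⁻¹) (g * ℓ * g⁻¹) = ℓ
    rw [hconj]; group
  have hc : Nat.card ((Bor F).map (MulAut.conj g⁻¹).toMonoidHom)
      = Fintype.card F * (Fintype.card F - 1) := by
    rw [card_map, card_Bor]
  rcases hco _ hle with h | h
  · rw [← h, hc]
  · exfalso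
    rw [h, Subgroup.card_top, card_S2] at hc
    have hq2 : 2 ≤ Fintype.card F := Fintype.one_lt_card
    obtain ⟨m, hm⟩ : ∃ m, Fintype.card F = m + 2 := ⟨Fintype.card F - 2, by omega⟩
    rw [hm] at hc
    have e1 : (m + 2) ^ 2 - 1 = m ^ 2 + 4 * m + 3 := by
      have : (m + 2) ^ 2 = m ^ 2 + 4 * m + 4 := by ring
      omega
    rw [e1] at hc
    have h5 := Nat.eq_of_mul_eq_mul_left (by omega : 0 < m + 2) hc
    have := Nat.zero_le (m ^ 2)
    omega

/-- the trivial outcome is impossible -/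
theorem dke_not_triv (h2 : (2 : F) = 0) (L : Subgroup (S2 F))
    (hco : ∀ N : Subgroup (S2 F), L ≤ N → N = L ∨ N = ⊤)
    (hL : L = Subgroup.center (S2 F)) : False := by
  have hq2 : 2 ≤ Fintype.card F := Fintype.one_lt_card
  have hU : Nat.card (UU F) = Fintype.card F := card_UU
  have hle : L ≤ UU F := by
    rw [hL]
    intro g hg
    rcases isSc_eq g ((isSc_iff_center g).2 hg) with h | h
    · rw [h]; exact (UU F).one_mem
    · rw [h, negOne_eq_one h2]; exact (UU F).one_mem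
  rcases hco _ hle with h | h
  · rw [h, hL, center_card_one h2] at hU
    omega
  · rw [h, Subgroup.card_top, card_S2] at hU
    obtain ⟨m, hm⟩ : ∃ m, Fintype.card F = m + 2 := ⟨Fintype.card F - 2, by omega⟩
    rw [hm] at hU
    have e1 : (m + 2) ^ 2 - 1 = m ^ 2 + 4 * m + 3 := by
      have : (m + 2) ^ 2 = m ^ 2 + 4 * m + 4 := by ring
      omega
    rw [e1] at hU
    have e2 : (m + 2) * (m ^ 2 + 4 * m + 3) = m ^ 3 + 6 * m ^ 2 + 11 * m + 6 := by ring
    rw [e2] at hU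
    have := Nat.zero_le (m ^ 3)
    have := Nat.zero_le (m ^ 2)
    omega

/-- numerics for the small cases in characteristic `2` -/
theorem dke_num (N q' k t b : ℕ) (hN : N = 12 ∨ N = 24 ∨ N = 60) (hq' : q' = 2 ^ b)
    (hq2 : 2 ≤ q') (hk1 : 1 ≤ k) (hkd : k ∣ q' - 1) (hc : N = k * q' * (1 + t * q')) :
    t = 0 ∨ (q' = 4 ∧ k = 3 ∧ t = 1) := by
  have hb : b ≤ 5 := by
    by_contra hb
    have h1 : 2 ^ 6 ≤ 2 ^ b := Nat.pow_le_pow_right (by norm_num) (by omega)
    have h2 : q' ≤ N := by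
      rw [hc]
      calc q' = 1 * q' * 1 := by ring
        _ ≤ k * q' * (1 + t * q') := by
          apply Nat.mul_le_mul (Nat.mul_le_mul hk1 le_rfl); omega
    rw [hq'] at h2
    norm_num at h1
    omega
  have hkle : k ≤ q' - 1 := Nat.le_of_dvd (by omega) hkd
  interval_cases b
  · omega
  · subst hq'
    interval_cases k
    rcases hN with rfl | rfl | rfl <;> omega
  · subst hq'
    interval_cases k <;> norm_num at hkd <;> rcases hN with rfl | rfl | rfl <;> omega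
  · subst hq'
    interval_cases k <;> norm_num at hkd <;> rcases hN with rfl | rfl | rfl <;> omega
  · subst hq'
    interval_cases k <;> rcases hN with rfl | rfl | rfl <;> omega
  · subst hq'
    interval_cases k <;> rcases hN with rfl | rfl | rfl <;> omega

/-- an involution in a subgroup of even order -/
theorem dke_invol (h2 : (2 : F) = 0) (p : ℕ) [Fact p.Prime] [CharP F p] (L : Subgroup (S2 F))
    (hev : 2 ∣ Nat.card L) : ∃ x₀ ∈ L, ¬ IsSc x₀ ∧ tr x₀ ^ 2 = 4 := by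
  have hf2 : Fact (Nat.Prime 2) := ⟨Nat.prime_two⟩
  obtain ⟨x, hx⟩ := exists_prime_orderOf_dvd_card' 2 hev
  have hx2 : orderOf (x : S2 F) = 2 := by rw [Subgroup.orderOf_coe]; exact hx
  have hpow : (x : S2 F) ^ 2 = 1 := by
    have h := pow_orderOf_eq_one (x : S2 F)
    rwa [hx2] at h
  have hne : (x : S2 F) ≠ 1 := by
    intro h
    rw [h, orderOf_one] at hx2
    omega
  have hp2 : p = 2 := by
    have hp2' : p ∣ 2 := (CharP.cast_eq_zero_iff F p 2).1 (by exact_mod_cast h2)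
    exact (Nat.prime_dvd_prime_iff_eq (Fact.out : p.Prime) Nat.prime_two).1 hp2'
  subst hp2
  refine ⟨x, x.2, ?_, ?_⟩
  · intro hsc
    rcases isSc_eq _ hsc with h | h
    · exact hne h
    · exact hne (by rw [h, negOne_eq_one h2])
  · rw [tr_of_pow_char 2 (x : S2 F) hpow]; norm_num

end Even2

end Cfsg.Agent.Lib.Helper54
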