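import Mathlib
import Cfsg.Agent.Lib.Helper51.GFDefs2
import Cfsg.Agent.Lib.Helper54.OrthInnPlus
import Cfsg.Agent.Lib.Helper54.OrthDih

/-!
# Piece GF-H1 of helper51's S2717 project: when is the diagonal similarity `gH` inner.
-/

set_option autoImplicit false
set_option linter.unusedSectionVars false
set_option linter.unusedVariables false

namespace Cfsg.Agent.Lib.Helper54.GFH1

open Module QuadraticMap Matrix
open Cfsg Cfsg.Agent.Lib.Helper51 Cfsg.Agent.Lib.Helper54 Cfsg.Agent.Lib.Helper51.GF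

universe u

theorem gH_inner_iff {F : Type u} [Field F] [Fintype F] (h2 : (2 : F) ≠ 0)
    (hF4 : Fintype.card F % 4 = 1) {k : ℕ} (hk : 4 ≤ k)
    (c nu nu1 nu2 : F) (hc : c ≠ 0) (hnu : nu ^ 2 = c) (h12 : nu1 * nu2 = c)
    (h : ↥(Geo.quadSimilarityGroup (F := F) ⇑(QPlus (k + 1) F)))
    (hh : ((h : GL (Fin (k + 1) ⊕ Fin (k + 1)) F) : Matrix _ _ F) = gH k c nu1 nu2) :
    simAut ⇑(QPlus (k + 1) F) h ∈ Inn (POmega F ⇑(QPlus (k + 1) F)) ↔
      IsSquare (nu ^ (k + 1) * nu1) := by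
  classical
  have hnu0 : nu ≠ 0 := by
    rintro rfl
    apply hc
    rw [← hnu]
    simp
  have hnu1 : nu1 ≠ 0 := by
    rintro rfl
    apply hc
    rw [← h12, zero_mul]
  have hnu2 : nu2 ≠ 0 := by
    rintro rfl
    apply hc
    rw [← h12, mul_zero]
  have hodd : Odd (Fintype.card F) := by
    rw [Nat.odd_iff]
    omega
  have hF := ringChar_ne_two_of_odd hodd
  have hm1 : 1 ≤ k + 1 := by omega
  have hm3 : 3 ≤ k + 1 := by omega
  have hs : IsSquare (-1 : F) := by
    rw [FiniteField.isSquare_neg_one_iff]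
    omega
  have hneg : negO (QPlus (k + 1) F) ∈ commutator ↥(isometryGroup F ⇑(QPlus (k + 1) F)) := by
    rw [negO_mem_plus_iff h2]
    exact Or.inl hs
  -- the diagonal
  obtain ⟨u, hu1, hu2⟩ : ∃ u : Fin (k + 1) → Fˣ,
      (∀ i : Fin k, ((u i.castSucc : Fˣ) : F) = nu) ∧ ((u (Fin.last k) : Fˣ) : F) = nu1 / nu :=
    ⟨Fin.lastCases (Units.mk0 (nu1 / nu) (div_ne_zero hnu1 hnu0)) (fun _ => Units.mk0 nu hnu0),
      fun i => by simp, by simp⟩
  obtain ⟨L, hL⟩ : ∃ L : ↥(isometryGroup F ⇑(QPlus (k + 1) F)), L = Lhom (diagGL u) := ⟨_, rfl⟩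
  have hmat : ((h : GL (Fin (k + 1) ⊕ Fin (k + 1)) F) :
      Matrix (Fin (k + 1) ⊕ Fin (k + 1)) (Fin (k + 1) ⊕ Fin (k + 1)) F) =
      nu • (((L : ↥(isometryGroup F ⇑(QPlus (k + 1) F))) : GL (Fin (k + 1) ⊕ Fin (k + 1)) F) :
        Matrix (Fin (k + 1) ⊕ Fin (k + 1)) (Fin (k + 1) ⊕ Fin (k + 1)) F) := by
    rw [hh, hL, coe_Lhom, coe_diagGL]
    have hinv : (diagonal (fun i => ((u i : Fˣ) : F)))⁻¹ =
        diagonal (fun i => ((u i : Fˣ) : F)⁻¹) := by
      apply Matrix.inv_eq_right_inv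
      rw [diagonal_mul_diagonal, ← diagonal_one]
      congr 1
      funext i
      exact mul_inv_cancel₀ (u i).ne_zero
    rw [hinv, diagonal_transpose, fromBlocks_diagonal, ← diagonal_smul]
    unfold gH
    congr 1
    funext j
    rcases j with j | j
    · refine Fin.lastCases ?_ (fun i => ?_) j
      · simp only [Sum.elim_inl, Fin.lastCases_last, Pi.smul_apply, smul_eq_mul, hu2]
        field_simp
      · simp only [Sum.elim_inl, Fin.lastCases_castSucc, Pi.smul_apply, smul_eq_mul, hu1]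
        rw [← hnu]
        ring
    · refine Fin.lastCases ?_ (fun i => ?_) j
      · simp only [Sum.elim_inr, Fin.lastCases_last, Pi.smul_apply, smul_eq_mul, hu2]
        rw [← hnu] at h12
        field_simp
        linear_combination h12
      · simp only [Sum.elim_inr, Fin.lastCases_castSucc, Pi.smul_apply, smul_eq_mul, hu1]
        field_simp
  have hprod : h = scalarSim (QPlus (k + 1) F) (Units.mk0 nu hnu0) *
      isoSim (QPlus (k + 1) F) L := by
    apply Subtype.ext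
    apply Units.ext
    rw [hmat]
    show _ = (nu • (1 : Matrix (Fin (k + 1) ⊕ Fin (k + 1)) (Fin (k + 1) ⊕ Fin (k + 1)) F)) *
      (((L : ↥(isometryGroup F ⇑(QPlus (k + 1) F))) : GL (Fin (k + 1) ⊕ Fin (k + 1)) F) :
        Matrix (Fin (k + 1) ⊕ Fin (k + 1)) (Fin (k + 1) ⊕ Fin (k + 1)) F)
    rw [Matrix.smul_mul, Matrix.one_mul]
  have hsim : simAut ⇑(QPlus (k + 1) F) h = simAut ⇑(QPlus (k + 1) F)
      (isoSim (QPlus (k + 1) F) L) := by
    rw [hprod, map_mul, simAut_of_scalar _ _ nu (coe_scalarSim _ _), one_mul]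
  have key : simAut ⇑(QPlus (k + 1) F) (isoSim (QPlus (k + 1) F) L) ∈
      ((omegaGL ⇑(QPlus (k + 1) F)).subgroupOf
        (Geo.quadSimilarityGroup (F := F) ⇑(QPlus (k + 1) F))).map (simAut ⇑(QPlus (k + 1) F)) ↔
      isoSim (QPlus (k + 1) F) L ∈ (omegaGL ⇑(QPlus (k + 1) F)).subgroupOf
        (Geo.quadSimilarityGroup (F := F) ⇑(QPlus (k + 1) F)) ⊔
        (simAut ⇑(QPlus (k + 1) F)).ker := by
    rw [← Subgroup.comap_map_eq]
    rfl
  rw [hsim, inn_eq, key, iso_mem_join_iff _ (hv_plus hm1) (simAut_ker_plus hm3) hneg L]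
  -- determinant and spinor character of `L`
  have hdet : detO (QPlus (k + 1) F) L = 1 := by
    have h1 := hom_diagGL ((detO (QPlus (k + 1) F)).comp Lhom) (⟨0, hm1⟩ : Fin (k + 1)) u
    rw [MonoidHom.comp_apply, MonoidHom.comp_apply, Lhom_dGL, map_mul, detO_refl, detO_refl]
      at h1
    rw [hL, h1]
    simp
  have hspin := hom_diagGL ((spinChar (QPlus (k + 1) F) 1).comp Lhom) (⟨0, hm1⟩ : Fin (k + 1)) u
  rw [MonoidHom.comp_apply, MonoidHom.comp_apply, Lhom_dGL, map_mul,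
    spinChar_refl_of_isSquare _ h2 1 one_ne_zero _ _ (by
      rw [(hypPlus (k + 1) F ⟨0, hm1⟩).Q_minus, one_mul]; exact hs), ← hL] at hspin
  have hU : ((∏ i, u i : Fˣ) : F) = nu ^ k * (nu1 / nu) := by
    rw [Units.coe_prod, Fin.prod_univ_castSucc, hu2]
    simp only [hu1, Finset.prod_const, Finset.card_univ, Fintype.card_fin]
  have hsqU : IsSquare (((∏ i, u i : Fˣ) : F)) ↔ IsSquare (nu ^ (k + 1) * nu1) := by
    rw [hU]
    constructor
    · rintro ⟨r, hr⟩
      refine ⟨r * nu, ?_⟩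
      have e1 : nu ^ (k + 1) * nu1 = nu ^ k * (nu1 / nu) * (nu * nu) := by
        field_simp
        ring
      rw [e1, hr]
      ring
    · rintro ⟨r, hr⟩
      refine ⟨r / nu, ?_⟩
      have e1 : nu ^ k * (nu1 / nu) = nu ^ (k + 1) * nu1 / (nu * nu) := by
        field_simp
        ring
      rw [e1, hr]
      field_simp
  rw [← hsqU]
  obtain ⟨i0, hi0⟩ := hs
  by_cases hsq : IsSquare (((∏ i, u i : Fˣ) : F))
  · have h3 : spinChar (QPlus (k + 1) F) 1 L = 1 := by
      rw [hspin, spinChar_refl_of_isSquare _ h2 1 one_ne_zero _ _ (by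
        rw [(hypPlus (k + 1) F ⟨0, hm1⟩).Q_scale, one_mul]
        obtain ⟨r, hr⟩ := hsq
        exact ⟨i0 * r, by rw [hr]; linear_combination (r * r) * hi0⟩)]
      decide
    exact ⟨fun _ => hsq, fun _ => mem_commutator_of_det_spin (QPlus (k + 1) F) hF polarSep_plus L
      hdet h3⟩
  · have h3 : spinChar (QPlus (k + 1) F) 1 L = -1 := by
      rw [hspin, spinChar_refl_of_not_isSquare _ h2 1 one_ne_zero _ _ (by
        rw [(hypPlus (k + 1) F ⟨0, hm1⟩).Q_scale, one_mul]
        rintro ⟨r, hr⟩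
        apply hsq
        have hi00 : i0 ≠ 0 := by
          rintro rfl
          simp at hi0
        refine ⟨r / i0, ?_⟩
        field_simp
        linear_combination hr - (((∏ i, u i : Fˣ) : F)) * hi0)]
      decide
    constructor
    · intro hmem
      have h4 := spinChar_eq_one_of_mem (QPlus (k + 1) F) 1 L hmem
      rw [h3] at h4
      exact absurd h4 (by decide)
    · intro h5
      exact absurd h5 hsq

end Cfsg.Agent.Lib.Helper54.GFH1
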