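import Mathlib
import Cfsg.Agent.Lib.Helper38.CosetCore

/-!
Piece MATCHK (helper54, for helper38 / S5547): a kernel-friendly checker for products of square
matrices over `ZMod p` packed into one natural number (4 bits per entry, row-major), with its
soundness.  The definitions are those of `tools/helper38/MatChkSkel.lean.txt`, verbatim.
-/

set_option autoImplicit false

namespace Cfsg.Agent.Lib.Helper54.MatChk

open Cfsg.Agent.Lib.Helper38

/-- entry `(i, j)` of a packed `n × n` matrix -/
noncomputable def ent (n D i j : ℕ) : ℕ :=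
  Nat.land (Nat.shiftRight D (Nat.mul 4 (Nat.add (Nat.mul n i) j))) 15

/-- the matrix over `ZMod p` given by a packed matrix -/
noncomputable def toM (n p D : ℕ) : Matrix (Fin n) (Fin n) (ZMod p) :=
  Matrix.of fun i j => ((ent n D i j : ℕ) : ZMod p)

/-- `∑ j < m, A i j * B j k` -/
noncomputable def dot (n A B i k : ℕ) (m : ℕ) : ℕ :=
  Nat.rec 0 (fun j acc => Nat.add acc (Nat.mul (ent n A i j) (ent n B j k))) m

/-- the product of the packed matrices `A` and `B` is `C` modulo `p` -/
noncomputable def chk (n p A B C : ℕ) : Bool :=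
  allB n (fun i => allB n (fun k => Nat.beq (Nat.mod (dot n A B i k n) p) (ent n C i k)))

/-- the packed matrix `D` is the identity -/
noncomputable def chkOne (n D : ℕ) : Bool :=
  allB n (fun i => allB n (fun j => Nat.beq (ent n D i j) (sel (Nat.beq i j) 1 0)))

theorem dot_succ (n A B i k m : ℕ) :
    dot n A B i k (m + 1) = dot n A B i k m + ent n A i m * ent n B m k := rfl

theorem dot_eq_sum (n A B i k m : ℕ) :
    dot n A B i k m = ∑ j ∈ Finset.range m, ent n A i j * ent n B j k := by
  induction m with
  | zero => rfl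
  | succ m ih => rw [dot_succ, Finset.sum_range_succ, ih]

theorem chk_sound (n p A B C : ℕ) (h : chk n p A B C = true) :
    toM n p A * toM n p B = toM n p C := by
  unfold chk at h
  rw [allB_iff] at h
  ext i k
  have h1 := h i i.2
  rw [allB_iff] at h1
  have h2 := h1 k k.2
  rw [beq_iff] at h2
  have h3 : dot n A B i k n % p = ent n C i k := h2
  rw [Matrix.mul_apply]
  simp only [toM, Matrix.of_apply]
  rw [← h3, ZMod.natCast_mod, dot_eq_sum, Nat.cast_sum,
    ← Fin.sum_univ_eq_sum_range (fun j => ((ent n A i j * ent n B j k : ℕ) : ZMod p)) n]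
  refine Finset.sum_congr rfl (fun j _ => ?_)
  rw [Nat.cast_mul]

theorem chkOne_sound (n p D : ℕ) (h : chkOne n D = true) : toM n p D = 1 := by
  unfold chkOne at h
  rw [allB_iff] at h
  ext i j
  have h1 := h i i.2
  rw [allB_iff] at h1
  have h2 := h1 j j.2
  rw [beq_iff] at h2
  simp only [toM, Matrix.of_apply]
  rw [h2, Matrix.one_apply]
  by_cases hij : i = j
  · subst hij
    have hb : Nat.beq (i : ℕ) (i : ℕ) = true := beq_iff.mpr rfl
    rw [hb, sel_true, if_pos rfl, Nat.cast_one]
  · have hij' : (i : ℕ) ≠ (j : ℕ) := fun e => hij (Fin.ext e)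
    have hb : Nat.beq (i : ℕ) (j : ℕ) = false := by
      cases hc : Nat.beq (i : ℕ) (j : ℕ) with
      | false => rfl
      | true => exact absurd (beq_iff.mp hc) hij'
    rw [hb, sel_false, if_neg hij, Nat.cast_zero]

end Cfsg.Agent.Lib.Helper54.MatChk
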