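import Mathlib
import Cfsg.Agent.Lib.Helper54.DkEven2

set_option autoImplicit false

namespace Cfsg.Agent.Lib.Helper54

open Matrix Cfsg.Agent.S0809 Cfsg.Agent.Lib.Helper19.Dk

section N13a

variable {F : Type*} [Field F] [Fintype F]

theorem n13_charP (hq : Fintype.card F = 13) : CharP F 13 := by
  obtain ⟨p, hp⟩ := CharP.exists F
  obtain ⟨n, hprime, hqn⟩ := FiniteField.card F p
  rw [hq] at hqn
  have h13 : Nat.Prime 13 := by norm_num
  have hd : p ∣ 13 := by rw [hqn]; exact dvd_pow_self p n.ne_zero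
  have h2 : p = 13 := (Nat.prime_dvd_prime_iff_eq hprime h13).1 hd
  subst h2
  exact hp

theorem n13_two (hq : Fintype.card F = 13) : (2 : F) ≠ 0 := by
  have := n13_charP hq
  intro h
  have h1 : ((2 : ℕ) : F) = 0 := by exact_mod_cast h
  rw [CharP.cast_eq_zero_iff F 13] at h1
  omega

theorem n13_card_S2 (hq : Fintype.card F = 13) : Nat.card (S2 F) = 2184 := by
  rw [card_S2, hq]; norm_num

theorem n13_card_cent (hq : Fintype.card F = 13) (x : S2 F) (hx : tr x ^ 2 ≠ 4) :
    Nat.card (Subgroup.centralizer ({x} : Set (S2 F))) = 12 ∨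
    Nat.card (Subgroup.centralizer ({x} : Set (S2 F))) = 14 := by
  have h := card_centralizer_singleton (n13_two hq) x (by
    have e : (x : Matrix (Fin 2) (Fin 2) F).trace = tr x := by
      rw [Matrix.trace_fin_two]; rfl
    rw [e]; exact hx)
  rw [hq] at h
  exact h

omit [Fintype F] in
theorem n13_mem_cent (x g : S2 F) :
    g ∈ Subgroup.centralizer ({x} : Set (S2 F)) ↔ g * x * g⁻¹ = x := by
  rw [Subgroup.mem_centralizer_iff]
  constructor
  · intro h
    have h1 : x * g = g * x := h x rfl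
    rw [← h1]; group
  · intro h y hy
    rw [Set.mem_singleton_iff] at hy
    rw [hy]
    exact ((conj_eq_iff g x x).1 h).symm

theorem n13_card_N (x : S2 F) (hx : tr x ^ 2 ≠ 4) :
    Nat.card (dkeN x) = 2 * Nat.card (Subgroup.centralizer ({x} : Set (S2 F))) := by
  obtain ⟨w, -, hw⟩ := exists_inverting x hx
  have hCN : Subgroup.centralizer ({x} : Set (S2 F)) ≤ dkeN x := by
    intro c hc
    rw [dke_mem_N]
    left
    exact (n13_mem_cent x c).1 hc
  have hwN : w ∈ dkeN x := (dke_mem_N x w).2 (Or.inr hw)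
  have hne := ne_inv_of_ss x hx
  have hidx : ((Subgroup.centralizer ({x} : Set (S2 F))).subgroupOf (dkeN x)).index = 2 := by
    rw [Subgroup.index_eq_two_iff]
    refine ⟨⟨w, hwN⟩, ?_⟩
    rintro ⟨b, hb⟩
    simp only [Subgroup.mem_subgroupOf, Subgroup.coe_mul, n13_mem_cent]
    have e : b * w * x * (b * w)⁻¹ = b * (w * x * w⁻¹) * b⁻¹ := by group
    rw [e, hw]
    rcases (dke_mem_N x b).1 hb with h | h
    · right
      refine ⟨h, ?_⟩
      intro h'
      have e2 : b * x⁻¹ * b⁻¹ = (b * x * b⁻¹)⁻¹ := by group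
      rw [e2, h] at h'
      exact hne h'.symm
    · left
      refine ⟨?_, ?_⟩
      · have e2 : b * x⁻¹ * b⁻¹ = (b * x * b⁻¹)⁻¹ := by group
        rw [e2, h, inv_inv]
      · intro h'
        rw [h] at h'
        exact hne h'.symm
  have h1 := Subgroup.card_mul_index
    ((Subgroup.centralizer ({x} : Set (S2 F))).subgroupOf (dkeN x))
  rw [hidx, Nat.card_congr (Subgroup.subgroupOfEquivOfLe hCN).toEquiv] at h1
  omega

theorem n13_cases (hq : Fintype.card F = 13) (L : Subgroup (S2 F))
    (hZ : Subgroup.center (S2 F) ≤ L) :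
    L = Subgroup.center (S2 F) ∨
    (∃ x ∈ L, tr x ^ 2 ≠ 4 ∧ ∀ g ∈ L, g * x = x * g) ∨
    (∃ x ∈ L, tr x ^ 2 ≠ 4 ∧ Nat.card L = 2 * cA L x) ∨
    (∃ g : S2 F, ∀ ℓ ∈ L, (g * ℓ * g⁻¹) 1 0 = 0) ∨
    Nat.card L = 24 ∨ L = ⊤ := by
  have := n13_charP hq
  have : Fact (Nat.Prime 13) := ⟨by norm_num⟩
  have h2 := n13_two hq
  have hz := center_card_two h2
  have hG := n13_card_S2 hq
  have hdvd : Nat.card L ∣ 2184 := by rw [← hG]; exact Subgroup.card_subgroup_dvd_card L
  rcases main_cases 13 L hZ with h | h | h | h | h | h | h | h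
  · exact Or.inl h
  · exact Or.inr (Or.inl h)
  · exact Or.inr (Or.inr (Or.inl h))
  · exact Or.inr (Or.inr (Or.inr (Or.inl h)))
  · right; right; right; right; left
    rw [h.1, hz]
  · exfalso
    have h1 := h.1
    rw [hz] at h1
    rw [h1] at hdvd
    omega
  · exfalso
    have h1 := h.1
    rw [hz] at h1
    rw [h1] at hdvd
    omega
  · right; right; right; right; right
    obtain ⟨x₀, hx₀L, hsc, htr, q', k, hq3, hcA, hcN, hcard, hk⟩ := h
    have hnegL : (S0809.negOne : S2 F) ∈ L := hZ ((isSc_iff_center _).1 isSc_negOne)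
    -- an element of order 13 in the centralizer
    have hy : ∃ y ∈ cenL L x₀, y ≠ 1 ∧ y ^ 13 = 1 := by
      have h4 : (tr x₀ - 2) * (tr x₀ + 2) = 0 := by linear_combination htr
      rcases mul_eq_zero.1 h4 with h | h
      · have ht : tr x₀ = 2 := by linear_combination h
        refine ⟨x₀, mem_cenL.2 ⟨hx₀L, rfl⟩, ?_, pow_char_of_tr 13 x₀ ht⟩
        intro h1
        apply hsc
        rw [h1]; exact isSc_one
      · have ht : tr (S0809.negOne * x₀) = 2 := by
          rw [tr_negOne_mul]; linear_combination -h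
        refine ⟨S0809.negOne * x₀, mem_cenL.2 ⟨L.mul_mem hnegL hx₀L, ?_⟩, ?_,
          pow_char_of_tr 13 _ ht⟩
        · rw [← mul_assoc x₀, ← negOne_mul x₀]
        · intro h1
          apply hsc
          have e : x₀ = S0809.negOne := by
            have := congrArg (fun t => S0809.negOne * t) h1
            simp only [← mul_assoc, negOne_sq, one_mul, mul_one] at this
            exact this
          rw [e]; exact isSc_negOne
    obtain ⟨y, hyC, hy1, hy13⟩ := hy
    have hord : orderOf y = 13 := orderOf_eq_prime hy13 hy1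
    have h13 : 13 ∣ cA L x₀ := by
      unfold cA
      rw [← hord]
      exact Subgroup.orderOf_dvd_natCard _ hyC
    rw [hcA, hz] at h13
    have h13' : 13 ∣ q' := by
      have hc : Nat.Coprime 13 2 := by norm_num
      exact hc.dvd_of_dvd_mul_left h13
    have hq13 : 13 ≤ q' := Nat.le_of_dvd (by omega) h13'
    have hge : 2184 ≤ Nat.card L := by
      rw [hcard, hz]
      have h2k : 12 ≤ 2 * k := by omega
      calc 2184 = 12 * 13 * 14 := by norm_num
        _ ≤ (2 * k) * q' * (1 + q') :=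
          Nat.mul_le_mul (Nat.mul_le_mul h2k hq13) (by omega)
    have hle : Nat.card L ≤ 2184 := Nat.le_of_dvd (by norm_num) hdvd
    apply (Subgroup.card_eq_iff_eq_top L).1
    rw [hG]; omega

theorem n13_orders (hq : Fintype.card F = 13) (L : Subgroup (S2 F))
    (hZ : Subgroup.center (S2 F) ≤ L) (hL : L ≠ ⊤) :
    Nat.card L ∣ 24 ∨ Nat.card L ∣ 28 ∨ Nat.card L ∣ 156 := by
  have h2 := n13_two hq
  rcases n13_cases hq L hZ with h | h | h | h | h | h
  · left; rw [h, center_card_two h2]; norm_num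
  · obtain ⟨x, hxL, hx, hc⟩ := h
    have hle : L ≤ Subgroup.centralizer ({x} : Set (S2 F)) := by
      intro g hg
      rw [Subgroup.mem_centralizer_iff]
      intro y hy
      rw [Set.mem_singleton_iff] at hy
      rw [hy]; exact (hc g hg).symm
    have hd := Subgroup.card_dvd_of_le hle
    rcases n13_card_cent hq x hx with h | h
    · left; rw [h] at hd; exact hd.trans (by norm_num)
    · right; left; rw [h] at hd; exact hd.trans (by norm_num)
  · obtain ⟨x, hxL, hx, hc⟩ := h
    have hle : cenL L x ≤ Subgroup.centralizer ({x} : Set (S2 F)) := inf_le_right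
    have hd := Subgroup.card_dvd_of_le hle
    rw [hc]
    unfold cA
    rcases n13_card_cent hq x hx with h | h
    · left; rw [h] at hd; exact Nat.mul_dvd_mul_left 2 hd
    · right; left; rw [h] at hd; exact Nat.mul_dvd_mul_left 2 hd
  · obtain ⟨g, hg⟩ := h
    right; right
    have hle : L.map (MulAut.conj g).toMonoidHom ≤ Bor F := by
      rintro _ ⟨ℓ, hℓ, rfl⟩
      rw [mem_Bor]
      exact hg ℓ hℓ
    have hd := Subgroup.card_dvd_of_le hle
    rw [card_map, card_Bor, hq] at hd
    exact hd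
  · left; rw [h]
  · exact absurd h hL

theorem n13_arith (n a : ℕ) (ha : a = 24 ∨ a = 28 ∨ a = 156) (h1 : a ∣ n)
    (h2 : n ∣ 24 ∨ n ∣ 28 ∨ n ∣ 156) : n = a := by
  rcases ha with rfl | rfl | rfl <;> rcases h2 with h | h | h
  all_goals first
    | exact Nat.dvd_antisymm h h1
    | (exfalso; have := Nat.dvd_trans h1 h; omega)

theorem n13_max (hq : Fintype.card F = 13) (N : Subgroup (S2 F))
    (hZ : Subgroup.center (S2 F) ≤ N)
    (hc : Nat.card N = 24 ∨ Nat.card N = 28 ∨ Nat.card N = 156) : IsCoatom N := by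
  have hG := n13_card_S2 hq
  refine ⟨?_, ?_⟩
  · intro h
    rw [h, Subgroup.card_top, hG] at hc
    omega
  · intro M hM
    by_contra hMt
    have ho := n13_orders hq M (hZ.trans hM.le) hMt
    have hd := Subgroup.card_dvd_of_le hM.le
    have h1 := n13_arith (Nat.card M) (Nat.card N) hc hd ho
    have h2 : N = M := Subgroup.eq_of_le_of_card_ge hM.le (by omega)
    exact hM.ne h2

theorem n13_cyc (L : Subgroup (S2 F)) (x : S2 F) (hx : tr x ^ 2 ≠ 4)
    (hc : ∀ g ∈ L, g * x = x * g) : dkeN x ≤ Subgroup.normalizer (L : Set (S2 F)) := by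
  intro g hg
  rw [mem_normalizer_fin]
  intro t ht
  rcases (dke_mem_N x g).1 hg with h | h
  · have h1 : g * x = x * g := (conj_eq_iff g x x).1 h
    have h2 : g * t = t * g := comm_trans g x t (not_isSc_of_tr x hx) h1 (hc t ht)
    have h3 : g * t * g⁻¹ = t := by rw [h2]; group
    rw [h3]; exact ht
  · have h3 := inv_of_inv x g t hx h (hc t ht)
    rw [h3]; exact L.inv_mem ht

end N13a

end Cfsg.Agent.Lib.Helper54
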