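import Mathlib
import Cfsg.Agent.Lib.Helper54.N13a

set_option autoImplicit false

namespace Cfsg.Agent.Lib.Helper54

open Matrix Cfsg.Agent.S0809 Cfsg.Agent.Lib.Helper19.Dk

section N13b

variable {F : Type*} [Field F] [Fintype F]

omit [Fintype F] in
theorem n13_coe_negOne : ((S0809.negOne : S2 F) : Matrix (Fin 2) (Fin 2) F) = -1 := by
  ext i j
  fin_cases i <;> fin_cases j <;> simp [S0809.negOne, mk2]

omit [Fintype F] in
theorem n13_q8 (x y : S2 F) (hx : x * x = S0809.negOne) (hy : y * y = S0809.negOne)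
    (hyx : y * x = S0809.negOne * (x * y)) (h2 : (2 : F) ≠ 0) :
    ∃ h : S2 F, h * x * h⁻¹ = y ∧ h * y * h⁻¹ = x * y := by
  set X : Matrix (Fin 2) (Fin 2) F := (x : Matrix (Fin 2) (Fin 2) F) with hXdef
  set Y : Matrix (Fin 2) (Fin 2) F := (y : Matrix (Fin 2) (Fin 2) F) with hYdef
  have hX : X * X = -1 := by
    have h := congrArg (fun g : S2 F => (g : Matrix (Fin 2) (Fin 2) F)) hx
    simpa [n13_coe_negOne] using h
  have hY : Y * Y = -1 := by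
    have h := congrArg (fun g : S2 F => (g : Matrix (Fin 2) (Fin 2) F)) hy
    simpa [n13_coe_negOne] using h
  have hYX : Y * X = -(X * Y) := by
    have h := congrArg (fun g : S2 F => (g : Matrix (Fin 2) (Fin 2) F)) hyx
    simpa [n13_coe_negOne] using h
  have hXX : ∀ Z : Matrix (Fin 2) (Fin 2) F, X * (X * Z) = -Z := fun Z => by
    rw [← Matrix.mul_assoc, hX, neg_mul, one_mul]
  have hYY : ∀ Z : Matrix (Fin 2) (Fin 2) F, Y * (Y * Z) = -Z := fun Z => by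
    rw [← Matrix.mul_assoc, hY, neg_mul, one_mul]
  have hYXZ : ∀ Z : Matrix (Fin 2) (Fin 2) F, Y * (X * Z) = -(X * (Y * Z)) := fun Z => by
    rw [← Matrix.mul_assoc, hYX, neg_mul, Matrix.mul_assoc]
  have hdetX : (1 + X).det = 2 := by
    rw [Matrix.det_fin_two]
    have h11 := tr_zero_of_sq x hx
    have hd := det2 x
    simp only [Matrix.add_apply, Matrix.one_apply_eq, Matrix.one_apply_ne, ne_eq,
      zero_ne_one, one_ne_zero, not_false_eq_true, Fin.isValue, zero_add, hXdef]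
    linear_combination hd + h11
  have hdetY : (1 + Y).det = 2 := by
    rw [Matrix.det_fin_two]
    have h11 := tr_zero_of_sq y hy
    have hd := det2 y
    simp only [Matrix.add_apply, Matrix.one_apply_eq, Matrix.one_apply_ne, ne_eq,
      zero_ne_one, one_ne_zero, not_false_eq_true, Fin.isValue, zero_add, hYdef]
    linear_combination hd + h11
  have hdetM : ((2⁻¹ : F) • ((1 + X) * (1 + Y))).det = 1 := by
    rw [Matrix.det_smul, Matrix.det_mul, hdetX, hdetY, Fintype.card_fin]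
    field_simp
  have e1 : (1 + X) * (1 + Y) * X = Y * ((1 + X) * (1 + Y)) := by
    simp only [mul_add, add_mul, mul_one, one_mul, Matrix.mul_assoc, hX, hY, hYX, hXX,
      hYXZ, mul_neg, neg_neg]
    abel
  have e2 : (1 + X) * (1 + Y) * Y = X * Y * ((1 + X) * (1 + Y)) := by
    simp only [mul_add, add_mul, mul_one, one_mul, Matrix.mul_assoc, hX, hY, hYX, hXX,
      hYXZ, mul_neg, neg_neg]
    abel
  obtain ⟨h, hh⟩ : ∃ h : S2 F, (h : Matrix (Fin 2) (Fin 2) F) = (2⁻¹ : F) • ((1 + X) * (1 + Y)) :=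
    ⟨⟨(2⁻¹ : F) • ((1 + X) * (1 + Y)), hdetM⟩, rfl⟩
  refine ⟨h, ?_, ?_⟩
  · rw [conj_eq_iff]
    apply Subtype.ext
    rw [Matrix.SpecialLinearGroup.coe_mul, Matrix.SpecialLinearGroup.coe_mul, hh]
    show (2⁻¹ : F) • ((1 + X) * (1 + Y)) * X = Y * ((2⁻¹ : F) • ((1 + X) * (1 + Y)))
    rw [Matrix.smul_mul, Matrix.mul_smul, e1]
  · rw [conj_eq_iff]
    apply Subtype.ext
    rw [Matrix.SpecialLinearGroup.coe_mul, Matrix.SpecialLinearGroup.coe_mul,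
      Matrix.SpecialLinearGroup.coe_mul, hh]
    show (2⁻¹ : F) • ((1 + X) * (1 + Y)) * Y = X * Y * ((2⁻¹ : F) • ((1 + X) * (1 + Y)))
    rw [Matrix.smul_mul, Matrix.mul_smul, e2]

omit [Fintype F] in
theorem n13_comm_uu (b t : S2 F) (hb : b 1 0 = 0) (ht : t 1 0 = 0) :
    b * t * b⁻¹ * t⁻¹ = uu ((b * t * b⁻¹ * t⁻¹) 0 1) := by
  apply eq_uu_of_bor
  · simp only [mul10, mul11, inv00, inv01, inv10, inv11, hb, ht]; ring
  · have hdb := det2 b
    have hdt := det2 t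
    rw [hb] at hdb; rw [ht] at hdt
    simp only [mul00, mul01, inv00, inv01, inv10, inv11, hb, ht]
    linear_combination (b 0 0 * b 1 1) * hdt + hdb

omit [Fintype F] in
theorem n13_bor_aux (g x : S2 F) (h10 : (g * x * g⁻¹) 1 0 = 0) (htr : tr x = 2)
    (hsc : ¬ IsSc x) : ∃ b₀ : F, b₀ ≠ 0 ∧ g * x * g⁻¹ = uu b₀ := by
  have ht : tr (g * x * g⁻¹) = 2 := by rw [tr_conj]; exact htr
  have hd := det2 (g * x * g⁻¹)
  rw [h10] at hd
  unfold tr at ht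
  have h00 : (g * x * g⁻¹) 0 0 = 1 := by
    have h1 : ((g * x * g⁻¹) 0 0 - 1) ^ 2 = 0 := by
      linear_combination -hd + (g * x * g⁻¹) 0 0 * ht
    have h2 := pow_eq_zero_iff (two_ne_zero) |>.1 h1
    linear_combination h2
  have e := eq_uu_of_bor _ h10 h00
  refine ⟨(g * x * g⁻¹) 0 1, ?_, e⟩
  intro h0
  apply hsc
  rw [h0, uu_zero] at e
  rw [← isSc_conj g x, e]
  exact isSc_one

theorem n13_bor (hq : Fintype.card F = 13) (L : Subgroup (S2 F))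
    (hZ : Subgroup.center (S2 F) ≤ L) (g : S2 F)
    (hg : ∀ ℓ ∈ L, (g * ℓ * g⁻¹) 1 0 = 0)
    (x₀ : S2 F) (hx₀L : x₀ ∈ L) (hsc : ¬ IsSc x₀) (htr : tr x₀ ^ 2 = 4) :
    156 ∣ Nat.card (Subgroup.normalizer (L : Set (S2 F))) := by
  have := n13_charP hq
  have : Fact (Nat.Prime 13) := ⟨by norm_num⟩
  have hnegL : (S0809.negOne : S2 F) ∈ L := hZ ((isSc_iff_center _).1 isSc_negOne)
  obtain ⟨x₁, hx₁L, b₀, hb₀, hx₁⟩ : ∃ x₁ ∈ L, ∃ b₀ : F, b₀ ≠ 0 ∧ g * x₁ * g⁻¹ = uu b₀ := by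
    have h4 : (tr x₀ - 2) * (tr x₀ + 2) = 0 := by linear_combination htr
    rcases mul_eq_zero.1 h4 with h | h
    · exact ⟨x₀, hx₀L, n13_bor_aux g x₀ (hg x₀ hx₀L) (by linear_combination h) hsc⟩
    · have hmem := L.mul_mem hnegL hx₀L
      refine ⟨S0809.negOne * x₀, hmem, n13_bor_aux g _ (hg _ hmem)
        (by rw [tr_negOne_mul]; linear_combination -h) ?_⟩
      intro h1
      exact hsc (isSc_negOne_mul x₀ h1)
  have hUU : ∀ β : F, g⁻¹ * uu β * g ∈ L := by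
    intro β
    have h13 : (uu b₀) ^ 13 = 1 := pow_char_of_tr 13 _ (tr_uu b₀)
    have hne1 : uu b₀ ≠ 1 := by
      intro h1
      exact not_isSc_uu b₀ hb₀ (h1 ▸ isSc_one)
    have hord : orderOf (uu b₀) = 13 := orderOf_eq_prime h13 hne1
    have hzp : Subgroup.zpowers (uu b₀) = UU F := by
      apply Subgroup.eq_of_le_of_card_ge
      · rw [Subgroup.zpowers_le]; exact (mem_UU _).2 ⟨b₀, rfl⟩
      · rw [Nat.card_zpowers, hord, card_UU, hq]
    have hmem : uu β ∈ Subgroup.zpowers (uu b₀) := by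
      rw [hzp]; exact (mem_UU _).2 ⟨β, rfl⟩
    obtain ⟨k, hk⟩ := Subgroup.mem_zpowers_iff.1 hmem
    have e : g⁻¹ * uu β * g = x₁ ^ k := by
      rw [← hk, ← hx₁, conj_zpow]; group
    rw [e]; exact L.zpow_mem hx₁L k
  have hle : (Bor F).map (MulAut.conj g⁻¹).toMonoidHom ≤
      Subgroup.normalizer (L : Set (S2 F)) := by
    rintro _ ⟨b, hb, rfl⟩
    rw [mem_normalizer_fin]
    intro t ht
    have hb' : b 1 0 = 0 := hb
    have ht' := hg t ht
    have e := n13_comm_uu b (g * t * g⁻¹) hb' ht'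
    have e2 : (MulAut.conj g⁻¹).toMonoidHom b * t * ((MulAut.conj g⁻¹).toMonoidHom b)⁻¹
        = (g⁻¹ * (b * (g * t * g⁻¹) * b⁻¹ * (g * t * g⁻¹)⁻¹) * g) * t := by
      show g⁻¹ * b * g⁻¹⁻¹ * t * (g⁻¹ * b * g⁻¹⁻¹)⁻¹ = _
      group
    rw [e2, e]
    exact L.mul_mem (hUU _) ht
  have hd := Subgroup.card_dvd_of_le hle
  rw [card_map, card_Bor, hq] at hd
  exact hd

omit [Fintype F] in
theorem n13_abel (L : Subgroup (S2 F)) (g : S2 F)
    (hg : ∀ ℓ ∈ L, (g * ℓ * g⁻¹) 1 0 = 0)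
    (hno : ∀ x₀ ∈ L, tr x₀ ^ 2 = 4 → IsSc x₀) : ∀ s ∈ L, ∀ t ∈ L, s * t = t * s := by
  intro s hs t ht
  have hcL : s * t * s⁻¹ * t⁻¹ ∈ L :=
    L.mul_mem (L.mul_mem (L.mul_mem hs ht) (L.inv_mem hs)) (L.inv_mem ht)
  have e := n13_comm_uu (g * s * g⁻¹) (g * t * g⁻¹) (hg s hs) (hg t ht)
  have e2 : g * s * g⁻¹ * (g * t * g⁻¹) * (g * s * g⁻¹)⁻¹ * (g * t * g⁻¹)⁻¹
      = g * (s * t * s⁻¹ * t⁻¹) * g⁻¹ := by group
  rw [e2] at e
  set β := (g * (s * t * s⁻¹ * t⁻¹) * g⁻¹) 0 1 with hβ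
  have htr : tr (s * t * s⁻¹ * t⁻¹) = 2 := by
    rw [← tr_conj g, e, tr_uu]
  have hsc := hno _ hcL (by rw [htr]; norm_num)
  have hsc' : IsSc (uu β) := by rw [← e]; exact (isSc_conj g _).2 hsc
  have hβ0 : β = 0 := by
    by_contra h
    exact not_isSc_uu β h hsc'
  rw [hβ0, uu_zero] at e
  have hc1 : s * t * s⁻¹ * t⁻¹ = 1 := by
    have h : g⁻¹ * (g * (s * t * s⁻¹ * t⁻¹) * g⁻¹) * g = g⁻¹ * 1 * g :=
      congrArg (fun z => g⁻¹ * z * g) e
    rw [show g⁻¹ * (g * (s * t * s⁻¹ * t⁻¹) * g⁻¹) * g = s * t * s⁻¹ * t⁻¹ by group] at h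
    rw [h]; group
  calc s * t = (s * t * s⁻¹ * t⁻¹) * (t * s) := by group
    _ = t * s := by rw [hc1, one_mul]

end N13b

end Cfsg.Agent.Lib.Helper54
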