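import Mathlib
import Cfsg.Agent.Lib.Helper54.SL2Cent

/-!
# Redundant Sylow subgroups of `SL₂(q)` (helper54)

A Sylow `p`-subgroup `Q` is *redundant* if every `p`-element lies in a Sylow `p`-subgroup other
than `Q`.  `SL₂(q)` has one iff `p = 2`, `q` odd and neither `q - 1` nor `q + 1` is a power of 2.
-/

set_option autoImplicit false

namespace Cfsg.Agent.Lib.Helper54

open Matrix Cfsg.Agent.Lib.Helper40

section general

/-- a conjugate of `Q` by an element centralizing `x ∈ Q` but not normalizing `Q` -/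
theorem exists_other_sylow {G : Type*} [Group G] {p : ℕ} (Q : Sylow p G) (x g : G) (hxQ : x ∈ Q)
    (hgx : g * x = x * g) (hg : g ∉ Subgroup.normalizer ((Q : Subgroup G) : Set G)) :
    ∃ P : Sylow p G, P ≠ Q ∧ x ∈ P := by
  refine ⟨g • Q, ?_, ?_⟩
  · intro h
    exact hg (Sylow.smul_eq_iff_mem_normalizer.mp h)
  · show x ∈ ((g • Q : Sylow p G) : Subgroup G)
    rw [Sylow.coe_subgroup_smul, Subgroup.mem_smul_pointwise_iff_exists]
    refine ⟨x, hxQ, ?_⟩
    show g * x * g⁻¹ = x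
    rw [hgx, mul_inv_cancel_right]

/-- a subgroup of index 2 (by cardinality) is normalized -/
theorem conj_mem_of_card_eq_two_mul {G : Type*} [Group G] (H P : Subgroup G) [Finite P]
    (hHP : H ≤ P) (hcard : Nat.card P = 2 * Nat.card H) (g h : G) (hg : g ∈ P) (hh : h ∈ H) :
    g * h * g⁻¹ ∈ H := by
  have hidx : (H.subgroupOf P).index = 2 := by
    have h1 := Subgroup.card_mul_index (H.subgroupOf P)
    rw [Nat.card_congr (Subgroup.subgroupOfEquivOfLe hHP).toEquiv, hcard] at h1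
    have hpos : 0 < Nat.card H := by
      have : Finite H := Finite.of_injective (Subgroup.inclusion hHP) (Subgroup.inclusion_injective hHP)
      exact Nat.card_pos
    have h2 : Nat.card H * (H.subgroupOf P).index = Nat.card H * 2 := by rw [h1]; ring
    exact Nat.eq_of_mul_eq_mul_left hpos h2
  have hn := Subgroup.normal_of_index_eq_two hidx
  have := hn.conj_mem (⟨h, hHP hh⟩ : P) (by rw [Subgroup.mem_subgroupOf]; exact hh) ⟨g, hg⟩
  rw [Subgroup.mem_subgroupOf] at this
  exact this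

end general

section red

variable {F : Type*} [Field F]

/-- general form of `QSyl.mem_of_comm`: an element of `N(P)` centralizing a noncentral `x`
inverted inside `P` lies in `P` -/
theorem sylow_two_mem_of_comm (P : Sylow 2 (SpecialLinearGroup (Fin 2) F))
    (x t g : SpecialLinearGroup (Fin 2) F)
    (ht : t ∈ (P : Subgroup (SpecialLinearGroup (Fin 2) F))) (hxx : x * x ≠ 1)
    (htx : t * x * t⁻¹ = x⁻¹)
    (hg : g ∈ Subgroup.normalizer ((P : Subgroup (SpecialLinearGroup (Fin 2) F)) :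
      Set (SpecialLinearGroup (Fin 2) F)))
    (hgx : g * x = x * g) : g ∈ (P : Subgroup (SpecialLinearGroup (Fin 2) F)) := by
  obtain ⟨α, β, hαβ⟩ := Helper14.mat2_commutant (x : Matrix (Fin 2) (Fin 2) F)
    (g : Matrix (Fin 2) (Fin 2) F) (Helper14.SL2_nonscalar x hxx) (congrArg Subtype.val hgx)
  have h1 := conj_inv_of_lin x t g htx α β hαβ
  apply sylow_two_mem_of_sq_mem P g hg
  have h2 : g * t⁻¹ * g⁻¹ ∈ (P : Subgroup (SpecialLinearGroup (Fin 2) F)) :=
    (Subgroup.mem_set_normalizer_iff.mp hg t⁻¹).mp (inv_mem ht)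
  have h3 : g⁻¹ * g⁻¹ ∈ (P : Subgroup (SpecialLinearGroup (Fin 2) F)) := by
    have : g⁻¹ * g⁻¹ = t * (g * t⁻¹ * g⁻¹) := by rw [← h1]; group
    rw [this]; exact mul_mem ht h2
  have : g * g = (g⁻¹ * g⁻¹)⁻¹ := by rw [_root_.mul_inv_rev, inv_inv]
  rw [this]; exact inv_mem h3

/-- Sylow subgroups of `SL₂(F)` all of whose nontrivial elements are nonscalar are abelian -/
theorem sylow_comm_of_nonscalar [Finite (SpecialLinearGroup (Fin 2) F)] (p : ℕ) [Fact p.Prime]
    (hns : ∀ x : SpecialLinearGroup (Fin 2) F, x ≠ 1 → (∃ k : ℕ, orderOf x = p ^ k) →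
      ∀ c : F, (x : Matrix (Fin 2) (Fin 2) F) ≠ c • 1)
    (R : Sylow p (SpecialLinearGroup (Fin 2) F)) (a b : SpecialLinearGroup (Fin 2) F)
    (ha : a ∈ (R : Subgroup (SpecialLinearGroup (Fin 2) F)))
    (hb : b ∈ (R : Subgroup (SpecialLinearGroup (Fin 2) F))) : a * b = b * a := by
  by_cases hR : Nontrivial (R : Subgroup (SpecialLinearGroup (Fin 2) F))
  · haveI := hR
    haveI := IsPGroup.center_nontrivial R.isPGroup'
    obtain ⟨z, hz⟩ :=
      exists_ne (1 : Subgroup.center (R : Subgroup (SpecialLinearGroup (Fin 2) F)))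
    have hz1 : ((z : (R : Subgroup (SpecialLinearGroup (Fin 2) F))) :
        SpecialLinearGroup (Fin 2) F) ≠ 1 := by
      intro h
      apply hz
      apply Subtype.ext; apply Subtype.ext; exact h
    have hzc : ∀ g : (R : Subgroup (SpecialLinearGroup (Fin 2) F)), g * z.1 = z.1 * g :=
      Subgroup.mem_center_iff.mp z.2
    have hzo : ∃ k, orderOf ((z : (R : Subgroup (SpecialLinearGroup (Fin 2) F))) :
        SpecialLinearGroup (Fin 2) F) = p ^ k := by
      obtain ⟨k, hk⟩ := (IsPGroup.iff_orderOf.mp R.isPGroup') z.1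
      exact ⟨k, by rw [Subgroup.orderOf_coe]; exact hk⟩
    have hzn := hns _ hz1 hzo
    have e1 : a * ((z : (R : Subgroup (SpecialLinearGroup (Fin 2) F))) :
        SpecialLinearGroup (Fin 2) F) = z.1 * a := congrArg Subtype.val (hzc ⟨a, ha⟩)
    have e2 : b * ((z : (R : Subgroup (SpecialLinearGroup (Fin 2) F))) :
        SpecialLinearGroup (Fin 2) F) = z.1 * b := congrArg Subtype.val (hzc ⟨b, hb⟩)
    exact Subtype.ext (Helper14.mat2_comm_of_comm _ _ _ hzn (congrArg Subtype.val e1)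
      (congrArg Subtype.val e2))
  · rw [not_nontrivial_iff_subsingleton] at hR
    have h1 : (⟨a, ha⟩ : (R : Subgroup (SpecialLinearGroup (Fin 2) F))) = ⟨b, hb⟩ :=
      Subsingleton.elim _ _
    have : a = b := congrArg Subtype.val h1
    rw [this]

/-- such Sylow subgroups are TI -/
theorem sylow_eq_of_common [Finite (SpecialLinearGroup (Fin 2) F)] (p : ℕ) [Fact p.Prime]
    (hns : ∀ x : SpecialLinearGroup (Fin 2) F, x ≠ 1 → (∃ k : ℕ, orderOf x = p ^ k) →
      ∀ c : F, (x : Matrix (Fin 2) (Fin 2) F) ≠ c • 1)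
    (P Q : Sylow p (SpecialLinearGroup (Fin 2) F)) (x : SpecialLinearGroup (Fin 2) F)
    (hxP : x ∈ (P : Subgroup (SpecialLinearGroup (Fin 2) F)))
    (hxQ : x ∈ (Q : Subgroup (SpecialLinearGroup (Fin 2) F))) (hx1 : x ≠ 1) : P = Q := by
  have hxo : ∃ k, orderOf x = p ^ k := by
    obtain ⟨k, hk⟩ := (IsPGroup.iff_orderOf.mp P.isPGroup') ⟨x, hxP⟩
    exact ⟨k, by rw [← hk, Subgroup.orderOf_mk]⟩
  have hxn := hns x hx1 hxo
  have hcomm : ∀ a ∈ (P : Subgroup (SpecialLinearGroup (Fin 2) F)),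
      ∀ b ∈ (Q : Subgroup (SpecialLinearGroup (Fin 2) F)), a * b = b * a := by
    intro a ha b hb
    have e1 := sylow_comm_of_nonscalar p hns P a x ha hxP
    have e2 := sylow_comm_of_nonscalar p hns Q b x hb hxQ
    exact Subtype.ext (Helper14.mat2_comm_of_comm _ _ _ hxn (congrArg Subtype.val e1)
      (congrArg Subtype.val e2))
  have hle : (P : Subgroup (SpecialLinearGroup (Fin 2) F)) ≤
      Subgroup.normalizer ((Q : Subgroup (SpecialLinearGroup (Fin 2) F)) :
        Set (SpecialLinearGroup (Fin 2) F)) := by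
    intro a ha
    rw [Subgroup.mem_set_normalizer_iff]
    intro h
    constructor
    · intro hh
      have : a * h * a⁻¹ = h := by rw [hcomm a ha h hh, mul_inv_cancel_right]
      rw [this]; exact hh
    · intro hh
      have e : a * (a * h * a⁻¹) = (a * h * a⁻¹) * a := hcomm a ha _ hh
      have e' : a * (a * h * a⁻¹) = a * h := by rw [e]; group
      have : h = a * h * a⁻¹ := (mul_left_cancel e').symm
      rw [this]; exact hh
  have hsup := IsPGroup.to_sup_of_normal_right' P.isPGroup' Q.isPGroup' hle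
  have h1 : (P : Subgroup (SpecialLinearGroup (Fin 2) F)) ⊔ Q = Q :=
    Q.is_maximal' hsup le_sup_right
  have hPQ : (P : Subgroup (SpecialLinearGroup (Fin 2) F)) ≤ Q := by
    rw [← h1]; exact le_sup_left
  have h2 : (Q : Subgroup (SpecialLinearGroup (Fin 2) F)) = P := P.is_maximal' Q.isPGroup' hPQ
  exact Sylow.ext h2.symm

/-- no redundant Sylow subgroup in the TI case -/
theorem no_redundant_of_nonscalar [Finite (SpecialLinearGroup (Fin 2) F)] (p : ℕ)
    [Fact p.Prime]
    (hns : ∀ x : SpecialLinearGroup (Fin 2) F, x ≠ 1 → (∃ k : ℕ, orderOf x = p ^ k) →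
      ∀ c : F, (x : Matrix (Fin 2) (Fin 2) F) ≠ c • 1)
    (Q : Sylow p (SpecialLinearGroup (Fin 2) F))
    (hQ : ∀ x : SpecialLinearGroup (Fin 2) F, (∃ k : ℕ, orderOf x = p ^ k) →
      ∃ P : Sylow p (SpecialLinearGroup (Fin 2) F), P ≠ Q ∧ x ∈ P) : False := by
  obtain ⟨P0, hP0, -⟩ := hQ 1 ⟨0, by simp⟩
  by_cases hbot : ∀ x ∈ (Q : Subgroup (SpecialLinearGroup (Fin 2) F)), x = 1
  · apply hP0
    have hle : (Q : Subgroup (SpecialLinearGroup (Fin 2) F)) ≤ P0 := fun x hx => by
      rw [hbot x hx]; exact one_mem _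
    exact Sylow.ext (Q.is_maximal' P0.isPGroup' hle)
  · push Not at hbot
    obtain ⟨x, hxQ, hx1⟩ := hbot
    have hxo : ∃ k, orderOf x = p ^ k := by
      obtain ⟨k, hk⟩ := (IsPGroup.iff_orderOf.mp Q.isPGroup') ⟨x, hxQ⟩
      exact ⟨k, by rw [← hk, Subgroup.orderOf_mk]⟩
    obtain ⟨P, hP, hxP⟩ := hQ x hxo
    exact hP (sylow_eq_of_common p hns P Q x hxP hxQ hx1)

theorem nonscalar_of_odd (p : ℕ) [Fact p.Prime] (hp : p ≠ 2)
    (x : SpecialLinearGroup (Fin 2) F) (hx1 : x ≠ 1) (hxo : ∃ k : ℕ, orderOf x = p ^ k) (c : F) :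
    (x : Matrix (Fin 2) (Fin 2) F) ≠ c • 1 := by
  intro hc
  have hxx : x * x = 1 := by
    apply Subtype.ext
    have hdet := x.det_coe
    rw [hc] at hdet
    have hcc : c * c = 1 := by
      simp only [Matrix.det_fin_two, Matrix.smul_apply, Matrix.one_apply_eq, smul_eq_mul, mul_one,
        ne_eq, zero_ne_one, not_false_eq_true, Matrix.one_apply_ne, mul_zero, sub_zero,
        one_ne_zero] at hdet
      exact hdet
    show (x : Matrix (Fin 2) (Fin 2) F) * (x : Matrix (Fin 2) (Fin 2) F) = 1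
    rw [hc, Matrix.smul_mul, Matrix.one_mul, smul_smul, hcc, one_smul]
  obtain ⟨k, hk⟩ := hxo
  have h2 : orderOf x ∣ 2 := orderOf_dvd_of_pow_eq_one (by rw [pow_two]; exact hxx)
  rw [hk] at h2
  have hk0 : k = 0 := by
    by_contra hk0
    have : p ∣ 2 := (dvd_pow_self p hk0).trans h2
    exact hp ((Nat.prime_dvd_prime_iff_eq Fact.out Nat.prime_two).mp this)
  rw [hk0, pow_zero, orderOf_eq_one_iff] at hk
  exact hx1 hk

theorem nonscalar_of_char_two (h2 : (2 : F) = 0) (x : SpecialLinearGroup (Fin 2) F)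
    (hx1 : x ≠ 1) (c : F) : (x : Matrix (Fin 2) (Fin 2) F) ≠ c • 1 := by
  intro hc
  apply hx1
  have hdet := x.det_coe
  rw [hc] at hdet
  have hcc : c * c = 1 := by
    simp only [Matrix.det_fin_two, Matrix.smul_apply, Matrix.one_apply_eq, smul_eq_mul, mul_one,
      ne_eq, zero_ne_one, not_false_eq_true, Matrix.one_apply_ne, mul_zero, sub_zero,
      one_ne_zero] at hdet
    exact hdet
  have hc1 : c = 1 := by
    have : (c - 1) * (c - 1) = 0 := by linear_combination hcc - (c - 1) * h2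
    have := mul_self_eq_zero.mp this
    linear_combination this
  apply Subtype.ext
  rw [hc, hc1, one_smul]; rfl

namespace QSyl

variable {Q : Sylow 2 (SpecialLinearGroup (Fin 2) F)} {n : ℕ}
  {c y : SpecialLinearGroup (Fin 2) F}

theorem zpowers_le_centralizer (c : SpecialLinearGroup (Fin 2) F) :
    Subgroup.zpowers c ≤ Subgroup.centralizer ({c} : Set (SpecialLinearGroup (Fin 2) F)) := by
  rw [Subgroup.zpowers_le, Subgroup.mem_centralizer_singleton_iff]

/-- conjugating by an element inverting `c` preserves the centralizer of `c` -/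
theorem conj_mem_centralizer (c t g : SpecialLinearGroup (Fin 2) F) (ht : t * c * t⁻¹ = c⁻¹)
    (hg : g * c = c * g) : (t * g * t⁻¹) * c = c * (t * g * t⁻¹) := by
  have h1 : t * c = c⁻¹ * t := by rw [← ht]; group
  have h0 : c * (t * c) = t := by rw [h1]; group
  have h2 : c * t = t * c⁻¹ := by
    calc c * t = c * (t * c) * c⁻¹ := by group
      _ = t * c⁻¹ := by rw [h0]
  have ha : t⁻¹ * c = c⁻¹ * t⁻¹ := by
    calc t⁻¹ * c = t⁻¹ * (c * t) * t⁻¹ := by group
      _ = t⁻¹ * (t * c⁻¹) * t⁻¹ := by rw [h2]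
      _ = c⁻¹ * t⁻¹ := by group
  have hc : g * c⁻¹ = c⁻¹ * g := by
    calc g * c⁻¹ = c⁻¹ * (c * g) * c⁻¹ := by group
      _ = c⁻¹ * (g * c) * c⁻¹ := by rw [hg]
      _ = c⁻¹ * g := by group
  calc t * g * t⁻¹ * c = t * g * (t⁻¹ * c) := by group
    _ = t * g * (c⁻¹ * t⁻¹) := by rw [ha]
    _ = t * (g * c⁻¹) * t⁻¹ := by group
    _ = t * (c⁻¹ * g) * t⁻¹ := by rw [hc]
    _ = (t * c⁻¹) * g * t⁻¹ := by group
    _ = (c * t) * g * t⁻¹ := by rw [h2]
    _ = c * (t * g * t⁻¹) := by group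

/-- if the centralizer of `c` is a 2-group, it lies in `Q` -/
theorem centralizer_le (h : QSyl (Q : Subgroup (SpecialLinearGroup (Fin 2) F)) n c y)
    (hD : IsPGroup 2 (Subgroup.centralizer ({c} : Set (SpecialLinearGroup (Fin 2) F)))) :
    Subgroup.centralizer ({c} : Set (SpecialLinearGroup (Fin 2) F)) ≤
      (Q : Subgroup (SpecialLinearGroup (Fin 2) F)) := by
  have hyN : Subgroup.zpowers y ≤ Subgroup.normalizer
      ((Subgroup.centralizer ({c} : Set (SpecialLinearGroup (Fin 2) F)) :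
        Subgroup (SpecialLinearGroup (Fin 2) F)) : Set (SpecialLinearGroup (Fin 2) F)) := by
    rw [Subgroup.zpowers_le, Subgroup.mem_set_normalizer_iff]
    intro g
    rw [SetLike.mem_coe, SetLike.mem_coe, Subgroup.mem_centralizer_singleton_iff,
      Subgroup.mem_centralizer_singleton_iff]
    constructor
    · intro hg
      exact conj_mem_centralizer c y g h.conj hg
    · intro hg
      have hyinv : y⁻¹ * c * y⁻¹⁻¹ = c⁻¹ := by
        rw [inv_inv]
        calc y⁻¹ * c * y = y⁻¹ * (y * c⁻¹ * y⁻¹) * y := by rw [h.conj_inv]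
          _ = c⁻¹ := by group
      have h1 := conj_mem_centralizer c y⁻¹ (y * g * y⁻¹) hyinv hg
      have e : y⁻¹ * (y * g * y⁻¹) * y⁻¹⁻¹ = g := by group
      rw [e] at h1
      exact h1
  have hyP : IsPGroup 2 (Subgroup.zpowers y) :=
    Q.isPGroup'.to_le (Subgroup.zpowers_le.mpr h.hy)
  have hsup := IsPGroup.to_sup_of_normal_right' hyP hD hyN
  have hle : (Q : Subgroup (SpecialLinearGroup (Fin 2) F)) ≤ Subgroup.zpowers y ⊔
      Subgroup.centralizer ({c} : Set (SpecialLinearGroup (Fin 2) F)) := by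
    intro s hs
    have hci : ∀ i : ℕ, c ^ i ∈ Subgroup.zpowers y ⊔
        Subgroup.centralizer ({c} : Set (SpecialLinearGroup (Fin 2) F)) := fun i =>
      (le_sup_right : Subgroup.centralizer ({c} : Set (SpecialLinearGroup (Fin 2) F)) ≤ _)
        (zpowers_le_centralizer c (pow_mem (Subgroup.mem_zpowers c) i))
    obtain ⟨i, hi | hi⟩ := h.gen s hs
    · rw [hi]; exact hci i
    · rw [hi]
      exact mul_mem ((le_sup_left : Subgroup.zpowers y ≤ _) (Subgroup.mem_zpowers y)) (hci i)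
  have heq := Q.is_maximal' hsup hle
  rw [← heq]; exact le_sup_right

/-- if `C(c) ≤ Q`, the only Sylow 2-subgroup containing `c` is `Q` -/
theorem eq_of_mem [Finite (SpecialLinearGroup (Fin 2) F)] (p : ℕ) [Fact p.Prime] [CharP F p]
    (hp2 : p ≠ 2) (h : QSyl (Q : Subgroup (SpecialLinearGroup (Fin 2) F)) n c y)
    (hcardQ : Nat.card (Q : Subgroup (SpecialLinearGroup (Fin 2) F)) = 4 * n)
    (hD : Subgroup.centralizer ({c} : Set (SpecialLinearGroup (Fin 2) F)) ≤
      (Q : Subgroup (SpecialLinearGroup (Fin 2) F)))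
    (P : Sylow 2 (SpecialLinearGroup (Fin 2) F))
    (hcP : c ∈ (P : Subgroup (SpecialLinearGroup (Fin 2) F))) : P = Q := by
  have hcardP : Nat.card (P : Subgroup (SpecialLinearGroup (Fin 2) F)) =
      2 * Nat.card (Subgroup.zpowers c) := by
    rw [Nat.card_zpowers, h.ord]
    have e1 := P.card_eq_multiplicity
    have e2 := Q.card_eq_multiplicity
    have e3 : Nat.card (P : Subgroup (SpecialLinearGroup (Fin 2) F)) =
        Nat.card (Q : Subgroup (SpecialLinearGroup (Fin 2) F)) := e1.trans e2.symm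
    rw [e3, hcardQ]; ring
  have hzP : Subgroup.zpowers c ≤ (P : Subgroup (SpecialLinearGroup (Fin 2) F)) :=
    Subgroup.zpowers_le.mpr hcP
  have hPQ : (P : Subgroup (SpecialLinearGroup (Fin 2) F)) ≤ Q := by
    intro g hg
    have h1 : g * c * g⁻¹ ∈ Subgroup.zpowers c :=
      conj_mem_of_card_eq_two_mul _ _ hzP hcardP g c hg (Subgroup.mem_zpowers c)
    have h2 : (g * c * g⁻¹) * c = c * (g * c * g⁻¹) :=
      Subgroup.mem_centralizer_singleton_iff.mp (zpowers_le_centralizer c h1)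
    rcases Helper14.SL2_conj_comm hp2 c g (h.pow_ne p hp2) h2 with h3 | h3
    · apply hD
      rw [Subgroup.mem_centralizer_singleton_iff]
      exact mul_inv_eq_iff_eq_mul.mp h3
    · have h4 : y * g ∈ Subgroup.centralizer ({c} : Set (SpecialLinearGroup (Fin 2) F)) := by
        rw [Subgroup.mem_centralizer_singleton_iff]
        calc y * g * c = y * (g * c * g⁻¹) * g := by group
          _ = y * c⁻¹ * g := by rw [h3]
          _ = (y * c⁻¹ * y⁻¹) * (y * g) := by group
          _ = c * (y * g) := by rw [h.conj_inv]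
      have h5 : g = y⁻¹ * (y * g) := by group
      rw [h5]; exact mul_mem (inv_mem h.hy) (hD h4)
  exact Sylow.ext (P.is_maximal' Q.isPGroup' hPQ).symm

/-- for a redundant quaternion Sylow 2-subgroup the centralizer of `c` is not a 2-group -/
theorem centralizer_not_pow_two [Finite (SpecialLinearGroup (Fin 2) F)] (p : ℕ) [Fact p.Prime]
    [CharP F p] (hp2 : p ≠ 2) (h : QSyl (Q : Subgroup (SpecialLinearGroup (Fin 2) F)) n c y)
    (hcardQ : Nat.card (Q : Subgroup (SpecialLinearGroup (Fin 2) F)) = 4 * n)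
    (hn2 : ∃ k : ℕ, n = 2 ^ k)
    (hred : ∀ x : SpecialLinearGroup (Fin 2) F, (∃ k : ℕ, orderOf x = 2 ^ k) →
      ∃ P : Sylow 2 (SpecialLinearGroup (Fin 2) F), P ≠ Q ∧ x ∈ P) (j : ℕ) :
    Nat.card (Subgroup.centralizer ({c} : Set (SpecialLinearGroup (Fin 2) F))) ≠ 2 ^ j := by
  intro hj
  have hD := h.centralizer_le (IsPGroup.of_card hj)
  obtain ⟨k, hk⟩ := hn2
  obtain ⟨P, hPQ, hcP⟩ := hred c ⟨k + 1, by rw [h.ord, hk, pow_succ']⟩
  exact hPQ (h.eq_of_mem p hp2 hcardQ hD P hcP)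

/-- every noncentral element of `Q` is inverted by an element of `Q` -/
theorem exists_inv (h2 : (2 : F) ≠ 0)
    (h : QSyl (Q : Subgroup (SpecialLinearGroup (Fin 2) F)) n c y)
    (x : SpecialLinearGroup (Fin 2) F)
    (hx : x ∈ (Q : Subgroup (SpecialLinearGroup (Fin 2) F))) (hxx : x * x ≠ 1) :
    ∃ t ∈ (Q : Subgroup (SpecialLinearGroup (Fin 2) F)), t * x * t⁻¹ = x⁻¹ := by
  obtain ⟨i, hi | hi⟩ := h.gen x hx
  · refine ⟨y, h.hy, ?_⟩
    rw [hi, ← conj_pow, h.conj, inv_pow]
  · obtain ⟨m, hm⟩ := h.two_dvd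
    refine ⟨c ^ m, pow_mem h.hc m, ?_⟩
    have hcn : c ^ n = negOne F := by
      have h1 : c ^ n * c ^ n = 1 := by
        rw [← pow_add, ← two_mul, ← h.ord, pow_orderOf_eq_one]
      rcases eq_one_or_negOne_of_mul_self h2 _ h1 with h3 | h3
      · exfalso
        have hlt : n < orderOf c := by
          rw [h.ord]; have := h.ne_zero; omega
        exact pow_ne_one_of_lt_orderOf h.ne_zero hlt h3
      · exact h3
    have hx4 : x ^ 4 = 1 := by
      have h0 := pow_orderOf_eq_one x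
      have h4 : orderOf x = 4 := by rw [hi]; exact h.ordy i
      rwa [h4] at h0
    have hxx' : x * x = negOne F := by
      have h1 : (x * x) * (x * x) = 1 := by
        rw [← pow_two, ← pow_two, ← pow_mul]; exact hx4
      rcases eq_one_or_negOne_of_mul_self h2 _ h1 with h3 | h3
      · exact absurd h3 hxx
      · exact h3
    have hxinv : x⁻¹ = negOne F * x := inv_eq_of_mul_self x hxx'
    obtain ⟨w, hw⟩ : ∃ w, w = c ^ m := ⟨_, rfl⟩
    have hyw : y * w = w⁻¹ * y := by
      have h5 : y * w * y⁻¹ = w⁻¹ := by rw [hw, ← conj_pow, h.conj, inv_pow]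
      rw [← h5]; group
    have hwy : w * y = y * w⁻¹ := by
      calc w * y = w * (y * w) * w⁻¹ := by group
        _ = w * (w⁻¹ * y) * w⁻¹ := by rw [hyw]
        _ = y * w⁻¹ := by group
    have hcomm : w⁻¹ * c ^ i = c ^ i * w⁻¹ := by
      have h6 : Commute w (c ^ i) := by rw [hw]; exact Commute.pow_pow_self c m i
      exact h6.inv_left.eq
    have hww : w * w = negOne F := by
      rw [hw, ← pow_add, ← two_mul, ← hm, hcn]
    rw [hxinv, hi, ← hw]
    calc w * (y * c ^ i) * w⁻¹ = (w * y) * c ^ i * w⁻¹ := by group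
      _ = y * (w⁻¹ * c ^ i) * w⁻¹ := by rw [hwy]; group
      _ = y * c ^ i * (w⁻¹ * w⁻¹) := by rw [hcomm]; group
      _ = y * c ^ i * (w * w)⁻¹ := by rw [_root_.mul_inv_rev]
      _ = y * c ^ i * negOne F := by rw [hww, negOne_inv]
      _ = negOne F * (y * c ^ i) := (negOne_comm _).symm

/-- a quaternion Sylow 2-subgroup of `SL₂(q)` is redundant when `q ± 1` are not powers of 2 -/
theorem redundant [Fintype F] (p : ℕ) [Fact p.Prime] [CharP F p] (hp2 : p ≠ 2)
    (h : QSyl (Q : Subgroup (SpecialLinearGroup (Fin 2) F)) n c y)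
    (hcardQ : Nat.card (Q : Subgroup (SpecialLinearGroup (Fin 2) F)) = 4 * n)
    (hn2 : ∃ k : ℕ, n = 2 ^ k)
    (hq1 : ¬ ∃ k : ℕ, Fintype.card F - 1 = 2 ^ k) (hq2 : ¬ ∃ k : ℕ, Fintype.card F + 1 = 2 ^ k)
    (x : SpecialLinearGroup (Fin 2) F) (hxo : ∃ k : ℕ, orderOf x = 2 ^ k) :
    ∃ P : Sylow 2 (SpecialLinearGroup (Fin 2) F), P ≠ Q ∧ x ∈ P := by
  classical
  have h2 : (2 : F) ≠ 0 := two_ne_zero_of_char p hp2
  obtain ⟨k, hk⟩ := hn2
  have key1 : ∀ x ∈ (Q : Subgroup (SpecialLinearGroup (Fin 2) F)), x * x ≠ 1 →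
      ∃ g, g * x = x * g ∧ g ∉ Subgroup.normalizer
        ((Q : Subgroup (SpecialLinearGroup (Fin 2) F)) : Set (SpecialLinearGroup (Fin 2) F)) := by
    intro x hxQ hxx
    obtain ⟨j, hj⟩ := (IsPGroup.iff_orderOf.mp Q.isPGroup') ⟨x, hxQ⟩
    rw [Subgroup.orderOf_mk] at hj
    have htr := trace_sq_ne_of_two_elt p hp2 x j hj hxx
    have hcard := card_centralizer_singleton h2 x htr
    have hnle : ¬ Subgroup.centralizer ({x} : Set (SpecialLinearGroup (Fin 2) F)) ≤
        (Q : Subgroup (SpecialLinearGroup (Fin 2) F)) := by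
      intro hle
      have hdvd := Subgroup.card_dvd_of_le hle
      rw [hcardQ, hk] at hdvd
      have h4 : (4 : ℕ) * 2 ^ k = 2 ^ (k + 2) := by ring
      rw [h4] at hdvd
      obtain ⟨i, -, hi⟩ := (Nat.dvd_prime_pow Nat.prime_two).mp hdvd
      rcases hcard with h5 | h5
      · exact hq1 ⟨i, h5.symm.trans hi⟩
      · exact hq2 ⟨i, h5.symm.trans hi⟩
    obtain ⟨g, hgD, hgQ⟩ := SetLike.not_le_iff_exists.mp hnle
    obtain ⟨t, ht, htx⟩ := h.exists_inv h2 x hxQ hxx
    refine ⟨g, Subgroup.mem_centralizer_singleton_iff.mp hgD, fun hgN => hgQ ?_⟩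
    exact sylow_two_mem_of_comm Q x t g ht hxx htx hgN
      (Subgroup.mem_centralizer_singleton_iff.mp hgD)
  by_cases hxQ : x ∈ (Q : Subgroup (SpecialLinearGroup (Fin 2) F))
  · by_cases hxx : x * x = 1
    · obtain ⟨g, -, hgN⟩ := key1 c h.hc h.cc_ne
      have hgx : g * x = x * g := by
        rcases eq_one_or_negOne_of_mul_self h2 x hxx with rfl | rfl
        · simp
        · exact (negOne_comm g).symm
      exact exists_other_sylow Q x g hxQ hgx hgN
    · obtain ⟨g, hgx, hgN⟩ := key1 x hxQ hxx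
      exact exists_other_sylow Q x g hxQ hgx hgN
  · obtain ⟨j, hj⟩ := hxo
    have hz : IsPGroup 2 (Subgroup.zpowers x) := by
      apply IsPGroup.of_card (n := j)
      rw [Nat.card_zpowers, hj]
    obtain ⟨P, hP⟩ := hz.exists_le_sylow
    refine ⟨P, ?_, hP (Subgroup.mem_zpowers x)⟩
    rintro rfl
    exact hxQ (hP (Subgroup.mem_zpowers x))

end QSyl

end red

end Cfsg.Agent.Lib.Helper54
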