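import Mathlib
import Cfsg.Prelude.Def_GeometricClasses
import Cfsg.Prelude.Def_LieClassical
import Cfsg.Agent.Lib.Helper71.Asch0
import Cfsg.Agent.Lib.Helper71.Asch5
import Cfsg.Agent.Lib.Helper54.SP4OE2Defs

/-! Project SP4O (helper54; S5787, Sp_4(q), q odd): piece `E2S`. q = 3: the standard extraspecial group R0 = 2^(1+4)_- = O_2 of the normaliser of F[j0] in Sp(G0). -/

set_option autoImplicit false

namespace Cfsg.Agent.Lib.Helper54.SP4O

open Matrix Cfsg.Geo Cfsg.Agent.Lib.Helper71.Asch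

variable {F : Type*} [Field F] [Fintype F]

/-- E2S -/
theorem E2S (hq : Fintype.card F = 3) :
    ∃ R₀ : Subgroup (GL (Fin 4) F), IsSymplecticTypeGroup 2 R₀ ∧
      ActsAbsolutelyIrreducibly (matrixSet R₀) ∧
      (∀ x ∈ R₀, x.1ᵀ * E2G0 F * x.1 = E2G0 F) ∧ Nat.card R₀ = 32 ∧
      Nat.card (Subgroup.center R₀) = 2 ∧
      ∀ g : GL (Fin 4) F, g.1ᵀ * E2G0 F * g.1 = E2G0 F →
        (∃ a b : F, g.1 * E2j0 F * (g⁻¹ : GL (Fin 4) F).1 =
          a • (1 : Matrix (Fin 4) (Fin 4) F) + b • E2j0 F) →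
        g ∈ subgroupNormalizer R₀ := by
  sorry

end Cfsg.Agent.Lib.Helper54.SP4O
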