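import Mathlib
import Cfsg.Prelude.Def_GeometricClasses
import Cfsg.Prelude.Def_LieClassical
import Cfsg.Agent.Lib.Helper71.Asch0
import Cfsg.Agent.Lib.Helper71.Asch5
import Cfsg.Agent.Lib.Helper65.FR5T1a
import Cfsg.Agent.Lib.Helper65.FR5T1b
import Cfsg.Agent.Lib.Helper54.SP4OE2Defs
import Cfsg.Agent.Lib.Helper54.SP4OE2N1
import Cfsg.Agent.Lib.Helper54.SP4OE2N2
import Cfsg.Agent.Lib.Helper54.SP4OE2S

/-! Project SP4O (helper54; S5787, Sp_4(q), q odd): piece `E2`. q = 3: the normaliser of a quadratic field subalgebra of unitary type normalises an extraspecial group 2^(1+4)_-.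
Glue of `E2N1` (K = F[j]), `E2N2` (normal form) and `E2S` (the standard group). -/

set_option autoImplicit false
set_option linter.unusedSectionVars false

namespace Cfsg.Agent.Lib.Helper54.SP4O

open Matrix Cfsg.Geo Cfsg.Agent.Lib.Helper71.Asch

variable {F : Type*} [Field F] [Fintype F]

theorem E2_dot (x G : Matrix (Fin 4) (Fin 4) F) (a b : Fin 4 → F) :
    (x *ᵥ a) ⬝ᵥ (G *ᵥ (x *ᵥ b)) = a ⬝ᵥ ((xᵀ * G * x) *ᵥ b) := by
  rw [← Matrix.mulVec_mulVec, ← Matrix.mulVec_mulVec, Matrix.dotProduct_mulVec a xᵀ,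
    Matrix.vecMul_transpose]

theorem E2_ext (A B : Matrix (Fin 4) (Fin 4) F)
    (h : ∀ u v : Fin 4 → F, u ⬝ᵥ (A *ᵥ v) = u ⬝ᵥ (B *ᵥ v)) : A = B := by
  ext i j
  have := h (Pi.single i 1) (Pi.single j 1)
  simpa [Matrix.mulVec_single_one, single_one_dotProduct] using this

theorem E2_mem_map (P : GL (Fin 4) F) (R₀ : Subgroup (GL (Fin 4) F)) (h : GL (Fin 4) F) :
    h ∈ R₀.map (MulAut.conj P).toMonoidHom ↔ P⁻¹ * h * P ∈ R₀ := by
  constructor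
  · rintro ⟨x, hx, rfl⟩
    have : P⁻¹ * ((MulAut.conj P).toMonoidHom x) * P = x := by
      show P⁻¹ * (P * x * P⁻¹) * P = x
      group
    rw [this]
    exact hx
  · intro hx
    refine ⟨P⁻¹ * h * P, hx, ?_⟩
    show P * (P⁻¹ * h * P) * P⁻¹ = h
    group

/-- E2 -/
theorem E2 (hq : Fintype.card F = 3) (f : (Fin 4 → F) → (Fin 4 → F) → F)
    (hf : IsSymplecticForm f) (H : Subgroup (GL (Fin 4) F)) (hfix : FixesForm (matrixSet H) f)
    (K : Subalgebra F (Matrix (Fin 4) (Fin 4) F)) (hK : IsFieldSubalgebra 2 K)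
    (hadj : IsAdjointClosedFor f K) (hsa : ¬ IsSelfAdjointFor f K)
    (hHK : H ≤ subalgebraNormalizer K) :
    ∃ R : Subgroup (GL (Fin 4) F), IsSymplecticTypeGroup 2 R ∧
      ActsAbsolutelyIrreducibly (matrixSet R) ∧ FixesForm (matrixSet R) f ∧ Nat.card R = 32 ∧
      Nat.card (Subgroup.center R) = 2 ∧ H ≤ subgroupNormalizer R := by
  classical
  obtain ⟨j, hj, hskew, hKj⟩ := E2N1 hq f hf K hK hadj hsa
  obtain ⟨P, hP, hjP⟩ := E2N2 hq f hf j hj hskew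
  obtain ⟨R₀, hst, hai, hR₀fix, hc, hz, hnorm⟩ := E2S (F := F) hq
  have hPi : (P⁻¹ : GL (Fin 4) F).1 * P.1 = 1 := by
    rw [← Units.val_mul, inv_mul_cancel, Units.val_one]
  have hPi' : P.1 * (P⁻¹ : GL (Fin 4) F).1 = 1 := by
    rw [← Units.val_mul, mul_inv_cancel, Units.val_one]
  have e : R₀ ≃* R₀.map (MulAut.conj P).toMonoidHom := (MulAut.conj P).subgroupMap R₀
  refine ⟨R₀.map (MulAut.conj P).toMonoidHom, Cfsg.Agent.Lib.Helper65.FR5.T1a 2 _ _ e hst,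
    Cfsg.Agent.Lib.Helper65.FR5.T1b _ P hai, ?_, (Nat.card_congr e.symm.toEquiv).trans hc,
    (Nat.card_congr (Subgroup.centerCongr e).symm.toEquiv).trans hz, ?_⟩
  · rintro s ⟨g, ⟨x, hx, rfl⟩, rfl⟩ u v
    have hu : ∀ w : Fin 4 → F, (P.1 * x.1 * (P⁻¹ : GL (Fin 4) F).1) *ᵥ w =
        P.1 *ᵥ (x.1 *ᵥ ((P⁻¹ : GL (Fin 4) F).1 *ᵥ w)) := by
      intro w
      rw [Matrix.mulVec_mulVec, Matrix.mulVec_mulVec, Matrix.mul_assoc]
    have hw : ∀ w : Fin 4 → F, P.1 *ᵥ ((P⁻¹ : GL (Fin 4) F).1 *ᵥ w) = w := by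
      intro w
      rw [Matrix.mulVec_mulVec, hPi', Matrix.one_mulVec]
    show f ((P.1 * x.1 * (P⁻¹ : GL (Fin 4) F).1) *ᵥ u)
      ((P.1 * x.1 * (P⁻¹ : GL (Fin 4) F).1) *ᵥ v) = f u v
    rw [hu, hu, hP, E2_dot, hR₀fix x hx, ← hP, hw, hw]
  · intro g hg
    have hgK := hHK hg
    -- `g' = P⁻¹ g P`
    obtain ⟨g', hg'⟩ : ∃ g' : GL (Fin 4) F, g' = P⁻¹ * g * P := ⟨_, rfl⟩
    have hPg : P.1 * g'.1 = g.1 * P.1 := by
      rw [hg', Units.val_mul, Units.val_mul, ← Matrix.mul_assoc, ← Matrix.mul_assoc, hPi',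
        Matrix.one_mul]
    have h1 : g'.1ᵀ * E2G0 F * g'.1 = E2G0 F := by
      apply E2_ext
      intro u v
      rw [← E2_dot, ← hP, Matrix.mulVec_mulVec, Matrix.mulVec_mulVec, hPg,
        ← Matrix.mulVec_mulVec, ← Matrix.mulVec_mulVec, hfix g.1 ⟨g, hg, rfl⟩, hP]
    have hjK : j ∈ K := (hKj j).2 ⟨0, 1, by rw [zero_smul, one_smul, zero_add]⟩
    have hjj : j = P.1 * E2j0 F * (P⁻¹ : GL (Fin 4) F).1 := by
      rw [← hjP, Matrix.mul_assoc, hPi', Matrix.mul_one]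
    have hj0 : (P⁻¹ : GL (Fin 4) F).1 * j * P.1 = E2j0 F := by
      rw [Matrix.mul_assoc, hjP, ← Matrix.mul_assoc, hPi, Matrix.one_mul]
    obtain ⟨a, b, hab⟩ := (hKj _).1 ((hgK j).1 hjK)
    have h2 : ∃ a b : F, g'.1 * E2j0 F * (g'⁻¹ : GL (Fin 4) F).1 =
        a • (1 : Matrix (Fin 4) (Fin 4) F) + b • E2j0 F := by
      refine ⟨a, b, ?_⟩
      have hg'i : (g'⁻¹ : GL (Fin 4) F).1 =
          (P⁻¹ : GL (Fin 4) F).1 * (g⁻¹ : GL (Fin 4) F).1 * P.1 := by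
        rw [hg']
        simp [mul_assoc]
      have hg'v : g'.1 = (P⁻¹ : GL (Fin 4) F).1 * g.1 * P.1 := by
        rw [hg']
        simp
      calc g'.1 * E2j0 F * (g'⁻¹ : GL (Fin 4) F).1
          = (P⁻¹ : GL (Fin 4) F).1 * (g.1 * (P.1 * E2j0 F * (P⁻¹ : GL (Fin 4) F).1) *
              (g⁻¹ : GL (Fin 4) F).1) * P.1 := by
            rw [hg'i, hg'v]
            simp only [Matrix.mul_assoc]
        _ = (P⁻¹ : GL (Fin 4) F).1 * (a • (1 : Matrix (Fin 4) (Fin 4) F) + b • j) * P.1 := by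
            rw [← hjj, hab]
        _ = a • (1 : Matrix (Fin 4) (Fin 4) F) + b • E2j0 F := by
            rw [Matrix.mul_add, Matrix.add_mul, Matrix.mul_smul, Matrix.smul_mul, Matrix.mul_one,
              hPi, Matrix.mul_smul, Matrix.smul_mul, hj0]
    have h3 := hnorm g' h1 h2
    unfold subgroupNormalizer at h3 ⊢
    rw [Subgroup.mem_normalizer_iff] at h3 ⊢
    intro h
    show h ∈ R₀.map (MulAut.conj P).toMonoidHom ↔ g * h * g⁻¹ ∈ R₀.map (MulAut.conj P).toMonoidHom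
    rw [E2_mem_map, E2_mem_map]
    have h4 := h3 (P⁻¹ * h * P)
    have h5 : g' * (P⁻¹ * h * P) * g'⁻¹ = P⁻¹ * (g * h * g⁻¹) * P := by
      rw [hg']
      group
    rw [h5] at h4
    exact h4

end Cfsg.Agent.Lib.Helper54.SP4O
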