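import Mathlib

/-!
# Redundant Sylow subgroups and central quotients (helper54)

A Sylow `p`-subgroup `Q` is *redundant* if every `p`-element lies in a Sylow `p`-subgroup other
than `Q`.  Existence of a redundant Sylow `p`-subgroup is invariant under surjections with
central kernel.
-/

set_option autoImplicit false

namespace Cfsg.Agent.Lib.Helper54

section transfer

variable {G H : Type*} [Group G] [Group H]

/-- a `p`-subgroup whose image lies in the image of a Sylow `p`-subgroup `P` lies in `P`,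
when the kernel is central -/
theorem le_sylow_of_map_le (f : G →* H) (hker : f.ker ≤ Subgroup.center G) {p : ℕ}
    [Fact p.Prime] (P : Sylow p G) (K : Subgroup G) (hK : IsPGroup p K)
    (hle : K.map f ≤ (P : Subgroup G).map f) : K ≤ (P : Subgroup G) := by
  have hN : K ≤ Subgroup.normalizer ((P : Subgroup G) : Set G) := by
    intro k hk
    obtain ⟨u, hu, huk⟩ := hle (Subgroup.mem_map_of_mem f hk)
    have hz : u⁻¹ * k ∈ Subgroup.center G := by
      apply hker
      rw [MonoidHom.mem_ker, map_mul, map_inv, huk, inv_mul_cancel]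
    rw [Subgroup.mem_center_iff] at hz
    rw [Subgroup.mem_set_normalizer_iff]
    intro h
    have e : k * h * k⁻¹ = u * h * u⁻¹ := by
      have h1 : k = u * (u⁻¹ * k) := by group
      have h2 := hz h
      calc k * h * k⁻¹ = u * ((u⁻¹ * k) * h) * k⁻¹ := by group
        _ = u * (h * (u⁻¹ * k)) * k⁻¹ := by rw [← h2]
        _ = u * h * u⁻¹ := by group
    rw [e]
    constructor
    · intro hh
      exact mul_mem (mul_mem hu hh) (inv_mem hu)
    · intro hh
      have h3 : h = u⁻¹ * (u * h * u⁻¹) * u := by group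
      rw [h3]
      exact mul_mem (mul_mem (inv_mem hu) hh) hu
  have hsup := IsPGroup.to_sup_of_normal_right' hK P.isPGroup' hN
  have h1 : K ⊔ (P : Subgroup G) = P := P.is_maximal' hsup le_sup_right
  rw [← h1]; exact le_sup_left

/-- existence of a redundant Sylow `p`-subgroup passes through central quotients -/
theorem redundant_sylow_iff_of_central [Finite G] (f : G →* H) (hf : Function.Surjective f)
    (hker : f.ker ≤ Subgroup.center G) (p : ℕ) [Fact p.Prime] :
    (∃ Q : Sylow p H, ∀ x : H, (∃ k : ℕ, orderOf x = p ^ k) →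
        ∃ P : Sylow p H, P ≠ Q ∧ x ∈ P) ↔
    (∃ Q : Sylow p G, ∀ x : G, (∃ k : ℕ, orderOf x = p ^ k) →
        ∃ P : Sylow p G, P ≠ Q ∧ x ∈ P) := by
  constructor
  · rintro ⟨Q', hQ'⟩
    obtain ⟨Q, rfl⟩ := Sylow.mapSurjective_surjective hf p Q'
    refine ⟨Q, ?_⟩
    rintro x ⟨k, hk⟩
    have hfx : ∃ j : ℕ, orderOf (f x) = p ^ j := by
      have h1 : orderOf (f x) ∣ p ^ k := hk ▸ orderOf_map_dvd f x
      obtain ⟨j, -, hj⟩ := (Nat.dvd_prime_pow Fact.out).mp h1
      exact ⟨j, hj⟩
    obtain ⟨P', hP', hxP'⟩ := hQ' (f x) hfx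
    obtain ⟨P, rfl⟩ := Sylow.mapSurjective_surjective hf p P'
    refine ⟨P, ?_, ?_⟩
    · rintro rfl
      exact hP' rfl
    · have hz : IsPGroup p (Subgroup.zpowers x) := by
        apply IsPGroup.of_card (n := k)
        rw [Nat.card_zpowers, hk]
      have hle : (Subgroup.zpowers x).map f ≤ (P : Subgroup G).map f := by
        rw [MonoidHom.map_zpowers, Subgroup.zpowers_le]
        exact hxP'
      exact le_sylow_of_map_le f hker P _ hz hle (Subgroup.mem_zpowers x)
  · rintro ⟨Q, hQ⟩
    refine ⟨Q.mapSurjective hf, ?_⟩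
    rintro x' ⟨k, hk⟩
    have hz : IsPGroup p (Subgroup.zpowers x') := by
      apply IsPGroup.of_card (n := k)
      rw [Nat.card_zpowers, hk]
    obtain ⟨P0', hP0'⟩ := hz.exists_le_sylow
    obtain ⟨P0, rfl⟩ := Sylow.mapSurjective_surjective hf p P0'
    obtain ⟨x, hxP0, rfl⟩ : ∃ x ∈ (P0 : Subgroup G), f x = x' :=
      hP0' (Subgroup.mem_zpowers x')
    have hxo : ∃ j : ℕ, orderOf x = p ^ j := by
      obtain ⟨j, hj⟩ := (IsPGroup.iff_orderOf.mp P0.isPGroup') ⟨x, hxP0⟩
      exact ⟨j, by rw [← hj, Subgroup.orderOf_mk]⟩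
    obtain ⟨P, hP, hxP⟩ := hQ x hxo
    refine ⟨P.mapSurjective hf, ?_, ?_⟩
    · intro heq
      apply hP
      have h1 : (P : Subgroup G).map f = (Q : Subgroup G).map f := by
        have := congrArg (fun S : Sylow p H => (S : Subgroup H)) heq
        simpa using this
      have hPQ : (P : Subgroup G) ≤ Q := le_sylow_of_map_le f hker Q _ P.isPGroup' h1.le
      exact Sylow.ext (P.is_maximal' Q.isPGroup' hPQ).symm
    · show f x ∈ (P : Subgroup G).map f
      exact Subgroup.mem_map_of_mem f hxP

end transfer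

end Cfsg.Agent.Lib.Helper54
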